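import Cfsg.Agent.H129.TorusUntw
import Cfsg.Agent.Prune
set_option linter.all false
prune_inst 0x7f00000000000000000000000000000000000000000000000000000000000000000000000000000000000000000000000000000000000000000000000000000000000000000000000000000000000000003fffffffffffffffffffffffffffbeffbdffffffff
open scoped Cfsg.Agent.FastGrp

/-!
# Subgroups of the torus of `D.group k` invariant under the Weyl group (helper629)

* `cX_hc` : the characters of the coroot elements `hc hp i c`;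
* `conj_simple` : `n t n⁻¹ = t * (hc i (cX t α_i))⁻¹`, `n` a representative of a fundamental reflection;
* `WInv B` : `B` is invariant under the representatives of the fundamental reflections; `hc_mem_of_winv`;
* `spread` : `hc i c ∈ B` (all `c` with `c ^ P = 1`) for one `i` gives all `i`;
* `V0 p` : the subgroup generated by the `hc i ω`, `ω ^ p = 1`; `V0_le`;
* `Th P` : the elements `∏ hc i (c_i)`, `c_i ^ P = 1`; `Th_le_of_comm`.
-/

set_option autoImplicit false
set_option linter.unusedSectionVars false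

namespace Cfsg.Agent.H629.ExcTor

open CoxeterSystem Cfsg Cfsg.Lie Cfsg.Lie.ChevalleyDatum
open Cfsg.Agent.ChevalleyStructure Cfsg.Agent.ChevalleyStructure.Elts Cfsg.Agent.ChevalleyStructure.CoxeterGeom
  Cfsg.Agent.ChevalleyStructure.CoxeterGeomTypes Cfsg.Agent.ChevalleyStructure.NPerm
open Cfsg.Agent.Tits.Roots Cfsg.Agent.Tits.Core Cfsg.Agent.Nodes Cfsg.Agent.Nodes.Reps Cfsg.Agent.Nodes.BNOf
  Cfsg.Agent.Nodes.RGDChev Cfsg.Agent.Nodes.Bruhat Cfsg.Agent.Nodes.SubComb Cfsg.Agent.Nodes.Coroot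
open Cfsg.Agent.KFacts.RgdField Cfsg.Agent.KFacts.RgdChevCoord Cfsg.Agent.BpExc.TorCent Cfsg.Agent.BpExc.TorChev
open Cfsg.Agent.GpExc.Field Cfsg.Agent.BpExc.Tow Cfsg.Agent.BpExc.TowChev Cfsg.Agent.BpExc.Fr
  Cfsg.Agent.BpExc.LangFr Cfsg.Agent.LangThm Cfsg.Agent.BpExc Cfsg.Agent.H129.TorusChar Cfsg.Agent.H129.TorusCent
  Cfsg.Agent.H129.TorusTw Cfsg.Agent.H129.TorusMain

universe u

variable {D : ChevalleyDatum} {l : ℕ} {M : CoxeterMatrix (Fin l)} (hp : IsType D l M) {k : Type u} [Field k]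

/-! ### characters -/

theorem cX_inv {t : ↥(D.group k)} (ht : t ∈ TT D k) (x : Fin l → ℤ) : cX hp t⁻¹ x = (cX hp t x)⁻¹ := by
  have h := cX_mul hp ht (inv_mem ht) x
  rw [mul_inv_cancel, cX_one] at h
  exact eq_inv_of_mul_eq_one_right h.symm

theorem cX_zpow {t : ↥(D.group k)} (ht : t ∈ TT D k) (n : ℤ) (x : Fin l → ℤ) :
    cX hp (t ^ n) x = cX hp t x ^ n := by
  obtain ⟨m, rfl | rfl⟩ := Int.eq_nat_or_neg n
  · rw [zpow_natCast, zpow_natCast, cX_pow hp ht]
  · rw [zpow_neg, zpow_neg, zpow_natCast, zpow_natCast, cX_inv hp (pow_mem ht _), cX_pow hp ht]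

theorem isMC_pairing (i : Fin l) {c : k} (hc0 : c ≠ 0) : IsMC (fun x : Fin l → ℤ => c ^ pairing (cartanOf D l) i x) where
  zero := by
    show c ^ pairing (cartanOf D l) i 0 = 1
    have : pairing (cartanOf D l) i 0 = 0 := by unfold pairing; simp
    rw [this, zpow_zero]
  add x y := by
    show c ^ pairing (cartanOf D l) i (x + y) = _
    rw [pairing_add, zpow_add₀ hc0]

include hp in
theorem pairing_sr (i j : Fin l) : pairing (cartanOf D l) i (sr j) = cartanOf D l i j := by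
  rw [← vec_simple hp j, pairing_vec hp i (simple_lt hp.inList (lt_rank hp j))]
  rfl

theorem cX_hc (i : Fin l) {c : k} (hc0 : c ≠ 0) (x : Fin l → ℤ) :
    cX hp (hc hp i c) x = c ^ pairing (cartanOf D l) i x := by
  refine (isMC_cX hp (hc_mem hp i hc0)).ext (isMC_pairing i hc0) (fun j => ?_) x
  show cX hp (hc hp i c) (sr j) = c ^ pairing (cartanOf D l) i (sr j)
  rw [pairing_sr hp, cX_sr, ← vec_simple hp j, ch_hc hp i hc0 (simple_lt hp.inList (lt_rank hp j))]
  rfl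

theorem hc_mul (i : Fin l) {c d : k} (hc0 : c ≠ 0) (hd0 : d ≠ 0) : hc hp i c * hc hp i d = hc hp i (c * d) := by
  refine cX_inj hp (mul_mem (hc_mem hp i hc0) (hc_mem hp i hd0)) (hc_mem hp i (mul_ne_zero hc0 hd0)) fun j => ?_
  rw [cX_mul hp (hc_mem hp i hc0) (hc_mem hp i hd0), cX_hc hp i hc0, cX_hc hp i hd0, cX_hc hp i (mul_ne_zero hc0 hd0),
    mul_zpow]

theorem hc_one (i : Fin l) : hc hp i (1 : k) = 1 := by
  refine cX_inj hp (hc_mem hp i one_ne_zero) (one_mem _) fun j => ?_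
  rw [cX_hc hp i one_ne_zero, cX_one, one_zpow]

theorem hc_pow (i : Fin l) {c : k} (hc0 : c ≠ 0) (n : ℕ) : hc hp i c ^ n = hc hp i (c ^ n) := by
  induction n with
  | zero => rw [pow_zero, pow_zero, hc_one]
  | succ n ih => rw [pow_succ, ih, hc_mul hp i (pow_ne_zero n hc0) hc0, pow_succ]

/-! ### reflections -/

section Refl

variable {W : Type*} [Group W] (cs : CoxeterSystem M W) {hN : NSys M (TT D k) (nc hp k)} (hk : LocFin k) (r : ℕ)
  [Fact r.Prime] [CharP k r]

include hk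

theorem conj_mem {w : W} {n : ↥(D.group k)} (hn : Rp cs hN w n) {t : ↥(D.group k)} (ht : t ∈ TT D k) :
    n * t * n⁻¹ ∈ TT D k := (Subgroup.mem_normalizer_iff.1 hn.mem_normalizer t).1 ht

include r in
theorem cX_conj {w : W} {n : ↥(D.group k)} (hn : Rp cs hN w n) {t : ↥(D.group k)} (ht : t ∈ TT D k)
    (x : Fin l → ℤ) : cX hp (n * t * n⁻¹) x = cX hp t (rep cs hp.isCartan w⁻¹ x) := by
  have h := cX_rp hp cs hk r hn ht (rep cs hp.isCartan w⁻¹ x)
  rwa [← rep_mul_apply, mul_inv_cancel, map_one, Module.End.one_apply] at h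

include r in
/-- Conjugation by a representative of a fundamental reflection. -/
theorem conj_simple {i : Fin l} {n : ↥(D.group k)} (hn : Rp cs hN (cs.simple i) n) {t : ↥(D.group k)}
    (ht : t ∈ TT D k) : n * t * n⁻¹ = t * (hc hp i (cX hp t (sr i)))⁻¹ := by
  have h0 := (isMC_cX hp ht).ne_zero (sr i)
  have hm := hc_mem hp i h0
  refine cX_inj hp (conj_mem hp cs hk hn ht) (mul_mem ht (inv_mem hm)) fun j => ?_
  rw [cX_conj hp cs hk r hn ht, cX_mul hp ht (inv_mem hm), cX_inv hp hm, cX_hc hp i h0, cs.inv_simple, rep_simple_eq,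
    (isMC_cX hp ht).sub, (isMC_cX hp ht).zsmul, div_eq_mul_inv]

end Refl

/-! ### invariant subgroups -/

/-- Invariance under the fundamental reflections (see `conj_simple`). -/
def WInv (B : Subgroup ↥(D.group k)) : Prop := ∀ (i : Fin l), ∀ b ∈ B, hc hp i (cX hp b (sr i)) ∈ B

/-- The subgroup generated by the `hc i c` with `c ^ P = 1`. -/
def Hc (P : ℕ) : Subgroup ↥(D.group k) := Subgroup.closure {t | ∃ (i : Fin l) (c : k), c ^ P = 1 ∧ t = hc hp i c}

theorem ne_zero_of_pow {P : ℕ} (hP : P ≠ 0) {c : k} (h : c ^ P = 1) : c ≠ 0 := by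
  rintro rfl
  rw [zero_pow hP] at h
  exact zero_ne_one h

theorem hc_mem_Hc {P : ℕ} {c : k} (h : c ^ P = 1) (i : Fin l) : hc hp i c ∈ Hc hp (k := k) P :=
  Subgroup.subset_closure ⟨i, c, h, rfl⟩

theorem Hc_le {P : ℕ} {B : Subgroup ↥(D.group k)} (h : ∀ (i : Fin l) (c : k), c ^ P = 1 → hc hp i c ∈ B) :
    Hc hp P ≤ B := by
  unfold Hc
  rw [Subgroup.closure_le]
  rintro _ ⟨i, c, hc', rfl⟩
  exact h i c hc'

theorem Hc_le_TT {P : ℕ} (hP : P ≠ 0) : Hc hp (k := k) P ≤ TT D k :=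
  Hc_le hp fun i _ hc' => hc_mem hp i (ne_zero_of_pow hP hc')

theorem pow_of_mem_Hc {P : ℕ} (hP : P ≠ 0) {t : ↥(D.group k)} (ht : t ∈ Hc hp P) : t ^ P = 1 := by
  induction ht using Subgroup.closure_induction with
  | mem x hx =>
    obtain ⟨i, c, hc', rfl⟩ := hx
    rw [hc_pow hp i (ne_zero_of_pow hP hc'), hc', hc_one]
  | one => exact one_pow _
  | mul x y hx hy h1 h2 =>
    have hx' := Hc_le_TT hp hP hx
    have hy' := Hc_le_TT hp hP hy
    rw [(show Commute x y from TT_comm hp x hx' y hy').mul_pow, h1, h2, one_mul]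
  | inv x _ h1 => rw [inv_pow, h1, inv_one]

/-- `P` is prime to the nonzero Cartan integers. -/
def Cop (D : ChevalleyDatum) (l : ℕ) (P : ℕ) : Prop :=
  ∀ i j : Fin l, cartanOf D l i j ≠ 0 → IsCoprime (cartanOf D l i j) (P : ℤ)

/-- Connectedness of the diagram. -/
def Conn (D : ChevalleyDatum) (l : ℕ) : Prop :=
  ∀ S : Finset (Fin l), S.Nonempty → (∀ i ∈ S, ∀ j, cartanOf D l i j ≠ 0 → j ∈ S) → S = Finset.univ

instance instDecidableConn629 (D : ChevalleyDatum) (l : ℕ) : Decidable (Conn D l) := by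
  unfold Conn; infer_instance

section Spread

variable {P : ℕ} (hP : P ≠ 0) {B : Subgroup ↥(D.group k)} (hB : WInv hp B)

include hB hP

theorem spread_one {i j : Fin l} (hij : IsCoprime (cartanOf D l i j) (P : ℤ))
    (h : ∀ c : k, c ^ P = 1 → hc hp i c ∈ B) (c : k) (hc1 : c ^ P = 1) : hc hp j c ∈ B := by
  obtain ⟨u, v, huv⟩ := hij
  have hc0 := ne_zero_of_pow hP hc1
  have h1 : (c ^ u) ^ P = 1 := by
    rw [← zpow_natCast, ← zpow_mul, mul_comm, zpow_mul, zpow_natCast, hc1, one_zpow]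
  have h2 := hB j _ (h _ h1)
  rw [cX_hc hp i (zpow_ne_zero u hc0), pairing_sr hp, ← zpow_mul] at h2
  have h3 : c ^ (u * cartanOf D l i j) = c := by
    have e : u * cartanOf D l i j = 1 - v * P := by rw [← huv]; ring
    rw [e, zpow_sub₀ hc0, zpow_one, mul_comm v, zpow_mul, zpow_natCast, hc1, one_zpow, div_one]
  rwa [h3] at h2

/-- **Spreading.** -/
theorem spread (hcop : Cop D l P) (hcon : Conn D l) {i : Fin l} (h : ∀ c : k, c ^ P = 1 → hc hp i c ∈ B) :
    Hc hp P ≤ B := by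
  classical
  have h1 := hcon (Finset.univ.filter fun j => ∀ c : k, c ^ P = 1 → hc hp j c ∈ B) ⟨i, by simpa using h⟩ ?_
  · refine Hc_le hp fun j c hc' => ?_
    have h2 : j ∈ Finset.univ.filter fun j => ∀ c : k, c ^ P = 1 → hc hp j c ∈ B := by rw [h1]; exact Finset.mem_univ j
    exact (Finset.mem_filter.1 h2).2 c hc'
  · intro a ha j haj
    rw [Finset.mem_filter] at ha ⊢
    exact ⟨Finset.mem_univ j, spread_one hp hP hB (hcop a j haj) ha.2⟩

/-- **The commutators generate.** -/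
theorem Hc_le_of_comm (hcop : Cop D l P) (hcon : Conn D l) {i j m : Fin l} (him : cartanOf D l i m = 0)
    (hjm : cartanOf D l j m ≠ 0) (h : ∀ c : k, c ^ P = 1 → hc hp j c * (hc hp i c)⁻¹ ∈ B) : Hc hp P ≤ B := by
  refine spread hp hP hB hcop hcon (i := m) fun c hc1 => ?_
  have hc0 := ne_zero_of_pow hP hc1
  obtain ⟨u, v, huv⟩ := hcop j m hjm
  have h1 : (c ^ u) ^ P = 1 := by
    rw [← zpow_natCast, ← zpow_mul, mul_comm, zpow_mul, zpow_natCast, hc1, one_zpow]
  have hu0 := zpow_ne_zero u hc0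
  have h2 := hB m _ (h _ h1)
  rw [cX_mul hp (hc_mem hp j hu0) (inv_mem (hc_mem hp i hu0)), cX_inv hp (hc_mem hp i hu0), cX_hc hp i hu0,
    cX_hc hp j hu0, pairing_sr hp, pairing_sr hp, him, zpow_zero, inv_one, mul_one, ← zpow_mul] at h2
  have h3 : c ^ (u * cartanOf D l j m) = c := by
    have e : u * cartanOf D l j m = 1 - v * P := by rw [← huv]; ring
    rw [e, zpow_sub₀ hc0, zpow_one, mul_comm v, zpow_mul, zpow_natCast, hc1, one_zpow, div_one]
  rwa [h3] at h2

end Spread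

/-- **A nontrivial invariant `p`-subgroup of the torus contains `Hc p`.** -/
theorem Hc_le_of_ne_bot {p : ℕ} (hp' : p.Prime) {B : Subgroup ↥(D.group k)} (hB : WInv hp B) (hBT : B ≤ TT D k)
    (hcop : Cop D l p) (hcon : Conn D l) (hBp : ∀ b ∈ B, ∃ m : ℕ, b ^ p ^ m = 1) (hne : B ≠ ⊥) : Hc hp p ≤ B := by
  obtain ⟨b, hb, hb1⟩ := (Subgroup.ne_bot_iff_exists_ne_one.1 hne : ∃ b : B, b ≠ 1) |>.elim
    fun b hb => (⟨b.1, b.2, fun h => hb (Subtype.ext h)⟩ : ∃ b : ↥(D.group k), b ∈ B ∧ b ≠ 1)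
  obtain ⟨i, hi⟩ : ∃ i, cX hp b (sr i) ≠ 1 := by
    by_contra hcon
    push Not at hcon
    exact hb1 (cX_inj hp (hBT hb) (one_mem _) fun i => by rw [hcon i, cX_one])
  obtain ⟨m, hm⟩ := hBp b hb
  have h1 : cX hp b (sr i) ^ p ^ m = 1 := by
    rw [← cX_pow hp (hBT hb), hm, cX_one]
  -- a power of order `p`
  obtain ⟨j, hj1, hj2⟩ : ∃ j : ℕ, cX hp b (sr i) ^ p ^ j ≠ 1 ∧ cX hp b (sr i) ^ p ^ (j + 1) = 1 := by
    have hex : ∃ m : ℕ, cX hp b (sr i) ^ p ^ m = 1 := ⟨m, h1⟩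
    classical
    have h0 : Nat.find hex ≠ 0 := by
      intro h0
      have := Nat.find_spec hex
      rw [h0, pow_zero, pow_one] at this
      exact hi this
    obtain ⟨j, hj⟩ := Nat.exists_eq_succ_of_ne_zero h0
    refine ⟨j, Nat.find_min hex (by omega), ?_⟩
    have := Nat.find_spec hex
    rwa [hj] at this
  have hc0 := (isMC_cX hp (hBT hb)).ne_zero (sr i)
  have hω : (cX hp b (sr i) ^ p ^ j) ^ p = 1 := by rw [← pow_mul, ← pow_succ]; exact hj2
  have hprim : IsPrimitiveRoot (cX hp b (sr i) ^ p ^ j) p := by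
    have h3 : orderOf (cX hp b (sr i) ^ p ^ j) = p := by
      have : Fact p.Prime := ⟨hp'⟩
      exact orderOf_eq_prime hω hj1
    have h4 := IsPrimitiveRoot.orderOf (cX hp b (sr i) ^ p ^ j)
    rwa [h3] at h4
  have hmem := hB i b hb
  have : NeZero p := ⟨hp'.ne_zero⟩
  refine spread hp hp'.ne_zero hB hcop hcon (i := i) fun c hc1 => ?_
  obtain ⟨n, -, hn⟩ := hprim.eq_pow_of_pow_eq_one hc1
  rw [← hn, ← pow_mul, ← hc_pow hp i hc0]
  exact pow_mem hmem _

/-! ### the order of `Hc P` -/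

/-- the values of the fundamental roots on `∏ hc i (c_i)` -/
def chi (D : ChevalleyDatum) (l : ℕ) (k : Type u) [Field k] : (Fin l → kˣ) →* (Fin l → kˣ) where
  toFun c := fun j => ∏ i, c i ^ cartanOf D l i j
  map_one' := by
    funext j
    simp
  map_mul' c d := by
    funext j
    rw [Pi.mul_apply, ← Finset.prod_mul_distrib]
    exact Finset.prod_congr rfl fun i _ => by rw [Pi.mul_apply, mul_zpow]

theorem chi_apply (c : Fin l → kˣ) (j : Fin l) : chi D l k c j = ∏ i, c i ^ cartanOf D l i j := rfl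

/-- **The elements of `Hc P`.** -/
theorem exists_of_mem_Hc {P : ℕ} (hP : P ≠ 0) {t : ↥(D.group k)} (ht : t ∈ Hc hp P) :
    ∃ c : Fin l → kˣ, (∀ i, c i ^ P = 1) ∧ ∀ j, cX hp t (sr j) = (chi D l k c j : kˣ) := by
  induction ht using Subgroup.closure_induction with
  | mem x hx =>
    obtain ⟨i, c, hc', rfl⟩ := hx
    have hc0 := ne_zero_of_pow hP hc'
    refine ⟨Function.update 1 i (Units.mk0 c hc0), fun j => ?_, fun j => ?_⟩
    · by_cases hj : j = i
      · subst hj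
        rw [Function.update_self]
        ext
        rw [Units.val_pow_eq_pow_val, Units.val_mk0, hc', Units.val_one]
      · rw [Function.update_of_ne hj, Pi.one_apply, one_pow]
    · rw [cX_hc hp i hc0, pairing_sr hp, chi_apply, Finset.prod_eq_single i]
      · rw [Function.update_self, Units.val_zpow_eq_zpow_val, Units.val_mk0]
      · intro b _ hb
        rw [Function.update_of_ne hb, Pi.one_apply, one_zpow]
      · intro h
        exact absurd (Finset.mem_univ i) h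
  | one => exact ⟨1, fun i => one_pow _, fun j => by rw [cX_one, map_one, Pi.one_apply, Units.val_one]⟩
  | mul x y hx hy h1 h2 =>
    obtain ⟨c, hc1, hc2⟩ := h1
    obtain ⟨d, hd1, hd2⟩ := h2
    refine ⟨c * d, fun i => by rw [Pi.mul_apply, mul_pow, hc1, hd1, one_mul], fun j => ?_⟩
    rw [cX_mul hp (Hc_le_TT hp hP hx) (Hc_le_TT hp hP hy), hc2, hd2, map_mul, Pi.mul_apply, Units.val_mul]
  | inv x hx h1 =>
    obtain ⟨c, hc1, hc2⟩ := h1
    refine ⟨c⁻¹, fun i => by rw [Pi.inv_apply, inv_pow, hc1, inv_one], fun j => ?_⟩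
    rw [cX_inv hp (Hc_le_TT hp hP hx), hc2, map_inv, Pi.inv_apply, Units.val_inv_eq_inv_val]

theorem exists_mem_Hc {P : ℕ} (hP : P ≠ 0) (c : Fin l → kˣ) (hc1 : ∀ i, c i ^ P = 1) :
    ∃ t ∈ Hc hp (k := k) P, ∀ j, cX hp t (sr j) = (chi D l k c j : kˣ) := by
  have key : ∀ s : Finset (Fin l), ∃ t ∈ Hc hp (k := k) P, ∀ j, cX hp t (sr j) =
      ((∏ i ∈ s, c i ^ cartanOf D l i j : kˣ) : k) := by
    intro s
    classical
    induction s using Finset.induction_on with
    | empty => exact ⟨1, one_mem _, fun j => by rw [cX_one, Finset.prod_empty, Units.val_one]⟩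
    | insert a s ha ih =>
      obtain ⟨t, ht, h1⟩ := ih
      have hca : ((c a : kˣ) : k) ^ P = 1 := by rw [← Units.val_pow_eq_pow_val, hc1, Units.val_one]
      have hm := hc_mem_Hc hp hca a
      refine ⟨hc hp a (c a : k) * t, mul_mem hm ht, fun j => ?_⟩
      rw [cX_mul hp (Hc_le_TT hp hP hm) (Hc_le_TT hp hP ht), h1, cX_hc hp a (c a).ne_zero, pairing_sr hp,
        Finset.prod_insert ha, Units.val_mul, Units.val_zpow_eq_zpow_val]
  exact key Finset.univ

/-- **The order of `Hc P`.** -/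
theorem card_Hc [IsAlgClosed k] {P K : ℕ} (hP : (P : k) ≠ 0)
    (hK : Nat.card {c : Fin l → kˣ // (∀ i, c i ^ P = 1) ∧ chi D l k c = 1} ≤ K) :
    Finite ↥(Hc hp (k := k) P) ∧ P ^ l ≤ Nat.card ↥(Hc hp (k := k) P) * K := by
  have hP0 : P ≠ 0 := fun h => hP (by rw [h, Nat.cast_zero])
  have : NeZero P := ⟨hP0⟩
  have : NeZero (P : k) := ⟨hP⟩
  have hcard : Nat.card ↥(rootsOfUnity P k) = P := by
    obtain ⟨ζ, hζ⟩ := HasEnoughRootsOfUnity.exists_primitiveRoot k P
    exact hζ.card_rootsOfUnity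
  let Φ : (Fin l → ↥(rootsOfUnity P k)) →* (Fin l → kˣ) :=
    (chi D l k).comp (MonoidHom.pi fun i => (rootsOfUnity P k).subtype.comp (Pi.evalMonoidHom _ i))
  have hΦ : ∀ c, Φ c = chi D l k (fun i => (c i : kˣ)) := fun c => rfl
  -- `Hc P` is in bijection with the range
  have hval : ∀ t : ↥(Hc hp (k := k) P), ∃ y : Φ.range, ∀ j, cX hp (t : ↥(D.group k)) (sr j) = ((y : Fin l → kˣ) j : k) := by
    intro t
    obtain ⟨c, h1, h2⟩ := exists_of_mem_Hc hp hP0 t.2
    exact ⟨⟨Φ fun i => ⟨c i, (mem_rootsOfUnity P _).2 (h1 i)⟩, ⟨_, rfl⟩⟩, h2⟩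
  choose f hf using hval
  have hfi : Function.Injective f := by
    intro s t h
    apply Subtype.ext
    exact cX_inj hp (Hc_le_TT hp hP0 s.2) (Hc_le_TT hp hP0 t.2) fun j => by rw [hf, hf, h]
  have hfs : Function.Surjective f := by
    rintro ⟨_, c, rfl⟩
    obtain ⟨t, ht, h1⟩ := exists_mem_Hc hp hP0 (fun i => (c i : kˣ)) fun i => (mem_rootsOfUnity P _).1 (c i).2
    refine ⟨⟨t, ht⟩, Subtype.ext (funext fun j => Units.ext ?_)⟩
    rw [← hf]
    exact h1 j
  have hfin0 : Finite ↥(rootsOfUnity P k) := Nat.finite_of_card_ne_zero (by rw [hcard]; exact hP0)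
  have hfin : Finite Φ.range := Finite.of_surjective _ Φ.rangeRestrict_surjective
  have e := Nat.card_congr (Equiv.ofBijective f ⟨hfi, hfs⟩)
  refine ⟨Finite.of_injective f hfi, ?_⟩
  rw [e]
  have h1 := Φ.ker.card_eq_card_quotient_mul_card_subgroup
  rw [Nat.card_congr (QuotientGroup.quotientKerEquivRange Φ).toEquiv] at h1
  have h2 : Nat.card (Fin l → ↥(rootsOfUnity P k)) = P ^ l := by
    rw [Nat.card_fun, hcard]
    simp
  rw [← h2, h1]
  apply Nat.mul_le_mul_left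
  refine le_trans (le_of_eq ?_) hK
  refine Nat.card_congr ⟨fun c => ⟨fun i => (c.1 i : kˣ), fun i => (mem_rootsOfUnity P _).1 (c.1 i).2, ?_⟩,
    fun c => ⟨fun i => ⟨c.1 i, (mem_rootsOfUnity P _).2 (c.2.1 i)⟩, ?_⟩, fun c => rfl, fun c => rfl⟩
  · rw [← hΦ]; exact c.2
  · show Φ _ = 1
    rw [hΦ]; exact c.2.2

end Cfsg.Agent.H629.ExcTor

private theorem dce_6ee2d1e0f31d : _root_.True := by
  try have : _root_.True := by simp only [_root_.Cfsg.Agent.H129.TorusChar.cX.congr_simp]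
  try have : _root_.True := by simp only [_root_.Cfsg.Agent.KFacts.RgdChevCoord.hc.congr_simp]
  exact _root_.True.intro
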