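import Cfsg.Prelude.Def_TwoFusion
import Cfsg.Agent.H749.PCl
import Mathlib
import Cfsg.Agent.CTFrame.Hom
import Cfsg.Agent.H629.ExcTor
import Cfsg.Agent.TitsThree.KExcRT
import Cfsg.Agent.H129.WForm
import Cfsg.Agent.ChevalleyStructure.CoxeterElement
import Cfsg.Agent.H795.ExcRow
import Cfsg.Agent.S1067
import Cfsg.Agent.ChevFast.E8
import Cfsg.Agent.ChevFast.Lin
import Cfsg.Agent.H129.ChainFast
import Cfsg.Agent.S1065
import Cfsg.Agent.H790.ExcAbTw
import Cfsg.Agent.OddRank.SzTits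
import Cfsg.Agent.S1156
import Cfsg.Agent.S1074
import Cfsg.Agent.FastGrp
import Cfsg.Agent.Prune
set_option linter.all false

section
prune_inst 0x7ffcfcf8afb8b5dfdfff7e7ffefddfff99b89fffe6dff973ffe861ff0b9f03080bc5fba76de010fe1ed6e0b410b87853ff7ecfffe86bdc7ffffd5ff41ffbee0ff5f6b508119498340f300fff03f07f8e7f3fffffffffffffffffffffffffffbeffffffffffff

-- part: H629/ExcCrit
section
set_option linter.all false
open scoped Cfsg.Agent.FastGrp

/-!
# Strongly closed subgroups: the torus criterion (helper629)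

`Full p G` : a nontrivial strongly closed subgroup of a Sylow `p`-subgroup is the whole Sylow `p`-subgroup.

`full_of_torus` : `N ≤ G` of index prime to `p`, `T` a normal `p`-subgroup of `N` containing the `p`-elements of `N` that
centralise it, `π : N → W` whose kernel has all its `p`-elements in `T`; every nontrivial `N`-invariant subgroup of `T`
contains `V0`; `E` an `N`-invariant set of `p`-elements of `N`, each mapped into `V0` by an automorphism of `G`;
`T = [T, E]`; a Sylow `p`-subgroup of `π N` is generated by elements of `π E`. Then `Full p G`.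
-/

set_option autoImplicit false
set_option linter.unusedSectionVars false

namespace Cfsg.Agent.H629.Exc

universe u v

/-- Every nontrivial strongly closed subgroup of a Sylow `p`-subgroup `S` is `S`. -/
def Full (p : ℕ) (G : Type*) [Group G] : Prop :=
  ∀ (S : Sylow p G) (A : Subgroup G), Cfsg.IsStronglyClosed A (S : Subgroup G) → A ≠ ⊥ → A = S

section Basic

variable {G : Type*} [Group G]

theorem conj_closed {A P : Subgroup G} (h : Cfsg.IsStronglyClosed A P) {a x : G} (ha : a ∈ A) (hx : x ∈ P) :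
    x * a * x⁻¹ ∈ A :=
  h.2 a ha x (P.mul_mem (P.mul_mem hx (h.1 ha)) (P.inv_mem hx))

theorem closed_of_conj {A P : Subgroup G} (g : G) (h : Cfsg.IsStronglyClosed A P) :
    Cfsg.IsStronglyClosed (A.map (MulAut.conj g).toMonoidHom) (P.map (MulAut.conj g).toMonoidHom) := by
  refine ⟨Subgroup.map_mono h.1, ?_⟩
  rintro _ ⟨a, ha, rfl⟩ x hx
  obtain ⟨b, hb, hbe⟩ := hx
  have hbe' : g * b * g⁻¹ = x * (g * a * g⁻¹) * x⁻¹ := hbe
  have e : b = (g⁻¹ * x * g) * a * (g⁻¹ * x * g)⁻¹ := by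
    have : b = g⁻¹ * (g * b * g⁻¹) * g := by group
    rw [this, hbe']
    group
  have h1 : b ∈ A := by
    rw [e]
    apply h.2 a ha
    rw [← e]
    exact hb
  exact ⟨b, h1, hbe⟩

theorem closed_of_equiv {G' : Type*} [Group G'] {A P : Subgroup G} (α : G ≃* G') (h : Cfsg.IsStronglyClosed A P) :
    Cfsg.IsStronglyClosed (A.map α.toMonoidHom) (P.map α.toMonoidHom) := by
  refine ⟨Subgroup.map_mono h.1, ?_⟩
  rintro _ ⟨a, ha, rfl⟩ x hx
  obtain ⟨b, hb, hbe⟩ := hx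
  have hbe' : α b = x * α a * x⁻¹ := hbe
  have e : b = (α.symm x) * a * (α.symm x)⁻¹ := by
    apply α.injective
    rw [hbe', map_mul, map_mul, map_inv, α.apply_symm_apply]
  have h1 : b ∈ A := by
    rw [e]
    apply h.2 a ha
    rw [← e]
    exact hb
  exact ⟨b, h1, hbe⟩

theorem full_congr {p : ℕ} {G' : Type*} [Group G'] (e : G ≃* G') (h : Full p G) : Full p G' := by
  intro S A hA hne
  have hS : ∀ x, x ∈ (S.comapOfInjective e.toMonoidHom e.injective (by
      rw [MonoidHom.range_eq_top.2 e.surjective]; exact le_top) : Subgroup G) ↔ e x ∈ (S : Subgroup G') := fun x => Iff.rfl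
  have h1 := h (S.comapOfInjective e.toMonoidHom e.injective (by
      rw [MonoidHom.range_eq_top.2 e.surjective]; exact le_top)) (A.comap e.toMonoidHom) ?_ ?_
  · ext x
    have h2 : e (e.symm x) = x := e.apply_symm_apply x
    have h3 : e.symm x ∈ A.comap e.toMonoidHom ↔ e.symm x ∈ (S.comapOfInjective e.toMonoidHom e.injective (by
      rw [MonoidHom.range_eq_top.2 e.surjective]; exact le_top) : Subgroup G) := by rw [h1]
    rw [hS, h2] at h3
    rw [← h3, Subgroup.mem_comap]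
    show _ ↔ e (e.symm x) ∈ A
    rw [h2]
  · refine ⟨fun x hx => (hS x).2 (hA.1 hx), fun x hx g hg => ?_⟩
    have h2 := (hS _).1 hg
    rw [map_mul, map_mul, map_inv] at h2
    show e (g * x * g⁻¹) ∈ A
    rw [map_mul, map_mul, map_inv]
    exact hA.2 (e x) hx (e g) h2
  · intro h2
    apply hne
    rw [eq_bot_iff]
    intro x hx
    have h3 : e.symm x ∈ A.comap e.toMonoidHom := by
      show e (e.symm x) ∈ A
      rwa [e.apply_symm_apply]
    rw [h2, Subgroup.mem_bot] at h3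
    rw [Subgroup.mem_bot]
    have := congrArg e h3
    rwa [e.apply_symm_apply, map_one] at this

/-- It is enough to look at one Sylow `p`-subgroup. -/
theorem full_of_one [Finite G] {p : ℕ} [Fact p.Prime] (P : Sylow p G)
    (h : ∀ A : Subgroup G, Cfsg.IsStronglyClosed A (P : Subgroup G) → A ≠ ⊥ → (P : Subgroup G) ≤ A) : Full p G := by
  intro S A hA hne
  obtain ⟨g, hg⟩ := MulAction.exists_smul_eq G S P
  have hP : (P : Subgroup G) = (S : Subgroup G).map (MulAut.conj g).toMonoidHom := by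
    rw [← hg]; rfl
  have h1 := closed_of_conj g hA
  rw [← hP] at h1
  have h2 : A.map (MulAut.conj g).toMonoidHom ≠ ⊥ := by
    intro h3
    exact hne ((Subgroup.map_eq_bot_iff_of_injective _ (MulAut.conj g).injective).1 h3)
  have h3 := h _ h1 h2
  rw [hP] at h3
  refine le_antisymm hA.1 ?_
  exact (Subgroup.map_le_map_iff_of_injective (MulAut.conj g).injective).1 h3

end Basic

section Torus

variable {G : Type*} [Group G] [Finite G] {W : Type*} [Group W] {p : ℕ} [Fact p.Prime]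

/-- **The torus criterion.** -/
theorem full_of_torus (N T V0 : Subgroup G) (hN : ¬ p ∣ N.index) (hTN : T ≤ N)
    (hTn : ∀ x ∈ N, ∀ t ∈ T, x * t * x⁻¹ ∈ T) (hTp : IsPGroup p T) (π : ↥N →* W)
    (hker : ∀ x : N, π x = 1 → (∃ m : ℕ, x ^ p ^ m = 1) → (x : G) ∈ T)
    (hcent : ∀ x ∈ N, (∃ m : ℕ, x ^ p ^ m = 1) → (∀ t ∈ T, x * t = t * x) → x ∈ T)
    (hV0 : ∀ B : Subgroup G, B ≤ T → B ≠ ⊥ → (∀ x ∈ N, ∀ b ∈ B, x * b * x⁻¹ ∈ B) → V0 ≤ B)
    (E : Set G) (hEN : ∀ e ∈ E, e ∈ N) (hEc : ∀ x ∈ N, ∀ e ∈ E, x * e * x⁻¹ ∈ E)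
    (hEp : ∀ e ∈ E, ∃ m : ℕ, e ^ p ^ m = 1)
    (hEV : ∀ e ∈ E, ∃ α : G ≃* G, α e ∈ V0)
    (hcomm : ∀ C : Subgroup G, C ≤ T → (∀ x ∈ N, ∀ b ∈ C, x * b * x⁻¹ ∈ C) →
      (∀ e ∈ E, ∀ t ∈ T, e * t * e⁻¹ * t⁻¹ ∈ C) → T ≤ C)
    (R : Subgroup W) (hRp : IsPGroup p R) (hR : R ≤ π.range) (hRi : ¬ p ∣ R.relIndex π.range)
    (hRg : R ≤ Subgroup.closure {y | y ∈ R ∧ ∃ e : N, (e : G) ∈ E ∧ π e = y}) : Full p G := by
  classical
  have hpp : p.Prime := Fact.out
  -- a Sylow subgroup of the preimage of `R`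
  obtain ⟨N1, hN1⟩ : ∃ N1 : Subgroup N, N1 = R.comap π := ⟨_, rfl⟩
  have hN1m : ∀ x, x ∈ N1 → π x ∈ R := fun x hx => by rw [hN1] at hx; exact hx
  obtain ⟨Q⟩ : Nonempty (Sylow p N1) := inferInstance
  have hN1i : ¬ p ∣ N1.index := by
    rw [hN1, Subgroup.index_comap]
    exact hRi
  have hQN : IsPGroup p ((Q : Subgroup N1).map N1.subtype) := Q.isPGroup'.map _
  have hQNi : ¬ p ∣ ((Q : Subgroup N1).map N1.subtype).index := by
    rw [Subgroup.index_map_subtype]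
    intro h1
    rcases hpp.dvd_mul.1 h1 with h2 | h2
    · exact Q.not_dvd_index h2
    · exact hN1i h2
  let PN : Sylow p N := hQN.toSylow hQNi
  have hPN : (PN : Subgroup N) = (Q : Subgroup N1).map N1.subtype := rfl
  have hQG : IsPGroup p ((PN : Subgroup N).map N.subtype) := PN.isPGroup'.map _
  have hQGi : ¬ p ∣ ((PN : Subgroup N).map N.subtype).index := by
    rw [Subgroup.index_map_subtype]
    intro h1
    rcases hpp.dvd_mul.1 h1 with h2 | h2
    · exact PN.not_dvd_index h2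
    · exact hN h2
  let P : Sylow p G := hQG.toSylow hQGi
  have hP : (P : Subgroup G) = (PN : Subgroup N).map N.subtype := rfl
  have hPleN : (P : Subgroup G) ≤ N := by rw [hP]; exact Subgroup.map_subtype_le _
  have hPel : ∀ x ∈ (P : Subgroup G), ∃ m : ℕ, x ^ p ^ m = 1 := by
    intro x hx
    obtain ⟨m, hm⟩ := P.isPGroup' ⟨x, hx⟩
    exact ⟨m, congrArg Subtype.val hm⟩
  -- `T ≤ P`
  have hTP : T ≤ (P : Subgroup G) := by
    have hTnorm : (T.subgroupOf N).Normal := ⟨fun t ht x => hTn x x.2 t ht⟩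
    have h1 : IsPGroup p (T.subgroupOf N) := hTp.comap_of_injective N.subtype N.subtype_injective
    have h2 : IsPGroup p ((T.subgroupOf N) ⊔ (PN : Subgroup N) : Subgroup N) := h1.to_sup_of_normal_left PN.isPGroup'
    have h3 : (T.subgroupOf N) ⊔ (PN : Subgroup N) = (PN : Subgroup N) := PN.is_maximal' h2 le_sup_right
    intro t ht
    rw [hP]
    refine ⟨⟨t, hTN ht⟩, ?_, rfl⟩
    rw [← h3]
    exact Subgroup.mem_sup_left ht
  refine full_of_one P fun A hA hne => ?_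
  have hVgen : ∀ A : Subgroup G, Cfsg.IsStronglyClosed A (P : Subgroup G) → A ≠ ⊥ → V0 ≤ A ⊓ T := by
    intro A hA hne
    have hAN : A ≤ N := hA.1.trans hPleN
    have hBn : ∀ x ∈ N, ∀ b ∈ A ⊓ T, x * b * x⁻¹ ∈ A ⊓ T := by
      intro x hx b hb
      have h1 := hTn x hx b hb.2
      exact ⟨hA.2 b hb.1 x (hTP h1), h1⟩
    have hBne : A ⊓ T ≠ ⊥ := by
      intro h1
      apply hne
      rw [eq_bot_iff]
      intro a ha
      have haT : a ∈ T := by
        refine hcent a (hAN ha) (hPel a (hA.1 ha)) fun t ht => ?_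
        have h2 : a * t * a⁻¹ * t⁻¹ ∈ A ⊓ T := by
          refine ⟨?_, T.mul_mem (hTn a (hAN ha) t ht) (T.inv_mem ht)⟩
          have e : a * t * a⁻¹ * t⁻¹ = a * (t * a⁻¹ * t⁻¹) := by group
          rw [e]
          exact A.mul_mem ha (conj_closed hA (A.inv_mem ha) (hTP ht))
        rw [h1, Subgroup.mem_bot] at h2
        have h3 := mul_inv_eq_one.1 h2
        exact mul_inv_eq_iff_eq_mul.1 h3
      rw [← h1]
      exact ⟨ha, haT⟩
    exact hV0 _ inf_le_right hBne hBn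
  have hAN : A ≤ N := hA.1.trans hPleN
  have hBn : ∀ x ∈ N, ∀ b ∈ A ⊓ T, x * b * x⁻¹ ∈ A ⊓ T := by
    intro x hx b hb
    have h1 := hTn x hx b hb.2
    exact ⟨hA.2 b hb.1 x (hTP h1), h1⟩
  have hEA : ∀ e ∈ E, e ∈ (P : Subgroup G) → e ∈ A := by
    intro e he heP
    obtain ⟨α, hα⟩ := hEV e he
    -- the image of `A` under `α`, moved into `P`
    obtain ⟨P', hP'⟩ : ∃ P' : Sylow p G, (P' : Subgroup G) = (P : Subgroup G).map α.toMonoidHom := by
      refine ⟨P.comapOfInjective α.symm.toMonoidHom α.symm.injective (by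
        rw [MonoidHom.range_eq_top.2 α.symm.surjective]; exact le_top), ?_⟩
      ext x
      rw [Subgroup.mem_map_equiv]
      exact Iff.rfl
    obtain ⟨g, hg⟩ := MulAction.exists_smul_eq G P' P
    have hPg : (P : Subgroup G) = (P' : Subgroup G).map (MulAut.conj g).toMonoidHom := by
      rw [← hg]; rfl
    have hA' : Cfsg.IsStronglyClosed (A.map α.toMonoidHom) (P' : Subgroup G) := by
      rw [hP']
      exact closed_of_equiv α hA
    have hA'' := closed_of_conj g hA'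
    rw [← hPg] at hA''
    have hne'' : (A.map α.toMonoidHom).map (MulAut.conj g).toMonoidHom ≠ ⊥ := by
      intro h3
      have h4 := (Subgroup.map_eq_bot_iff_of_injective _ (MulAut.conj g).injective).1 h3
      exact hne ((Subgroup.map_eq_bot_iff_of_injective _ α.injective).1 h4)
    obtain ⟨_, ⟨a, ha, rfl⟩, hae⟩ := (hVgen _ hA'' hne'' hα).1
    have hae' : g * α a * g⁻¹ = α e := hae
    have h1 : e = (α.symm g) * a * (α.symm g)⁻¹ := by
      apply α.injective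
      rw [map_mul, map_mul, map_inv, α.apply_symm_apply, hae']
    rw [h1]
    apply hA.2 a ha
    rw [← h1]
    exact heP
  -- conjugation of `p`-elements into `P`
  have hTA : T ≤ A := by
    refine (hcomm (A ⊓ T) inf_le_right hBn fun e he t ht => ?_).trans inf_le_left
    have hpe : IsPGroup p (Subgroup.zpowers (⟨e, hEN e he⟩ : N)) := by
      obtain ⟨m, hm⟩ := hEp e he
      refine IsPGroup.iff_card.2 ?_
      rw [Nat.card_zpowers]
      have h1 : orderOf (⟨e, hEN e he⟩ : N) ∣ p ^ m := orderOf_dvd_of_pow_eq_one (Subtype.ext hm)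
      obtain ⟨j, -, hj⟩ := (Nat.dvd_prime_pow hpp).1 h1
      exact ⟨j, hj⟩
    obtain ⟨S', hS'⟩ := hpe.exists_le_sylow
    obtain ⟨y, hy⟩ := MulAction.exists_smul_eq N S' PN
    have h1 : y * ⟨e, hEN e he⟩ * y⁻¹ ∈ (PN : Subgroup N) := by
      rw [← hy]
      exact ⟨⟨e, hEN e he⟩, hS' (Subgroup.mem_zpowers _), rfl⟩
    have h2 : (y : G) * e * (y : G)⁻¹ ∈ (P : Subgroup G) := by
      rw [hP]; exact ⟨_, h1, rfl⟩
    have h3 := hEA _ (hEc y y.2 e he) h2
    have hyt := hTn y y.2 t ht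
    have h4 : ((y : G) * e * (y : G)⁻¹) * (y * t * (y : G)⁻¹) * ((y : G) * e * (y : G)⁻¹)⁻¹ * (y * t * (y : G)⁻¹)⁻¹ ∈
        A ⊓ T := by
      refine ⟨?_, T.mul_mem (hTn _ (hAN h3) _ hyt) (T.inv_mem hyt)⟩
      have e1 : ((y : G) * e * (y : G)⁻¹) * (y * t * (y : G)⁻¹) * ((y : G) * e * (y : G)⁻¹)⁻¹ * (y * t * (y : G)⁻¹)⁻¹ =
        ((y : G) * e * (y : G)⁻¹) * ((y * t * (y : G)⁻¹) * ((y : G) * e * (y : G)⁻¹)⁻¹ * (y * t * (y : G)⁻¹)⁻¹) := by
        group
      rw [e1]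
      exact A.mul_mem h3 (conj_closed hA (A.inv_mem h3) (hTP hyt))
    have h5 := hBn (y : G)⁻¹ (N.inv_mem y.2) _ h4
    have e2 : (y : G)⁻¹ * (((y : G) * e * (y : G)⁻¹) * (y * t * (y : G)⁻¹) * ((y : G) * e * (y : G)⁻¹)⁻¹ *
        (y * t * (y : G)⁻¹)⁻¹) * (y : G)⁻¹⁻¹ = e * t * e⁻¹ * t⁻¹ := by group
    rwa [e2] at h5
  -- generation
  have hπP : ∀ x : N, (x : G) ∈ (P : Subgroup G) → π x ∈ R := by
    intro x hx
    rw [hP] at hx
    obtain ⟨y, hy, hyx⟩ := hx
    have : y = x := Subtype.ext hyx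
    rw [this, hPN] at hy
    obtain ⟨z, -, hz⟩ := hy
    rw [← hz]
    exact hN1m _ z.2
  have hRP : ∀ y ∈ R, ∃ x : N, (x : G) ∈ (P : Subgroup G) ∧ π x = y := by
    -- `π (P)` is a Sylow subgroup of `R`
    obtain ⟨f, hf⟩ : ∃ f : ↥N1 →* ↥R, ∀ x, ((f x : ↥R) : W) = π x :=
      ⟨(π.comp N1.subtype).codRestrict R fun x => hN1m _ x.2, fun x => rfl⟩
    have hfs : Function.Surjective f := by
      intro y
      obtain ⟨x, hx⟩ := hR y.2
      have hx1 : x ∈ N1 := by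
        rw [hN1]
        show π x ∈ R
        rw [hx]; exact y.2
      exact ⟨⟨x, hx1⟩, Subtype.ext ((hf _).trans hx)⟩
    have h1 : (⊤ : Subgroup R) = (Q.mapSurjective hfs : Subgroup R) :=
      (Q.mapSurjective hfs).is_maximal' (hRp.to_subgroup ⊤) le_top
    have hle : R ≤ ((PN : Subgroup N).map π) := by
      intro y hy
      have h2 : (⟨y, hy⟩ : R) ∈ (Q.mapSurjective hfs : Subgroup R) := by rw [← h1]; exact Subgroup.mem_top _
      obtain ⟨x, hx, hxy⟩ := h2
      refine ⟨(x : N), ?_, ?_⟩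
      · rw [hPN]; exact ⟨x, hx, rfl⟩
      · have := congrArg Subtype.val hxy
        exact (hf x).symm.trans this
    intro y hy
    obtain ⟨x, hx, hxy⟩ := hle hy
    exact ⟨x, by rw [hP]; exact ⟨x, hx, rfl⟩, hxy⟩
  have hRA : R ≤ (A.subgroupOf N).map π := by
    refine hRg.trans ?_
    rw [Subgroup.closure_le]
    rintro _ ⟨hyR, e, he, rfl⟩
    -- conjugate `e` into `P` by an element of the kernel
    have heN1 : e ∈ N1 := by rw [hN1]; exact hyR
    have hpe : IsPGroup p (Subgroup.zpowers (⟨e, heN1⟩ : N1)) := by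
      obtain ⟨m, hm⟩ := hEp e he
      refine IsPGroup.iff_card.2 ?_
      rw [Nat.card_zpowers]
      have h1 : orderOf (⟨e, heN1⟩ : N1) ∣ p ^ m := orderOf_dvd_of_pow_eq_one (Subtype.ext (Subtype.ext hm))
      obtain ⟨j, -, hj⟩ := (Nat.dvd_prime_pow hpp).1 h1
      exact ⟨j, hj⟩
    obtain ⟨S', hS'⟩ := hpe.exists_le_sylow
    obtain ⟨y, hy⟩ := MulAction.exists_smul_eq N1 S' Q
    have h1 : y * ⟨e, heN1⟩ * y⁻¹ ∈ (Q : Subgroup N1) := by
      rw [← hy]
      exact ⟨⟨e, heN1⟩, hS' (Subgroup.mem_zpowers _), rfl⟩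
    have h2 : (y : N) * e * (y : N)⁻¹ ∈ (PN : Subgroup N) := by
      rw [hPN]; exact ⟨_, h1, rfl⟩
    have h3 : ((y : N) : G) * e * ((y : N) : G)⁻¹ ∈ (P : Subgroup G) := by
      rw [hP]; exact ⟨_, h2, rfl⟩
    have hyR' : π (y : N) ∈ R := hN1m _ y.2
    obtain ⟨x, hxP, hxy⟩ := hRP _ hyR'
    have h4 : ((x : G)⁻¹ * ((y : N) : G)) * e * ((x : G)⁻¹ * ((y : N) : G))⁻¹ ∈ (P : Subgroup G) := by
      have e1 : ((x : G)⁻¹ * ((y : N) : G)) * e * ((x : G)⁻¹ * ((y : N) : G))⁻¹ =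
          (x : G)⁻¹ * (((y : N) : G) * e * ((y : N) : G)⁻¹) * (x : G) := by group
      rw [e1]
      exact (P : Subgroup G).mul_mem ((P : Subgroup G).mul_mem ((P : Subgroup G).inv_mem hxP) h3) hxP
    have h5 := hEA _ (hEc _ (N.mul_mem (N.inv_mem x.2) (y : N).2) e he) h4
    refine ⟨x⁻¹ * (y : N) * e * (x⁻¹ * (y : N))⁻¹, h5, ?_⟩
    rw [map_mul, map_mul, map_mul, map_inv, map_inv, map_mul, map_inv, hxy]
    group
  intro x hx
  have hxN := hPleN hx
  obtain ⟨a, ha, hax⟩ := hRA (hπP ⟨x, hxN⟩ hx)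
  have h1 : ((a⁻¹ * ⟨x, hxN⟩ : N) : G) ∈ T := by
    refine hker _ ?_ ?_
    · rw [map_mul, map_inv, hax]; group
    · have h2 : ((a⁻¹ * ⟨x, hxN⟩ : N) : G) ∈ (P : Subgroup G) :=
        (P : Subgroup G).mul_mem ((P : Subgroup G).inv_mem (hA.1 ha)) hx
      obtain ⟨m, hm⟩ := hPel _ h2
      exact ⟨m, Subtype.ext hm⟩
  have e : x = a * (a⁻¹ * ⟨x, hxN⟩ : N) := by
    show x = a * ((a : G)⁻¹ * x)
    group
  rw [e]
  exact A.mul_mem ha (hTA h1)

end Torus

end Cfsg.Agent.H629.Exc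
end

-- part: H629/ExcFullP
section
set_option linter.all false
open scoped Cfsg.Agent.FastGrp

/-!
# `Full` and `FullP` are equivalent (helper629)
-/

set_option autoImplicit false

namespace Cfsg.Agent.H629.Exc

open Cfsg Cfsg.Agent.H749

variable {G : Type*} [Group G] [Finite G] {p : ℕ} [Fact p.Prime]

theorem full_of_fullP (h : FullP p G) : Full p G := by
  intro S A hA hne
  rcases eq_of_fullP h hA with h1 | h1
  · exact absurd h1 hne
  · exact h1

theorem fullP_of_full (h : Full p G) : FullP p G := by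
  rintro P hP ⟨x, hx, hx1, hPx⟩ y hy
  obtain ⟨S, hS⟩ := (isPGroup_zpowers hx).exists_le_sylow
  let A : Subgroup G :=
    { carrier := {s | s ∈ (S : Subgroup G) ∧ P s}
      one_mem' := ⟨S.1.one_mem, hP.one⟩
      mul_mem' := fun {a b} ha hb => ⟨S.1.mul_mem ha.1 hb.1, hP.mul S.isPGroup' ha.1 hb.1 ha.2 hb.2⟩
      inv_mem' := fun {a} ha => ⟨S.1.inv_mem ha.1, hP.inv ha.2⟩ }
  have hA : Cfsg.IsStronglyClosed A (S : Subgroup G) :=
    ⟨fun a ha => ha.1, fun a ha g hg => ⟨hg, hP.conj g ha.2⟩⟩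
  have hxA : x ∈ A := ⟨hS (Subgroup.mem_zpowers x), hPx⟩
  have h1 := h S A hA (fun h2 => hx1 (by rw [h2, Subgroup.mem_bot] at hxA; exact hxA))
  obtain ⟨g, hg⟩ := ClosedTwo.Elem.exists_conj_le S (isPGroup_zpowers hy)
  have h2 := hg y (Subgroup.mem_zpowers y)
  rw [← h1] at h2
  exact hP.of_conj h2.2

end Cfsg.Agent.H629.Exc
end

-- part: H790/TriCrit
section
prune_inst 0x20340440a002000000001000000664460001900028800179a00f46078e7f0280008920cc801c021020aa0400300008120000704010000000000400011900a090a856063240a10ce6000f803007180c00000000000000000000000000041000000000000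
set_option linter.all false
open scoped Cfsg.Agent.FastGrp

/-!
# A criterion for `Full 3 G` (helper790), used for `³D₄(q)`

`T ≤ G` abelian `3`-subgroup, `x0` of order `3` normalising `T`, `C_T(x0) = ⟨z⟩` of order `3`, `T` of rank at most two,
`9 |T|` does not divide `|G|`; `t0 ∈ [T, x0]` conjugate to `x0` and not to `z`; some `3 ^ 2` in `G` has all elements
`≠ 1` conjugate. Then a nontrivial strongly closed subgroup of a Sylow `3`-subgroup is the whole.
-/

set_option autoImplicit false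
set_option linter.unusedSectionVars false

namespace Cfsg.Agent.H790.TriCrit

open Subgroup Cfsg.Agent.H629 Cfsg.Agent.H749

/-- a nontrivial normal subgroup of a `p`-group meets the centre -/
theorem inf_center_ne_bot {P : Type*} [Group P] [Finite P] {p : ℕ} [Fact p.Prime] (hP : IsPGroup p P) {N : Subgroup P}
    (hN : N ≠ ⊥) (hn : N.Normal) : (N ⊓ center P : Subgroup P) ≠ ⊥ := by
  have hNp : IsPGroup p N := hP.to_subgroup N
  have hnt : Nontrivial N := (Subgroup.nontrivial_iff_ne_bot N).2 hN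
  have hdvd : p ∣ Nat.card N := by
    obtain ⟨n, hn⟩ := IsPGroup.iff_card.1 hNp
    rw [hn]
    refine dvd_pow_self p fun h0 => ?_
    rw [h0, pow_zero] at hn
    exact not_subsingleton N (Nat.card_eq_one_iff_unique.1 hn).1
  have hC : IsPGroup p (ConjAct P) := hP.of_equiv ConjAct.toConjAct
  have h1 : (1 : N) ∈ MulAction.fixedPoints (ConjAct P) N := fun g => by
    rw [smul_one]
  obtain ⟨b, hb, hne⟩ := hC.exists_fixed_point_of_prime_dvd_card_of_fixed_point N hdvd h1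
  intro h
  have h2 : (b : P) ∈ (N ⊓ center P : Subgroup P) := by
    refine ⟨b.2, mem_center_iff.2 fun g => ?_⟩
    have h3 : (ConjAct.toConjAct g • b : N) = b := hb _
    have h4 : g * (b : P) * g⁻¹ = b := congrArg Subtype.val h3
    rw [mul_inv_eq_iff_eq_mul] at h4
    exact h4
  rw [h, Subgroup.mem_bot] at h2
  exact hne (Subtype.ext h2.symm)

/-- the hypotheses -/
structure TriHyp {G : Type*} [Group G] (T : Subgroup G) (x0 t0 z : G) : Prop where
  comm : ∀ a ∈ T, ∀ b ∈ T, a * b = b * a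
  exp : ∃ N : ℕ, ∀ t ∈ T, t ^ 3 ^ N = 1
  norm : ∀ t ∈ T, x0 * t * x0⁻¹ ∈ T
  cube : x0 ^ 3 = 1
  zT : z ∈ T
  z1 : z ≠ 1
  zx : x0 * z = z * x0
  cent : ∀ t ∈ T, x0 * t = t * x0 → t = 1 ∨ t = z ∨ t = z⁻¹
  t0E : ∃ s ∈ T, x0 * s * x0⁻¹ * s⁻¹ = t0
  t0ne : t0 ≠ 1
  omega : Nat.card {t : T // t ^ 3 = 1} ≤ 9
  conj : ∃ g, g * x0 * g⁻¹ = t0
  v : ∃ v1 v2 x1 x2 : G, v1 ≠ 1 ∧ v1 ^ 3 = 1 ∧ v1 * v2 = v2 * v1 ∧ x1 * v1 * x1⁻¹ = v2 ∧ x1 * v2 * x1⁻¹ = v1⁻¹ ∧
    x2 * v1 * x2⁻¹ = v1 * v2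
  ne : ∀ g, g * z * g⁻¹ ≠ t0

namespace TriHyp

variable {G : Type*} [Group G] {T : Subgroup G} {x0 t0 z : G} (H : TriHyp T x0 t0 z)

include H

theorem norm_pow (i : ℕ) {t : G} (ht : t ∈ T) : x0 ^ i * t * (x0 ^ i)⁻¹ ∈ T := by
  induction i with
  | zero => simpa using ht
  | succ i ih =>
    have := H.norm _ ih
    have e : x0 ^ (i + 1) * t * (x0 ^ (i + 1))⁻¹ = x0 * (x0 ^ i * t * (x0 ^ i)⁻¹) * x0⁻¹ := by
      rw [pow_succ']; group
    rwa [e]

/-- the Sylow subgroup -/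
def S (H : TriHyp T x0 t0 z) : Subgroup G where
  carrier := {g | ∃ t ∈ T, ∃ i : ℕ, g = t * x0 ^ i}
  one_mem' := ⟨1, one_mem _, 0, by simp⟩
  mul_mem' := by
    rintro _ _ ⟨t, ht, i, rfl⟩ ⟨s, hs, j, rfl⟩
    exact ⟨t * (x0 ^ i * s * (x0 ^ i)⁻¹), T.mul_mem ht (H.norm_pow i hs), i + j, by rw [pow_add]; group⟩
  inv_mem' := by
    rintro _ ⟨t, ht, i, rfl⟩
    have e : (x0 ^ i)⁻¹ = x0 ^ (2 * i) := by
      rw [inv_eq_iff_mul_eq_one, ← pow_add, show i + 2 * i = 3 * i by ring, pow_mul, H.cube, one_pow]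
    refine ⟨x0 ^ (2 * i) * t⁻¹ * (x0 ^ (2 * i))⁻¹, H.norm_pow _ (T.inv_mem ht), 2 * i, ?_⟩
    rw [mul_inv_rev, e]
    group

theorem T_le : T ≤ H.S := fun t ht => ⟨t, ht, 0, by simp⟩

theorem x0_mem : x0 ∈ H.S := ⟨1, one_mem _, 1, by simp⟩

theorem mem_S' {g : G} (hg : g ∈ H.S) : g ∈ T ∨ ∃ h ∈ T, g = h * x0 ∨ g⁻¹ = h * x0 := by
  obtain ⟨t, ht, i, rfl⟩ := hg
  have h3 : x0 ^ i = x0 ^ (i % 3) := by
    conv_lhs => rw [← Nat.div_add_mod i 3, pow_add, pow_mul, H.cube, one_pow, one_mul]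
  have hlt := Nat.mod_lt i (by norm_num : 0 < 3)
  rw [h3]
  interval_cases i % 3
  · left; simpa using ht
  · right; exact ⟨t, ht, Or.inl (by rw [pow_one])⟩
  · right
    refine ⟨x0 * t⁻¹ * x0⁻¹, H.norm _ (T.inv_mem ht), Or.inr ?_⟩
    have e : x0 ^ 2 = x0⁻¹ := by
      rw [eq_inv_iff_mul_eq_one, ← pow_succ, H.cube]
    rw [e]; group

theorem isPGroup : IsPGroup 3 H.S := by
  rw [isPGroup_iff]
  rintro _ ⟨t, ht, i, rfl⟩
  obtain ⟨N, hN⟩ := H.exp
  refine ⟨N + 1, ?_⟩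
  have h1 : (t * x0 ^ i) ^ 3 ∈ T := by
    have e : (t * x0 ^ i) ^ 3 = t * (x0 ^ i * t * (x0 ^ i)⁻¹) * (x0 ^ (2 * i) * t * (x0 ^ (2 * i))⁻¹) := by
      have e2 : x0 ^ (2 * i) * x0 ^ i = 1 := by
        rw [← pow_add, show 2 * i + i = 3 * i by ring, pow_mul, H.cube, one_pow]
      have e3 : (x0 ^ (2 * i))⁻¹ = x0 ^ i := by rw [inv_eq_iff_mul_eq_one, e2]
      have e4 : x0 ^ (2 * i) = x0 ^ i * x0 ^ i := by rw [← pow_add]; congr 1; ring
      rw [e3, e4]
      simp only [pow_succ, pow_zero, one_mul]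
      group
    rw [e]
    exact T.mul_mem (T.mul_mem ht (H.norm_pow _ ht)) (H.norm_pow _ ht)
  rw [pow_succ', pow_mul]
  exact hN _ h1

theorem t0_mem : t0 ∈ T := by
  obtain ⟨s, hs, e⟩ := H.t0E
  rw [← e]
  exact T.mul_mem (H.norm s hs) (T.inv_mem hs)

theorem x0_notMem : x0 ∉ T := by
  intro h
  obtain ⟨s, hs, e⟩ := H.t0E
  apply H.t0ne
  rw [← e, H.comm x0 h s hs]
  group

/-- the elements of `S` outside `T` -/
theorem not_comm {x : G} (hx : x ∈ H.S) (hxT : x ∉ T) {t : G} (ht : t ∈ T) (h : x * t = t * x) :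
    x0 * t = t * x0 := by
  rcases H.mem_S' hx with h1 | ⟨a, ha, rfl | h1⟩
  · exact absurd h1 hxT
  · have e : x0 = a⁻¹ * (a * x0) := by group
    have h2 : a⁻¹ * t = t * a⁻¹ := H.comm _ (T.inv_mem ha) _ ht
    calc x0 * t = a⁻¹ * (a * x0 * t) := by group
      _ = a⁻¹ * (t * (a * x0)) := by rw [h]
      _ = a⁻¹ * t * (a * x0) := by group
      _ = t * a⁻¹ * (a * x0) := by rw [h2]
      _ = t * x0 := by group
  · have h3 : x⁻¹ * t = t * x⁻¹ := by
      calc x⁻¹ * t = x⁻¹ * (t * x) * x⁻¹ := by group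
        _ = x⁻¹ * (x * t) * x⁻¹ := by rw [h]
        _ = t * x⁻¹ := by group
    have h2 : a⁻¹ * t = t * a⁻¹ := H.comm _ (T.inv_mem ha) _ ht
    rw [h1] at h3
    calc x0 * t = a⁻¹ * (a * x0 * t) := by group
      _ = a⁻¹ * (t * (a * x0)) := by rw [h3]
      _ = a⁻¹ * t * (a * x0) := by group
      _ = t * a⁻¹ * (a * x0) := by rw [h2]
      _ = t * x0 := by group

/-- the elements of `V` -/
theorem exists_V : ∃ V : Subgroup G, IsPGroup 3 V ∧ (∀ a ∈ V, ∀ b ∈ V, a * b = b * a) ∧ (∀ a ∈ V, a ^ 3 = 1) ∧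
    9 ≤ Nat.card V ∧ ∀ a ∈ V, a ≠ 1 → ∀ b ∈ V, b ≠ 1 → IsConj a b := by
  obtain ⟨v1, v2, x1, x2, h1, h2, h3, h4, h5, h6⟩ := H.v
  have h2' : v2 ^ 3 = 1 := by rw [← h4, conj_pow, h2, mul_one, mul_inv_cancel]
  have hc : Commute v1 v2 := h3
  -- the map
  have hV : ∀ a ∈ _root_.Subgroup.closure ({v1, v2} : Set G), ∃ i j : ℕ, a = v1 ^ i * v2 ^ j := by
    intro a ha
    induction ha using closure_induction with
    | mem x hx =>
      rcases hx with rfl | rfl
      · exact ⟨1, 0, by simp⟩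
      · exact ⟨0, 1, by simp⟩
    | one => exact ⟨0, 0, by simp⟩
    | mul x y _ _ hx hy =>
      obtain ⟨i, j, rfl⟩ := hx
      obtain ⟨i', j', rfl⟩ := hy
      refine ⟨i + i', j + j', ?_⟩
      rw [pow_add, pow_add]
      have := (hc.pow_pow i' j).eq
      calc v1 ^ i * v2 ^ j * (v1 ^ i' * v2 ^ j') = v1 ^ i * (v2 ^ j * v1 ^ i') * v2 ^ j' := by group
        _ = v1 ^ i * (v1 ^ i' * v2 ^ j) * v2 ^ j' := by rw [this]
        _ = _ := by group
    | inv x _ hx =>
      obtain ⟨i, j, rfl⟩ := hx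
      refine ⟨2 * i, 2 * j, ?_⟩
      have e1 : ∀ {v : G}, v ^ 3 = 1 → ∀ i : ℕ, (v ^ i)⁻¹ = v ^ (2 * i) := by
        intro v hv i
        rw [inv_eq_iff_mul_eq_one, ← pow_add, show i + 2 * i = 3 * i by ring, pow_mul, hv, one_pow]
      rw [mul_inv_rev, e1 h2, e1 h2', (hc.pow_pow _ _).eq]
  have hV3 : ∀ a ∈ _root_.Subgroup.closure ({v1, v2} : Set G), ∃ i < 3, ∃ j < 3, a = v1 ^ i * v2 ^ j := by
    intro a ha
    obtain ⟨i, j, rfl⟩ := hV a ha
    have e1 : ∀ {v : G}, v ^ 3 = 1 → ∀ i : ℕ, v ^ i = v ^ (i % 3) := by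
      intro v hv i
      conv_lhs => rw [← Nat.div_add_mod i 3, pow_add, pow_mul, hv, one_pow, one_mul]
    exact ⟨i % 3, Nat.mod_lt _ (by norm_num), j % 3, Nat.mod_lt _ (by norm_num), by rw [← e1 h2, ← e1 h2']⟩
  have hcomm : ∀ a ∈ closure ({v1, v2} : Set G), ∀ b ∈ closure ({v1, v2} : Set G), a * b = b * a := by
    intro a ha b hb
    obtain ⟨i, j, rfl⟩ := hV a ha
    obtain ⟨i', j', rfl⟩ := hV b hb
    exact ((((hc.pow_pow i j').symm.symm)).mul_left (Commute.pow_pow (Commute.refl v2) j j') |>.mul_right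
      (Commute.refl _) |> fun _ => by
        have c1 : Commute (v1 ^ i) (v1 ^ i') := Commute.pow_pow (Commute.refl v1) i i'
        have c2 : Commute (v1 ^ i) (v2 ^ j') := hc.pow_pow i j'
        have c3 : Commute (v2 ^ j) (v1 ^ i') := (hc.symm).pow_pow j i'
        have c4 : Commute (v2 ^ j) (v2 ^ j') := Commute.pow_pow (Commute.refl v2) j j'
        exact ((c1.mul_right c2).mul_left (c3.mul_right c4)).eq)
  have hcube : ∀ a ∈ closure ({v1, v2} : Set G), a ^ 3 = 1 := by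
    intro a ha
    obtain ⟨i, j, rfl⟩ := hV a ha
    rw [(hc.pow_pow i j).mul_pow, ← pow_mul, ← pow_mul, mul_comm i, mul_comm j, pow_mul, pow_mul, h2, h2', one_pow,
      one_pow, one_mul]
  -- conjugacy: every nontrivial element is conjugate to `v1`
  have k1 : IsConj v1 v2 := isConj_iff.2 ⟨x1, h4⟩
  have k2 : IsConj v2 v1⁻¹ := isConj_iff.2 ⟨x1, h5⟩
  have kinv : ∀ {a b : G}, IsConj a b → IsConj a⁻¹ b⁻¹ := by
    intro a b h
    obtain ⟨g, rfl⟩ := isConj_iff.1 h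
    exact isConj_iff.2 ⟨g, by group⟩
  have k3 : IsConj v1 (v1 * v2) := isConj_iff.2 ⟨x2, h6⟩
  have k4 : IsConj (v1 * v2) (v2 * v1⁻¹) := isConj_iff.2 ⟨x1, by
    rw [← h4] at h5 ⊢
    calc x1 * (v1 * (x1 * v1 * x1⁻¹)) * x1⁻¹ = (x1 * v1 * x1⁻¹) * (x1 * (x1 * v1 * x1⁻¹) * x1⁻¹) := by group
      _ = _ := by rw [h5]⟩
  have hsq : ∀ {v : G}, v ^ 3 = 1 → v ^ 2 = v⁻¹ := by
    intro v hv
    rw [eq_inv_iff_mul_eq_one, ← pow_succ, hv]
  have kk : IsConj v1 v1⁻¹ := k1.trans k2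
  have hall : ∀ a ∈ closure ({v1, v2} : Set G), a ≠ 1 → IsConj v1 a := by
    intro a ha ha1
    obtain ⟨i, hi, j, hj, rfl⟩ := hV3 a ha
    interval_cases i <;> interval_cases j
    · simp at ha1
    · simpa only [_root_.pow_zero, _root_.pow_one, _root_.one_mul, _root_.isConj_iff] using k1
    · rw [pow_zero, one_mul, hsq h2']
      exact kk.trans (kinv k1)
    · simpa only [_root_.pow_one, _root_.pow_zero, _root_.mul_one, _root_.isConj_iff] using IsConj.refl v1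
    · simpa only [_root_.pow_one, _root_.isConj_iff] using k3
    · rw [pow_one, hsq h2']
      -- `v1 v2⁻¹ = (v2 v1⁻¹)⁻¹`
      have e : v1 * v2⁻¹ = (v2 * v1⁻¹)⁻¹ := by group
      rw [e]
      exact kk.trans (kinv (k3.trans k4))
    · rw [hsq h2, pow_zero, mul_one]
      exact kk
    · rw [hsq h2, pow_one, (hc.inv_left).eq]
      exact k3.trans k4
    · rw [hsq h2, hsq h2', ← mul_inv_rev, ← h3]
      exact kk.trans (kinv k3)
  -- order
  have hne : ∀ i j : ℕ, i < 3 → j < 3 → v1 ^ i * v2 ^ j = 1 → i = 0 ∧ j = 0 := by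
    intro i j hi hj he
    have hv1v2 : v2 ≠ 1 := by
      intro h
      rw [h] at h5
      apply h1
      have : v1⁻¹ = 1 := by rw [← h5]; group
      rwa [inv_eq_one] at this
    have hv11 : v1 ≠ v1⁻¹ := by
      intro h
      apply h1
      have e : v1 ^ 2 = 1 := by
        rw [pow_two]; nth_rewrite 2 [h]; exact mul_inv_cancel v1
      calc v1 = v1 ^ 3 * (v1 ^ 2)⁻¹ := by group
        _ = 1 := by rw [h2, e]; simp
    -- `v2 ∉ {v1, v1⁻¹}`
    have hn1 : v2 ≠ v1 := by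
      intro h
      rw [h] at h5 h4
      exact hv11 (h4.symm.trans h5)
    have hn2 : v2 ≠ v1⁻¹ := by
      intro h
      rw [h] at h5 h4
      apply hv11
      have : x1 * v1⁻¹ * x1⁻¹ = (x1 * v1 * x1⁻¹)⁻¹ := by group
      rw [this, h4, inv_inv] at h5
      exact h5
    interval_cases i <;> interval_cases j
    · exact ⟨rfl, rfl⟩
    · exact absurd (by simpa using he) hv1v2
    · rw [pow_zero, one_mul, hsq h2'] at he
      exact absurd (inv_eq_one.1 he) hv1v2
    · exact absurd (by simpa using he) h1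
    · rw [pow_one, pow_one] at he
      exact absurd (eq_inv_of_mul_eq_one_right he) hn2
    · rw [pow_one, hsq h2', mul_inv_eq_one] at he
      exact absurd he.symm hn1
    · rw [hsq h2, pow_zero, mul_one] at he
      exact absurd (inv_eq_one.1 he) h1
    · rw [hsq h2, pow_one, inv_mul_eq_one] at he
      exact absurd he.symm hn1
    · rw [hsq h2, hsq h2', ← mul_inv_rev, inv_eq_one] at he
      exact absurd (eq_inv_of_mul_eq_one_left he) hn2
  have hfin : Finite (closure ({v1, v2} : Set G)) := by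
    have : Function.Surjective (fun p : Fin 3 × Fin 3 => (⟨v1 ^ (p.1 : ℕ) * v2 ^ (p.2 : ℕ),
        mul_mem (pow_mem (_root_.Subgroup.subset_closure (by simp)) _) (pow_mem (_root_.Subgroup.subset_closure (by simp)) _)⟩ :
        closure ({v1, v2} : Set G))) := by
      rintro ⟨a, ha⟩
      obtain ⟨i, hi, j, hj, rfl⟩ := hV3 a ha
      exact ⟨(⟨i, hi⟩, ⟨j, hj⟩), rfl⟩
    exact Finite.of_surjective _ this
  refine ⟨_root_.Subgroup.closure {v1, v2}, ?_, hcomm, hcube, ?_, fun a ha ha1 b hb hb1 => (hall a ha ha1).symm.trans (hall b hb hb1)⟩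
  · rw [isPGroup_iff]
    exact fun a ha => ⟨1, by rw [pow_one]; exact hcube a ha⟩
  · have hinj : Function.Injective (fun p : Fin 3 × Fin 3 => (⟨v1 ^ (p.1 : ℕ) * v2 ^ (p.2 : ℕ),
        mul_mem (pow_mem (_root_.Subgroup.subset_closure (by simp)) _) (pow_mem (_root_.Subgroup.subset_closure (by simp)) _)⟩ :
        closure ({v1, v2} : Set G))) := by
      rintro ⟨i, j⟩ ⟨i', j'⟩ h
      have h7 : v1 ^ (i : ℕ) * v2 ^ (j : ℕ) = v1 ^ (i' : ℕ) * v2 ^ (j' : ℕ) := congrArg Subtype.val h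
      -- `v1 ^ (i + 2 i') * v2 ^ (j + 2 j') = 1`
      have h8 : v1 ^ ((i + 2 * i' : ℕ) % 3) * v2 ^ ((j + 2 * j' : ℕ) % 3) = 1 := by
        have e1 : ∀ {v : G}, v ^ 3 = 1 → ∀ i : ℕ, v ^ (i % 3) = v ^ i := by
          intro v hv i
          conv_rhs => rw [← Nat.div_add_mod i 3, pow_add, pow_mul, hv, one_pow, one_mul]
        have e2 : ∀ {v : G}, v ^ 3 = 1 → ∀ i : ℕ, v ^ (2 * i) = (v ^ i)⁻¹ := by
          intro v hv i
          rw [eq_inv_iff_mul_eq_one, ← pow_add, show 2 * i + i = 3 * i by ring, pow_mul, hv, one_pow]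
        rw [e1 h2, e1 h2', pow_add, pow_add, e2 h2, e2 h2']
        have c1 : Commute ((v1 ^ (i' : ℕ))⁻¹) (v2 ^ (j : ℕ)) := ((hc.pow_pow i' j).inv_left)
        calc v1 ^ (i : ℕ) * (v1 ^ (i' : ℕ))⁻¹ * (v2 ^ (j : ℕ) * (v2 ^ (j' : ℕ))⁻¹)
            = v1 ^ (i : ℕ) * ((v1 ^ (i' : ℕ))⁻¹ * v2 ^ (j : ℕ)) * (v2 ^ (j' : ℕ))⁻¹ := by group
          _ = v1 ^ (i : ℕ) * (v2 ^ (j : ℕ) * (v1 ^ (i' : ℕ))⁻¹) * (v2 ^ (j' : ℕ))⁻¹ := by rw [c1.eq]
          _ = (v1 ^ (i : ℕ) * v2 ^ (j : ℕ)) * ((v1 ^ (i' : ℕ))⁻¹ * (v2 ^ (j' : ℕ))⁻¹) := by group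
          _ = (v1 ^ (i' : ℕ) * v2 ^ (j' : ℕ)) * ((v1 ^ (i' : ℕ))⁻¹ * (v2 ^ (j' : ℕ))⁻¹) := by rw [h7]
          _ = 1 := by
            rw [((hc.pow_pow i' j').inv_inv).eq]
            group
      obtain ⟨h9, h10⟩ := hne _ _ (Nat.mod_lt _ (by norm_num)) (Nat.mod_lt _ (by norm_num)) h8
      have hi := i.2
      have hi' := i'.2
      have hj := j.2
      have hj' := j'.2
      refine Prod.ext (Fin.ext ?_) (Fin.ext ?_)
      · show (i : ℕ) = i'; omega
      · show (j : ℕ) = j'; omega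
    have := Nat.card_le_card_of_injective _ hinj
    simpa only [Nat.card_prod, _root_.ge_iff_le, _root_.Nat.card_eq_fintype_card, _root_.Fintype.card_prod, _root_.Fintype.card_fin, _root_.Nat.reduceMul] using this

/-- **the criterion** -/
theorem full [Finite G] (hcard : ¬ 9 * Nat.card T ∣ Nat.card G) : Exc.Full 3 G := by
  have h3 : Fact (Nat.Prime 3) := ⟨Nat.prime_three⟩
  obtain ⟨P, hP⟩ := H.isPGroup.exists_le_sylow
  -- `P = S`
  have hidx : ∀ {A B : Subgroup G}, A ≤ B → B ≤ P → ¬ B ≤ A → 3 * Nat.card A ∣ Nat.card B := by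
    intro A B hAB hBP hn
    have hBp : IsPGroup 3 B := P.2.to_le hBP
    have e : A.relIndex B * Nat.card A = Nat.card B := by
      have e1 := Subgroup.relIndex_mul_relIndex ⊥ A B bot_le hAB
      rw [relIndex_bot_left, relIndex_bot_left] at e1
      rw [mul_comm]; exact e1
    have h4 : 3 ∣ A.relIndex B := by
      have h5 : A.relIndex B ≠ 1 := fun h => hn (Subgroup.relIndex_eq_one.1 h)
      obtain ⟨n, hn⟩ := (IsPGroup.iff_card.1 hBp)
      rw [hn] at e
      obtain ⟨m, hm, h6⟩ := (Nat.dvd_prime_pow Nat.prime_three).1 (Dvd.intro _ e)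
      rw [h6] at h5 ⊢
      exact dvd_pow_self 3 (fun h0 => h5 (by rw [h0, pow_zero]))
    rw [← e]
    exact Nat.mul_dvd_mul_right h4 _
  have hSP : (P : Subgroup G) = H.S := by
    by_contra hne
    have h4 : ¬ (P : Subgroup G) ≤ H.S := fun h => hne (le_antisymm h hP)
    have h5 := hidx hP le_rfl h4
    have h6 := hidx H.T_le hP (fun h => H.x0_notMem (h H.x0_mem))
    apply hcard
    have h7 : 9 * Nat.card T = 3 * (3 * Nat.card T) := by ring
    rw [h7]
    exact ((Nat.mul_dvd_mul_left 3 h6).trans h5).trans (Subgroup.card_subgroup_dvd_card _)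
  refine Exc.full_of_one P fun A hA hne => ?_
  rw [hSP] at hA ⊢
  have hAS := hA.1
  have hAc := hA.2
  -- step 1: `z ∈ A`
  have hzA : z ∈ A := by
    have : Nontrivial A := (Subgroup.nontrivial_iff_ne_bot A).2 hne
    have hn : (A.subgroupOf H.S).Normal := by
      refine ⟨fun a ha g => ?_⟩
      rw [mem_subgroupOf] at ha ⊢
      exact hAc _ ha _ (g * a * g⁻¹).2
    have hAn : A.subgroupOf H.S ≠ ⊥ := by
      intro h
      rw [subgroupOf_eq_bot] at h
      exact hne (le_bot_iff.1 (h.le_bot |>.trans' (le_inf le_rfl hAS)))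
    have hSp : IsPGroup 3 H.S := H.isPGroup
    have : Finite H.S := inferInstance
    have h4 : (A.subgroupOf H.S ⊓ center H.S : Subgroup H.S) ≠ ⊥ := by
      have := Cfsg.Agent.H790.TriCrit.inf_center_ne_bot hSp hAn hn
      exact this
    obtain ⟨⟨y, hyA, hyc⟩, hy1⟩ := Subgroup.ne_bot_iff_exists_ne_one.1 h4
    have hy1' : (y : G) ≠ 1 := fun h => hy1 (Subtype.ext (Subtype.ext h))
    have hcen : ∀ s ∈ H.S, s * y = y * s := fun s hs => congrArg Subtype.val (mem_center_iff.1 hyc ⟨s, hs⟩)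
    have hyT : (y : G) ∈ T := by
      by_contra hyT
      obtain ⟨s, hs, e⟩ := H.t0E
      have h5 := H.not_comm y.2 hyT hs (hcen s (H.T_le hs)).symm
      apply H.t0ne
      rw [← e, h5]
      group
    rcases H.cent y hyT (hcen x0 H.x0_mem) with h5 | h5 | h5
    · exact absurd h5 hy1'
    · rw [← h5]; exact hyA
    · have := A.inv_mem hyA
      rw [show H.S.subtype y = (y : G) from rfl, h5, inv_inv] at this
      exact this
  -- step 2: an element `x ∈ S \ T` conjugate to `z`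
  obtain ⟨V, hVp, hVc, hV3, hV9, hVconj⟩ := H.exists_V
  obtain ⟨g, hg⟩ := ClosedTwo.Elem.exists_conj_le P hVp
  have hgS : ∀ a ∈ V, g * a * g⁻¹ ∈ H.S := fun a ha => hSP ▸ hg a ha
  have hone : ∀ a, g * a * g⁻¹ = 1 → a = 1 := fun a ha => by
    have : a = g⁻¹ * (g * a * g⁻¹) * g := by group
    rw [this, ha]; group
  have hconj1 : ∀ a : G, IsConj a (g * a * g⁻¹) := fun a => isConj_iff.2 ⟨g, rfl⟩
  obtain ⟨gc, hgc⟩ := H.conj
  have ht03 : t0 ^ 3 = 1 := by rw [← hgc, conj_pow, H.cube, mul_one, mul_inv_cancel]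
  have hz3 : z ^ 3 = 1 := by
    -- `z` commutes with `x0`; `z ^ 3` too
    by_contra h
    obtain ⟨N, hN⟩ := H.exp
    have hc3 : x0 * z ^ 3 = z ^ 3 * x0 := ((show Commute x0 z from H.zx).pow_right 3).eq
    rcases H.cent _ (T.pow_mem H.zT 3) hc3 with h4 | h4 | h4
    · exact h h4
    · have h5 : z ^ 2 = 1 := by
        have : z ^ 3 = z ^ 2 * z := pow_succ z 2
        rw [this] at h4
        exact mul_eq_right.1 h4
      have h6 := hN z H.zT
      have hodd : Odd (3 ^ N) := Odd.pow (by decide)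
      obtain ⟨m, hm⟩ := hodd
      rw [hm, pow_succ, pow_mul, h5, one_pow, one_mul] at h6
      exact H.z1 h6
    · have h5 : z ^ 4 = 1 := by
        rw [pow_succ, h4, inv_mul_cancel]
      have h6 := hN z H.zT
      have hco : Nat.Coprime 4 (3 ^ N) := Nat.Coprime.pow_right N (by norm_num)
      have h7 : orderOf z ∣ Nat.gcd 4 (3 ^ N) := Nat.dvd_gcd (orderOf_dvd_of_pow_eq_one h5) (orderOf_dvd_of_pow_eq_one h6)
      rw [hco.gcd_eq_one, Nat.dvd_one, orderOf_eq_one_iff] at h7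
      exact H.z1 h7
  obtain ⟨x, hxS, hxT, hzx, hzx'⟩ : ∃ x ∈ H.S, x ∉ T ∧ IsConj z x ∧ IsConj z x⁻¹ := by
    by_cases hVT : ∀ a ∈ V, g * a * g⁻¹ ∈ T
    · exfalso
      -- `V^g = Ω₁(T)`
      have hfin : Finite V := inferInstance
      let f : V → {t : T // t ^ 3 = 1} := fun a => ⟨⟨g * a * g⁻¹, hVT a a.2⟩, Subtype.ext (by
        show (g * (a : G) * g⁻¹) ^ 3 = 1
        rw [conj_pow, hV3 a a.2, mul_one, mul_inv_cancel])⟩
      have hf : Function.Injective f := by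
        intro a b hab
        have h5 : g * (a : G) * g⁻¹ = g * b * g⁻¹ := congrArg (fun x : {t : T // t ^ 3 = 1} => ((x : T) : G)) hab
        exact Subtype.ext (mul_left_cancel (mul_right_cancel h5))
      have hbij : Function.Bijective f := hf.bijective_of_nat_card_le (H.omega.trans hV9)
      obtain ⟨a, ha⟩ := hbij.2 ⟨⟨z, H.zT⟩, Subtype.ext hz3⟩
      obtain ⟨b, hb⟩ := hbij.2 ⟨⟨t0, H.t0_mem⟩, Subtype.ext ht03⟩
      have ha' : g * (a : G) * g⁻¹ = z := congrArg (fun x : {t : T // t ^ 3 = 1} => ((x : T) : G)) ha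
      have hb' : g * (b : G) * g⁻¹ = t0 := congrArg (fun x : {t : T // t ^ 3 = 1} => ((x : T) : G)) hb
      have ha1 : (a : G) ≠ 1 := fun h => H.z1 (by rw [← ha', h]; group)
      have hb1 : (b : G) ≠ 1 := fun h => H.t0ne (by rw [← hb', h]; group)
      have h6 : IsConj z t0 := by
        rw [← ha', ← hb']
        exact ((hconj1 _).symm.trans (hVconj a a.2 ha1 b b.2 hb1)).trans (hconj1 _)
      obtain ⟨c, hc⟩ := isConj_iff.1 h6
      exact H.ne c hc
    · push Not at hVT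
      obtain ⟨a, ha, haT⟩ := hVT
      have ha1 : a ≠ 1 := fun h => haT (by rw [h]; simp)
      -- an element of `V` mapped into `T`
      obtain ⟨b, hb, hb1, hbT⟩ : ∃ b ∈ V, b ≠ 1 ∧ g * b * g⁻¹ ∈ T := by
        by_contra hcon
        push Not at hcon
        -- `V` injects into `S / T`
        have hinj : ∀ b ∈ V, ∃ i < 3, ∃ t ∈ T, g * b * g⁻¹ = t * x0 ^ i := by
          intro b hb
          obtain ⟨t, ht, i, e⟩ := hgS b hb
          refine ⟨i % 3, Nat.mod_lt _ (by norm_num), t, ht, ?_⟩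
          rw [e]
          conv_lhs => rw [← Nat.div_add_mod i 3, pow_add, pow_mul, H.cube, one_pow, one_mul]
        choose! i hi t ht e using hinj
        have hf : Function.Injective (fun b : V => (⟨i b, hi b b.2⟩ : Fin 3)) := by
          intro b c hbc
          have h5 : i b = i c := congrArg Fin.val hbc
          have h6 : g * ((b : G) * (c : G)⁻¹) * g⁻¹ ∈ T := by
            have : g * ((b : G) * (c : G)⁻¹) * g⁻¹ = (g * b * g⁻¹) * (g * c * g⁻¹)⁻¹ := by group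
            rw [this, e b b.2, e c c.2, h5]
            have e3 : t b * x0 ^ i c * (t c * x0 ^ i c)⁻¹ = t b * (t c)⁻¹ := by group
            rw [e3]
            exact T.mul_mem (ht b b.2) (T.inv_mem (ht c c.2))
          by_contra hne
          exact hcon _ (V.mul_mem b.2 (V.inv_mem c.2)) (fun h => hne (Subtype.ext (mul_inv_eq_one.1 h))) h6
        have := Nat.card_le_card_of_injective _ hf
        rw [Nat.card_fin] at this
        omega
      have hcomm : (g * a * g⁻¹) * (g * b * g⁻¹) = (g * b * g⁻¹) * (g * a * g⁻¹) := by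
        calc (g * a * g⁻¹) * (g * b * g⁻¹) = g * (a * b) * g⁻¹ := by group
          _ = g * (b * a) * g⁻¹ := by rw [hVc a ha b hb]
          _ = _ := by group
      have h5 := H.not_comm (hgS a ha) haT hbT hcomm
      have hb1' : g * b * g⁻¹ ≠ 1 := fun h => hb1 (hone _ h)
      have hzb : ∀ c ∈ V, c ≠ 1 → IsConj z (g * c * g⁻¹) := by
        intro c hc hc1
        rcases H.cent _ hbT h5 with h6 | h6 | h6
        · exact absurd h6 hb1'
        · rw [← h6]
          exact ((hconj1 b).symm.trans (hVconj b hb hb1 c hc hc1)).trans (hconj1 c)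
        · have h7 : z = g * b⁻¹ * g⁻¹ := by
            have : g * b⁻¹ * g⁻¹ = (g * b * g⁻¹)⁻¹ := by group
            rw [this, h6, inv_inv]
          rw [h7]
          exact ((hconj1 b⁻¹).symm.trans (hVconj b⁻¹ (V.inv_mem hb) (inv_ne_one.2 hb1) c hc hc1)).trans (hconj1 c)
      refine ⟨g * a * g⁻¹, hgS a ha, haT, hzb a ha ha1, ?_⟩
      have : (g * a * g⁻¹)⁻¹ = g * a⁻¹ * g⁻¹ := by group
      rw [this]
      exact hzb _ (V.inv_mem ha) (inv_ne_one.2 ha1)
  -- `x = h x0`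
  obtain ⟨h, hh, hhx⟩ : ∃ h ∈ T, IsConj z (h * x0) := by
    rcases H.mem_S' hxS with h5 | ⟨h, hh, rfl | h5⟩
    · exact absurd h5 hxT
    · exact ⟨h, hh, hzx⟩
    · exact ⟨h, hh, by rw [← h5]; exact hzx'⟩
  have hin : ∀ {a b : G}, a ∈ A → IsConj a b → b ∈ H.S → b ∈ A := by
    intro a b ha hab hb
    obtain ⟨c, rfl⟩ := isConj_iff.1 hab
    exact hAc a ha c hb
  have hhS : h * x0 ∈ H.S := ⟨h, hh, 1, by rw [pow_one]⟩
  have hhA : h * x0 ∈ A := hin hzA hhx hhS
  -- step 3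
  have hcommA : ∀ t ∈ T, x0 * t * x0⁻¹ * t⁻¹ ∈ A := by
    intro t ht
    have h5 : (h * x0) * t * (h * x0)⁻¹ * t⁻¹ ∈ A := by
      have e : (h * x0) * t * (h * x0)⁻¹ * t⁻¹ = (h * x0) * (t * (h * x0)⁻¹ * t⁻¹) := by group
      rw [e]
      refine A.mul_mem hhA ?_
      refine hAc _ (A.inv_mem hhA) t ?_
      exact H.S.mul_mem (H.S.mul_mem (H.T_le ht) (H.S.inv_mem hhS)) (H.S.inv_mem (H.T_le ht))
    have e : (h * x0) * t * (h * x0)⁻¹ * t⁻¹ = x0 * t * x0⁻¹ * t⁻¹ := by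
      have h6 : h * (x0 * t * x0⁻¹) = (x0 * t * x0⁻¹) * h := H.comm _ hh _ (H.norm t ht)
      calc (h * x0) * t * (h * x0)⁻¹ * t⁻¹ = h * (x0 * t * x0⁻¹) * h⁻¹ * t⁻¹ := by group
        _ = (x0 * t * x0⁻¹) * h * h⁻¹ * t⁻¹ := by rw [h6]
        _ = _ := by group
    rwa [e] at h5
  -- step 4
  have ht0A : t0 ∈ A := by
    obtain ⟨s, hs, e⟩ := H.t0E
    rw [← e]
    exact hcommA s hs
  have hx0A : x0 ∈ A := hin ht0A (isConj_iff.2 ⟨gc⁻¹, by rw [← hgc]; group⟩) H.x0_mem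
  have hhA' : h ∈ A := by
    have : h = (h * x0) * x0⁻¹ := by group
    rw [this]
    exact A.mul_mem hhA (A.inv_mem hx0A)
  -- step 5
  have hx0t0 : IsConj x0 t0 := isConj_iff.2 ⟨gc, hgc⟩
  have hnim : ¬ ∃ t ∈ T, x0 * t * x0⁻¹ * t⁻¹ = h := by
    rintro ⟨t, ht, e⟩
    have h5 : IsConj x0 (h * x0) := by
      refine isConj_iff.2 ⟨t⁻¹, ?_⟩
      have h6 : (x0 * t * x0⁻¹) * t⁻¹ = t⁻¹ * (x0 * t * x0⁻¹) := H.comm _ (H.norm t ht) _ (T.inv_mem ht)
      rw [← e, h6]
      group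
    obtain ⟨c, hc⟩ := isConj_iff.1 (hhx.trans (h5.symm.trans hx0t0))
    exact H.ne c hc
  -- step 6
  let δ : T →* T :=
    { toFun := fun t => ⟨x0 * t * x0⁻¹ * (t : G)⁻¹, T.mul_mem (H.norm t t.2) (T.inv_mem t.2)⟩
      map_one' := Subtype.ext (by simp)
      map_mul' := fun a b => Subtype.ext (by
        show x0 * ((a : G) * b) * x0⁻¹ * ((a : G) * b)⁻¹ = x0 * a * x0⁻¹ * (a : G)⁻¹ * (x0 * b * x0⁻¹ * (b : G)⁻¹)
        have h6 : (x0 * (b : G) * x0⁻¹ * (b : G)⁻¹) * (a : G)⁻¹ = (a : G)⁻¹ * (x0 * (b : G) * x0⁻¹ * (b : G)⁻¹) :=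
          H.comm _ (T.mul_mem (H.norm b b.2) (T.inv_mem b.2)) _ (T.inv_mem a.2)
        calc x0 * ((a : G) * b) * x0⁻¹ * ((a : G) * b)⁻¹
            = x0 * a * x0⁻¹ * ((x0 * (b : G) * x0⁻¹ * (b : G)⁻¹) * (a : G)⁻¹) := by group
          _ = x0 * a * x0⁻¹ * ((a : G)⁻¹ * (x0 * (b : G) * x0⁻¹ * (b : G)⁻¹)) := by rw [h6]
          _ = _ := by group) }
  have hker : Nat.card δ.ker ≤ 3 := by
    have h5 : ∀ t : T, t ∈ δ.ker → (t : G) = 1 ∨ (t : G) = z ∨ (t : G) = z⁻¹ := by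
      intro t ht
      have h6 : x0 * (t : G) * x0⁻¹ * (t : G)⁻¹ = 1 := congrArg Subtype.val (MonoidHom.mem_ker.1 ht)
      apply H.cent t t.2
      rw [mul_inv_eq_one, mul_inv_eq_iff_eq_mul] at h6
      exact h6
    classical
    have h7 : ((δ.ker : Set T)) ⊆ (Finset.image (fun x : G => if hx : x ∈ T then (⟨x, hx⟩ : T) else 1)
        ({1, z, z⁻¹} : Finset G) : Finset T) := by
      intro t ht
      rw [Finset.mem_coe, Finset.mem_image]
      refine ⟨t, ?_, by rw [dif_pos t.2]⟩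
      simpa only [_root_.Finset.mem_insert, _root_.OneMemClass.coe_eq_one, _root_.Finset.mem_singleton] using h5 t ht
    have h8 : Nat.card δ.ker ≤ (Finset.image (fun x : G => if hx : x ∈ T then (⟨x, hx⟩ : T) else 1)
        ({1, z, z⁻¹} : Finset G)).card := by
      rw [← Set.ncard_coe_finset]
      exact Set.ncard_le_ncard h7 (Finset.finite_toSet _)
    exact h8.trans (Finset.card_image_le.trans Finset.card_le_three)
  have hTA : T ≤ A := by
    by_contra hTA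
    have hA' : (A ⊓ T).subgroupOf T ≠ ⊤ := by
      intro h5
      apply hTA
      have h6 : T ≤ A ⊓ T := by rwa [subgroupOf_eq_top] at h5
      exact h6.trans inf_le_left
    have h5 : δ.range ≤ (A ⊓ T).subgroupOf T := by
      rintro _ ⟨t, rfl⟩
      exact ⟨hcommA t t.2, (δ t).2⟩
    have hTfin : Finite T := inferInstance
    have h6 : Nat.card δ.range * Nat.card δ.ker = Nat.card T := by
      have := δ.ker.card_mul_index
      rw [Subgroup.index_ker] at this
      rw [mul_comm]; exact this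
    have hTp : IsPGroup 3 T := H.isPGroup.to_le H.T_le
    -- the index of `A ⊓ T`
    have h7 := ((A ⊓ T).subgroupOf T).card_mul_index
    have h8 : 3 ∣ ((A ⊓ T).subgroupOf T).index := by
      obtain ⟨n, hn⟩ := IsPGroup.iff_card.1 hTp
      have h9 : ((A ⊓ T).subgroupOf T).index ∣ 3 ^ n := by rw [← hn]; exact Dvd.intro_left _ h7
      obtain ⟨m, hm, h10⟩ := (Nat.dvd_prime_pow Nat.prime_three).1 h9
      rw [h10]
      refine dvd_pow_self 3 fun h0 => ?_
      rw [h0, pow_zero, Subgroup.index_eq_one] at h10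
      exact hA' h10
    have h11 : Nat.card δ.range < Nat.card ((A ⊓ T).subgroupOf T) := by
      have h12 : δ.range ≠ (A ⊓ T).subgroupOf T := by
        intro h13
        have h14 : (⟨h, hh⟩ : T) ∈ δ.range := by
          rw [h13]
          exact ⟨hhA', hh⟩
        obtain ⟨t, ht⟩ := h14
        exact hnim ⟨t, t.2, congrArg Subtype.val ht⟩
      exact lt_of_le_of_ne (Subgroup.card_le_of_le h5) (fun h13 => h12 (Subgroup.eq_of_le_of_card_ge h5 h13.ge))
    have h15 : 0 < Nat.card ((A ⊓ T).subgroupOf T) := Nat.card_pos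
    have h16 : 0 < ((A ⊓ T).subgroupOf T).index := Nat.pos_of_ne_zero (fun h0 => by
      rw [h0, mul_zero] at h7
      exact Nat.card_pos.ne' h7.symm)
    have h17 := Nat.le_of_dvd h16 h8
    have h18 : Nat.card δ.range * 3 < Nat.card T := by
      calc Nat.card δ.range * 3 < Nat.card ((A ⊓ T).subgroupOf T) * 3 := by omega
        _ ≤ Nat.card ((A ⊓ T).subgroupOf T) * ((A ⊓ T).subgroupOf T).index := Nat.mul_le_mul_left _ h17
        _ = Nat.card T := h7
    have h19 : Nat.card δ.range * Nat.card δ.ker ≤ Nat.card δ.range * 3 := Nat.mul_le_mul_left _ hker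
    omega
  rintro _ ⟨t, ht, i, rfl⟩
  exact A.mul_mem (hTA ht) (A.pow_mem hx0A i)

end TriHyp

end Cfsg.Agent.H790.TriCrit
end

-- part: H790/IrrCrit
section
set_option linter.all false
open scoped Cfsg.Agent.FastGrp

/-!
# A criterion for `Full p G` (helper790), used for `E₈(q)`, `p = 5`, `q² ≡ -1`

`T ≤ G` an abelian `p`-subgroup, `x0` of order `p` normalising `T`, `p² |T|` does not divide `|G|`; `x0` is conjugate to
`t0 ∈ T`; every nontrivial subgroup of `T` invariant under a set `N` of elements normalising `T` contains `t0`, every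
subgroup of `T` invariant under `N` containing `[x0, T]` is `T`.
-/

set_option autoImplicit false
set_option linter.unusedSectionVars false

namespace Cfsg.Agent.H790.IrrCrit

open Subgroup Cfsg.Agent.H629 Cfsg.Agent.H749

/-- the hypotheses -/
structure IrrHyp {G : Type*} [Group G] (p : ℕ) (T : Subgroup G) (x0 t0 : G) (N : Set G) : Prop where
  comm : ∀ a ∈ T, ∀ b ∈ T, a * b = b * a
  exp : ∃ m : ℕ, ∀ t ∈ T, t ^ p ^ m = 1
  norm : ∀ t ∈ T, x0 * t * x0⁻¹ ∈ T
  pow : x0 ^ p = 1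
  t0T : t0 ∈ T
  conj : ∃ g, g * x0 * g⁻¹ = t0
  nontriv : ∃ t ∈ T, x0 * t ≠ t * x0
  normN : ∀ n ∈ N, ∀ t ∈ T, n * t * n⁻¹ ∈ T
  one : ∀ B : Subgroup G, B ≤ T → B ≠ ⊥ → (∀ n ∈ N, ∀ b ∈ B, n * b * n⁻¹ ∈ B) → t0 ∈ B
  two : ∀ B : Subgroup G, B ≤ T → (∀ n ∈ N, ∀ b ∈ B, n * b * n⁻¹ ∈ B) →
    (∀ t ∈ T, x0 * t * x0⁻¹ * t⁻¹ ∈ B) → T ≤ B

namespace IrrHyp

variable {G : Type*} [Group G] {p : ℕ} [hpp : Fact p.Prime] {T : Subgroup G} {x0 t0 : G} {N : Set G}
  (H : IrrHyp p T x0 t0 N)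

include H

theorem norm_pow (i : ℕ) {t : G} (ht : t ∈ T) : x0 ^ i * t * (x0 ^ i)⁻¹ ∈ T := by
  induction i with
  | zero => simpa using ht
  | succ i ih =>
    have := H.norm _ ih
    have e : x0 ^ (i + 1) * t * (x0 ^ (i + 1))⁻¹ = x0 * (x0 ^ i * t * (x0 ^ i)⁻¹) * x0⁻¹ := by
      rw [pow_succ']; group
    rwa [e]

theorem inv_pow' (i : ℕ) : (x0 ^ i)⁻¹ = x0 ^ ((p - 1) * i) := by
  rw [inv_eq_iff_mul_eq_one, ← pow_add]
  have h1 : i + (p - 1) * i = p * i := by
    have := hpp.out.pos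
    obtain ⟨m, rfl⟩ : ∃ m, p = m + 1 := ⟨p - 1, by omega⟩
    rw [Nat.add_sub_cancel]; ring
  rw [h1, pow_mul, H.pow, one_pow]

/-- the Sylow subgroup -/
def S (H : IrrHyp p T x0 t0 N) : Subgroup G where
  carrier := {g | ∃ t ∈ T, ∃ i : ℕ, g = t * x0 ^ i}
  one_mem' := ⟨1, one_mem _, 0, by simp⟩
  mul_mem' := by
    rintro _ _ ⟨t, ht, i, rfl⟩ ⟨s, hs, j, rfl⟩
    exact ⟨t * (x0 ^ i * s * (x0 ^ i)⁻¹), T.mul_mem ht (H.norm_pow i hs), i + j, by rw [pow_add]; group⟩
  inv_mem' := by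
    rintro _ ⟨t, ht, i, rfl⟩
    refine ⟨x0 ^ ((p - 1) * i) * t⁻¹ * (x0 ^ ((p - 1) * i))⁻¹, H.norm_pow _ (T.inv_mem ht), (p - 1) * i, ?_⟩
    rw [mul_inv_rev, H.inv_pow']
    group

theorem T_le : T ≤ H.S := fun t ht => ⟨t, ht, 0, by simp⟩

theorem x0_mem : x0 ∈ H.S := ⟨1, one_mem _, 1, by simp⟩

theorem x0_notMem : x0 ∉ T := by
  intro h
  obtain ⟨t, ht, e⟩ := H.nontriv
  exact e (H.comm x0 h t ht)

/-- the elements of `S` outside `T` -/
theorem comm_x0 {i : ℕ} (hi : ¬ p ∣ i) {t : G} (h : x0 ^ i * t = t * x0 ^ i) : x0 * t = t * x0 := by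
  have hco : Nat.Coprime i p := (Nat.coprime_comm.1 ((Nat.Prime.coprime_iff_not_dvd hpp.out).2 hi))
  have h1 : x0 = (x0 ^ i) ^ (Nat.gcdA i p) := by
    have h2 : (1 : ℤ) = i * Nat.gcdA i p + p * Nat.gcdB i p := by
      rw [← Nat.gcd_eq_gcd_ab, hco.gcd_eq_one]; rfl
    calc x0 = x0 ^ (1 : ℤ) := (zpow_one _).symm
      _ = (x0 ^ i) ^ (Nat.gcdA i p) := by
        rw [h2, zpow_add, zpow_mul, zpow_mul, zpow_natCast, zpow_natCast, H.pow, one_zpow, mul_one]
  have hc : Commute ((x0 ^ i) ^ (Nat.gcdA i p)) t := (show Commute (x0 ^ i) t from h).zpow_left _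
  rw [← h1] at hc
  exact hc

theorem isPGroup : IsPGroup p H.S := by
  -- `T` is normal in `S` with cyclic quotient
  rw [isPGroup_iff]
  rintro _ ⟨t, ht, i, rfl⟩
  obtain ⟨m, hm⟩ := H.exp
  refine ⟨m + 1, ?_⟩
  have h1 : ∀ j : ℕ, ∃ s ∈ T, (t * x0 ^ i) ^ j = s * x0 ^ (i * j) := by
    intro j
    induction j with
    | zero => exact ⟨1, one_mem _, by simp⟩
    | succ j ih =>
      obtain ⟨s, hs, e⟩ := ih
      refine ⟨s * (x0 ^ (i * j) * t * (x0 ^ (i * j))⁻¹), T.mul_mem hs (H.norm_pow _ ht), ?_⟩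
      rw [pow_succ, e, mul_add, mul_one, pow_add x0 (i * j) i]
      group
  obtain ⟨s, hs, e⟩ := h1 p
  rw [pow_succ', pow_mul, e, mul_comm i p, pow_mul, H.pow, one_pow, mul_one]
  exact hm _ hs

/-- **the criterion** -/
theorem full [Finite G] (hcard : ¬ p ^ 2 * Nat.card T ∣ Nat.card G) : Exc.Full p G := by
  obtain ⟨P, hP⟩ := H.isPGroup.exists_le_sylow
  -- `P = S`
  have hidx : ∀ {A B : Subgroup G}, A ≤ B → B ≤ P → ¬ B ≤ A → p * Nat.card A ∣ Nat.card B := by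
    intro A B hAB hBP hn
    have hBp : IsPGroup p B := P.2.to_le hBP
    have e : A.relIndex B * Nat.card A = Nat.card B := by
      have e1 := Subgroup.relIndex_mul_relIndex ⊥ A B bot_le hAB
      rw [relIndex_bot_left, relIndex_bot_left] at e1
      rw [mul_comm]; exact e1
    have h4 : p ∣ A.relIndex B := by
      have h5 : A.relIndex B ≠ 1 := fun h => hn (Subgroup.relIndex_eq_one.1 h)
      obtain ⟨n, hn⟩ := (IsPGroup.iff_card.1 hBp)
      rw [hn] at e
      obtain ⟨m, hm, h6⟩ := (Nat.dvd_prime_pow hpp.out).1 (Dvd.intro _ e)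
      rw [h6] at h5 ⊢
      exact dvd_pow_self p (fun h0 => h5 (by rw [h0, pow_zero]))
    rw [← e]
    exact Nat.mul_dvd_mul_right h4 _
  have hSP : (P : Subgroup G) = H.S := by
    by_contra hne
    have h4 : ¬ (P : Subgroup G) ≤ H.S := fun h => hne (le_antisymm h hP)
    have h5 := hidx hP le_rfl h4
    have h6 := hidx H.T_le hP (fun h => H.x0_notMem (h H.x0_mem))
    apply hcard
    have h7 : p ^ 2 * Nat.card T = p * (p * Nat.card T) := by ring
    rw [h7]
    exact ((Nat.mul_dvd_mul_left p h6).trans h5).trans (Subgroup.card_subgroup_dvd_card _)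
  refine Exc.full_of_one P fun A hA hne => ?_
  rw [hSP] at hA ⊢
  have hAS := hA.1
  have hAc := hA.2
  -- `A ∩ T ≠ 1`
  obtain ⟨y, hyA, hyT, hy1⟩ : ∃ y ∈ A, y ∈ T ∧ y ≠ 1 := by
    have hn : (A.subgroupOf H.S).Normal := by
      refine ⟨fun a ha g => ?_⟩
      rw [mem_subgroupOf] at ha ⊢
      exact hAc _ ha _ (g * a * g⁻¹).2
    have hAn : A.subgroupOf H.S ≠ ⊥ := by
      intro h
      rw [subgroupOf_eq_bot] at h
      exact hne (le_bot_iff.1 (h.le_bot |>.trans' (le_inf le_rfl hAS)))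
    have : Finite H.S := inferInstance
    have h4 : (A.subgroupOf H.S ⊓ center H.S : Subgroup H.S) ≠ ⊥ :=
      Cfsg.Agent.H790.TriCrit.inf_center_ne_bot H.isPGroup hAn hn
    obtain ⟨⟨⟨y, hyS⟩, hyA, hyc⟩, hy1⟩ := Subgroup.ne_bot_iff_exists_ne_one.1 h4
    have hy1' : y ≠ 1 := fun h => hy1 (Subtype.ext (Subtype.ext h))
    have hcen : ∀ s ∈ H.S, s * y = y * s := fun s hs => congrArg Subtype.val (mem_center_iff.1 hyc ⟨s, hs⟩)
    refine ⟨y, hyA, ?_, hy1'⟩
    obtain ⟨t, ht, i, e⟩ := hyS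
    by_cases hi : p ∣ i
    · obtain ⟨c, rfl⟩ := hi
      rw [pow_mul, H.pow, one_pow, mul_one] at e
      rw [e]; exact ht
    · exfalso
      obtain ⟨s, hs, hsx⟩ := H.nontriv
      apply hsx
      refine H.comm_x0 hi ?_
      have h5 := hcen s (H.T_le hs)
      rw [e] at h5
      have h6 : t⁻¹ * s = s * t⁻¹ := H.comm _ (T.inv_mem ht) _ hs
      calc x0 ^ i * s = t⁻¹ * (t * x0 ^ i * s) := by group
        _ = t⁻¹ * (s * (t * x0 ^ i)) := by rw [h5]
        _ = t⁻¹ * s * (t * x0 ^ i) := by group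
        _ = s * t⁻¹ * (t * x0 ^ i) := by rw [h6]
        _ = s * x0 ^ i := by group
  -- `B = A ∩ T`
  have hBinv : ∀ n ∈ N, ∀ b ∈ A ⊓ T, n * b * n⁻¹ ∈ A ⊓ T := by
    intro n hn b hb
    have h5 := H.normN n hn b hb.2
    exact ⟨hAc b hb.1 n (H.T_le h5), h5⟩
  have ht0A : t0 ∈ A := (H.one (A ⊓ T) inf_le_right (fun h => hy1 (by
    have : y ∈ A ⊓ T := ⟨hyA, hyT⟩
    rw [h, Subgroup.mem_bot] at this
    exact this)) hBinv).1
  obtain ⟨g, hg⟩ := H.conj
  have hx0A : x0 ∈ A := by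
    have h5 := hAc t0 ht0A g⁻¹
    have h6 : g⁻¹ * t0 * g⁻¹⁻¹ = x0 := by rw [← hg]; group
    rw [h6] at h5
    exact h5 H.x0_mem
  have hTA : T ≤ A := by
    refine (H.two (A ⊓ T) inf_le_right hBinv fun t ht => ⟨?_, ?_⟩).trans inf_le_left
    · have h5 := hAc x0⁻¹ (A.inv_mem hx0A) t
        (H.S.mul_mem (H.S.mul_mem (H.T_le ht) (H.S.inv_mem H.x0_mem)) (H.S.inv_mem (H.T_le ht)))
      have h6 : x0 * t * x0⁻¹ * t⁻¹ = x0 * (t * x0⁻¹ * t⁻¹) := by group
      rw [h6]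
      exact A.mul_mem hx0A h5
    · exact T.mul_mem (H.norm t ht) (T.inv_mem ht)
  rintro _ ⟨t, ht, i, rfl⟩
  exact A.mul_mem (hTA ht) (A.pow_mem hx0A i)

end IrrHyp

end Cfsg.Agent.H790.IrrCrit
end

-- part: H790/IrrCoord
section
set_option linter.all false
open scoped Cfsg.Agent.FastGrp

/-!
# The criterion `IrrHyp` from coordinates (helper790)

`T` is described by four characters `b j` with values in a field; `n1`, `n2` act by signs, `n3` permutes the
coordinates cyclically (up to exponents prime to `p`).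
-/

set_option autoImplicit false
set_option linter.unusedSectionVars false

namespace Cfsg.Agent.H790.IrrCoord

open Subgroup Cfsg.Agent.H790.IrrCrit

/-- coordinates -/
structure Coord {G : Type*} [Group G] {k : Type*} [Field k] (p m : ℕ) (T : Subgroup G) (b : Fin 4 → G → k)
    (n1 n2 n3 : G) (κ : Fin 4 → ℤ) : Prop where
  comm : ∀ a ∈ T, ∀ b ∈ T, a * b = b * a
  mul : ∀ j, ∀ s ∈ T, ∀ t ∈ T, b j (s * t) = b j s * b j t
  inj : ∀ t ∈ T, (∀ j, b j t = 1) → t = 1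
  exp : ∀ t ∈ T, t ^ p ^ m = 1
  nT : ∀ n ∈ ({n1, n2, n3} : Set G), ∀ t ∈ T, n * t * n⁻¹ ∈ T
  c1 : ∀ j, ∀ t ∈ T, b j (n1 * t * n1⁻¹) = b j t ^ (![1, 1, -1, -1] : Fin 4 → ℤ) j
  c2 : ∀ j, ∀ t ∈ T, b j (n2 * t * n2⁻¹) = b j t ^ (![1, -1, 1, -1] : Fin 4 → ℤ) j
  c3 : ∀ j, ∀ t ∈ T, b j (n3 * t * n3⁻¹) = b (j + 1) t ^ κ j
  cop : ∀ j, IsCoprime (κ j) (p : ℤ)

theorem iter_zero : ∀ j : Fin 4, (fun x : Fin 4 => x + 1)^[(j : ℕ)] 0 = j := by decide

theorem iter_neg : ∀ l i : Fin 4, (fun x : Fin 4 => x + 1)^[((-i : Fin 4) : ℕ)] l = l - i := by decide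

namespace Coord

variable {G : Type*} [Group G] {k : Type*} [Field k] {p m : ℕ} [hpp : Fact p.Prime] {T : Subgroup G}
  {b : Fin 4 → G → k} {n1 n2 n3 : G} {κ : Fin 4 → ℤ} (C : Coord p m T b n1 n2 n3 κ)

include C

theorem one (j : Fin 4) : b j 1 = 1 ∨ b j 1 = 0 := by
  have h := C.mul j 1 (one_mem _) 1 (one_mem _)
  rw [mul_one] at h
  rcases eq_or_ne (b j 1) 0 with h0 | h0
  · exact Or.inr h0
  · left
    exact (mul_eq_left₀ h0).1 h.symm

theorem pow_mul' (j : Fin 4) {t : G} (ht : t ∈ T) (i : ℕ) (h1 : b j 1 = 1) : b j (t ^ i) = b j t ^ i := by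
  induction i with
  | zero => rw [pow_zero, pow_zero, h1]
  | succ i ih => rw [pow_succ, C.mul j _ (T.pow_mem ht i) _ ht, ih, pow_succ]

variable (hne : ∀ j, ∀ t ∈ T, b j t ≠ 0)

include hne

theorem b_one (j : Fin 4) : b j 1 = 1 := by
  rcases C.one j with h | h
  · exact h
  · exact absurd h (hne j 1 (one_mem _))

theorem b_pow (j : Fin 4) {t : G} (ht : t ∈ T) (i : ℕ) : b j (t ^ i) = b j t ^ i :=
  C.pow_mul' j ht i (C.b_one hne j)

theorem b_exp (j : Fin 4) {t : G} (ht : t ∈ T) : b j t ^ p ^ m = 1 := by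
  rw [← C.b_pow hne j ht, C.exp t ht, C.b_one hne]

omit C hne in
/-- inverting a unit power -/
theorem unit_pow {a : k} (ha : a ^ p ^ m = 1) {c : ℤ} (hc : IsCoprime c (p : ℤ)) (ha0 : a ≠ 0) :
    ∃ e : ℕ, (a ^ c) ^ e = a := by
  have h1 : IsCoprime c ((p : ℤ) ^ m) := hc.pow_right
  obtain ⟨u, v, huv⟩ := h1
  have ha' : a ^ ((p : ℤ) ^ m) = 1 := by
    have : ((p : ℤ) ^ m) = ((p ^ m : ℕ) : ℤ) := by push_cast; rfl
    rw [this, zpow_natCast, ha]
  -- a nonnegative representative of `u`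
  have hpm : (0 : ℤ) < (p : ℤ) ^ m := by
    have := hpp.out.pos
    positivity
  refine ⟨(u % ((p : ℤ) ^ m)).toNat, ?_⟩
  have h2 : (((u % ((p : ℤ) ^ m)).toNat : ℕ) : ℤ) = u % ((p : ℤ) ^ m) :=
    Int.toNat_of_nonneg (Int.emod_nonneg _ hpm.ne')
  rw [← zpow_natCast, h2, ← zpow_mul]
  have h3 : c * (u % (p : ℤ) ^ m) = 1 + (p : ℤ) ^ m * (-v - c * (u / (p : ℤ) ^ m)) := by
    have h4 := Int.emod_add_mul_ediv u ((p : ℤ) ^ m)
    have h5 : u % (p : ℤ) ^ m = u - (p : ℤ) ^ m * (u / (p : ℤ) ^ m) := by linarith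
    rw [h5]
    linear_combination huv
  rw [h3, zpow_add₀ ha0, zpow_one, zpow_mul, ha', one_zpow, mul_one]

/-- the isolated first coordinate -/
theorem proj (h2 : p ≠ 2) {B : Subgroup G} (hBT : B ≤ T)
    (hB : ∀ n ∈ ({n1, n2, n3} : Set G), ∀ x ∈ B, n * x * n⁻¹ ∈ B) {t : G} (ht : t ∈ B) :
    ∃ s ∈ B, b 0 s = b 0 t ∧ ∀ l, l ≠ 0 → b l s = 1 := by
  have htT := hBT ht
  have h1 : n1 * t * n1⁻¹ ∈ B := hB n1 (by simp) t ht
  have h1' : t * (n1 * t * n1⁻¹) ∈ B := B.mul_mem ht h1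
  have h3 : n2 * (t * (n1 * t * n1⁻¹)) * n2⁻¹ ∈ B := hB n2 (by simp) _ h1'
  have h3' : t * (n1 * t * n1⁻¹) * (n2 * (t * (n1 * t * n1⁻¹)) * n2⁻¹) ∈ B := B.mul_mem h1' h3
  have e1 : ∀ j, b j (t * (n1 * t * n1⁻¹)) = b j t * b j t ^ (![1, 1, -1, -1] : Fin 4 → ℤ) j := fun j => by
    rw [C.mul j t htT _ (hBT h1), C.c1 j t htT]
  have e2 : ∀ j, b j (t * (n1 * t * n1⁻¹) * (n2 * (t * (n1 * t * n1⁻¹)) * n2⁻¹)) =
      b j (t * (n1 * t * n1⁻¹)) * b j (t * (n1 * t * n1⁻¹)) ^ (![1, -1, 1, -1] : Fin 4 → ℤ) j := fun j => by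
    rw [C.mul j _ (hBT h1') _ (hBT h3), C.c2 j _ (hBT h1')]
  have n0 := hne 0 t htT
  have n1' := hne 1 t htT
  have n2' := hne 2 t htT
  have n3' := hne 3 t htT
  have f0 : b 0 (t * (n1 * t * n1⁻¹) * (n2 * (t * (n1 * t * n1⁻¹)) * n2⁻¹)) = b 0 t ^ (4 : ℤ) := by
    rw [e2, e1]
    simp only [Matrix.cons_val_zero, zpow_one]
    rw [show (4 : ℤ) = ((4 : ℕ) : ℤ) by rfl, zpow_natCast]
    ring
  have f1 : ∀ l, l ≠ 0 → b l (t * (n1 * t * n1⁻¹) * (n2 * (t * (n1 * t * n1⁻¹)) * n2⁻¹)) = 1 := by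
    intro l hl
    have nl := hne l t htT
    have nl' := hne l _ (hBT h1')
    rw [e2]
    fin_cases l
    · exact absurd rfl hl
    · show b 1 (t * (n1 * t * n1⁻¹)) * b 1 (t * (n1 * t * n1⁻¹)) ^ (-1 : ℤ) = 1
      rw [zpow_neg_one]
      exact mul_inv_cancel₀ nl'
    · show b 2 (t * (n1 * t * n1⁻¹)) * b 2 (t * (n1 * t * n1⁻¹)) ^ (1 : ℤ) = 1
      have : b 2 (t * (n1 * t * n1⁻¹)) = 1 := by
        rw [e1]
        show b 2 t * b 2 t ^ (-1 : ℤ) = 1
        rw [zpow_neg_one]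
        exact mul_inv_cancel₀ nl
      rw [this, one_zpow, one_mul]
    · show b 3 (t * (n1 * t * n1⁻¹)) * b 3 (t * (n1 * t * n1⁻¹)) ^ (-1 : ℤ) = 1
      rw [zpow_neg_one]
      exact mul_inv_cancel₀ nl'
  have h4 : IsCoprime (4 : ℤ) (p : ℤ) := by
    have : Nat.Coprime (2 ^ 2) p := Nat.Coprime.pow_left 2 ((Nat.coprime_primes Nat.prime_two hpp.out).2 (Ne.symm h2))
    have h5 := Nat.isCoprime_iff_coprime.2 this
    exact_mod_cast h5
  obtain ⟨e, he⟩ := unit_pow (p := p) (m := m) (C.b_exp hne 0 htT) h4 n0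
  refine ⟨_, B.pow_mem h3' e, ?_, fun l hl => ?_⟩
  · rw [C.b_pow hne 0 (hBT h3'), f0, he]
  · rw [C.b_pow hne l (hBT h3'), f1 l hl, one_pow]

/-- the rotations -/
theorem rot (s : ℕ) : ∀ i : Fin 4, ∃ c : ℤ, IsCoprime c (p : ℤ) ∧ ∀ t ∈ T, n3 ^ s * t * (n3 ^ s)⁻¹ ∈ T ∧
    b i (n3 ^ s * t * (n3 ^ s)⁻¹) = b ((fun x : Fin 4 => x + 1)^[s] i) t ^ c := by
  induction s with
  | zero =>
    intro i
    refine ⟨1, isCoprime_one_left, fun t ht => ?_⟩
    have h1 : n3 ^ 0 * t * (n3 ^ 0)⁻¹ = t := by group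
    rw [h1, zpow_one]
    exact ⟨ht, rfl⟩
  | succ s ih =>
    intro i
    obtain ⟨c, hc, h1⟩ := ih (i + 1)
    refine ⟨c * κ i, hc.mul_left (C.cop i), fun t ht => ?_⟩
    obtain ⟨h2, h3⟩ := h1 t ht
    have e : n3 ^ (s + 1) * t * (n3 ^ (s + 1))⁻¹ = n3 * (n3 ^ s * t * (n3 ^ s)⁻¹) * n3⁻¹ := by
      rw [pow_succ']; group
    rw [e]
    refine ⟨C.nT n3 (by simp) _ h2, ?_⟩
    rw [C.c3 i _ h2, h3, zpow_mul]
    rfl

/-- moving a value to another coordinate -/
theorem spread (h2 : p ≠ 2) {B : Subgroup G} (hBT : B ≤ T)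
    (hB : ∀ n ∈ ({n1, n2, n3} : Set G), ∀ x ∈ B, n * x * n⁻¹ ∈ B) {t : G} (ht : t ∈ B) (j i : Fin 4) :
    ∃ s ∈ B, b i s = b j t ∧ ∀ l, l ≠ i → b l s = 1 := by
  have hBn : ∀ s : ℕ, ∀ x ∈ B, n3 ^ s * x * (n3 ^ s)⁻¹ ∈ B := by
    intro s
    induction s with
    | zero => intro x hx; simpa using hx
    | succ s ih =>
      intro x hx
      have e : n3 ^ (s + 1) * x * (n3 ^ (s + 1))⁻¹ = n3 * (n3 ^ s * x * (n3 ^ s)⁻¹) * n3⁻¹ := by
        rw [pow_succ']; group
      rw [e]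
      exact hB n3 (by simp) _ (ih x hx)
  -- first to coordinate `0`
  obtain ⟨t1, ht1, e1⟩ : ∃ t1 ∈ B, b 0 t1 = b j t := by
    obtain ⟨c, hc, h3⟩ := C.rot hne (j : ℕ) 0
    obtain ⟨h4, h5⟩ := h3 t (hBT ht)
    have h6 := iter_zero j
    rw [h6] at h5
    obtain ⟨e, he⟩ := unit_pow (p := p) (m := m) (C.b_exp hne j (hBT ht)) hc (hne j t (hBT ht))
    exact ⟨_, B.pow_mem (hBn j t ht) e, by rw [C.b_pow hne 0 h4, h5, he]⟩
  obtain ⟨t2, ht2, e2, e3⟩ := C.proj hne h2 hBT hB ht1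
  -- then to coordinate `i`
  have hs : ∀ l, ∃ c : ℤ, IsCoprime c (p : ℤ) ∧ b l (n3 ^ (((-i : Fin 4) : ℕ)) * t2 * (n3 ^ (((-i : Fin 4) : ℕ)))⁻¹) =
      b (l - i) t2 ^ c := by
    intro l
    obtain ⟨c, hc, h3⟩ := C.rot hne (((-i : Fin 4) : ℕ)) l
    obtain ⟨h4, h5⟩ := h3 t2 (hBT ht2)
    refine ⟨c, hc, ?_⟩
    rw [h5, iter_neg]
  have ht3 := hBn (((-i : Fin 4) : ℕ)) t2 ht2
  obtain ⟨c, hc, h5⟩ := hs i
  rw [sub_self] at h5
  obtain ⟨e, he⟩ := unit_pow (p := p) (m := m) (C.b_exp hne 0 (hBT ht2)) hc (hne 0 t2 (hBT ht2))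
  refine ⟨_, B.pow_mem ht3 e, ?_, fun l hl => ?_⟩
  · rw [C.b_pow hne i (hBT ht3), h5, he, e2, e1]
  · obtain ⟨c', -, h6⟩ := hs l
    rw [C.b_pow hne l (hBT ht3), h6, e3 _ (sub_ne_zero.2 hl), one_zpow, one_pow]

/-- **the hull** -/
theorem mem_of (h2 : p ≠ 2) {B : Subgroup G} (hBT : B ≤ T)
    (hB : ∀ n ∈ ({n1, n2, n3} : Set G), ∀ x ∈ B, n * x * n⁻¹ ∈ B) {t : G} (ht : t ∈ B) (j : Fin 4) {u : G}
    (hu : u ∈ T) (h : ∀ i, ∃ e : ℕ, b i u = b j t ^ e) : u ∈ B := by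
  choose e he using h
  have hsp := fun i => C.spread hne h2 hBT hB ht j i
  choose s hs hs1 hs2 using hsp
  have hprod : s 0 ^ e 0 * s 1 ^ e 1 * s 2 ^ e 2 * s 3 ^ e 3 ∈ B :=
    B.mul_mem (B.mul_mem (B.mul_mem (B.pow_mem (hs 0) _) (B.pow_mem (hs 1) _)) (B.pow_mem (hs 2) _))
      (B.pow_mem (hs 3) _)
  have hval : ∀ l, b l (s 0 ^ e 0 * s 1 ^ e 1 * s 2 ^ e 2 * s 3 ^ e 3) = b l u := by
    intro l
    have m0 := T.pow_mem (hBT (hs 0)) (e 0)
    have m1 := T.pow_mem (hBT (hs 1)) (e 1)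
    have m2 := T.pow_mem (hBT (hs 2)) (e 2)
    have m3 := T.pow_mem (hBT (hs 3)) (e 3)
    rw [C.mul l _ (T.mul_mem (T.mul_mem m0 m1) m2) _ m3, C.mul l _ (T.mul_mem m0 m1) _ m2, C.mul l _ m0 _ m1,
      C.b_pow hne l (hBT (hs 0)), C.b_pow hne l (hBT (hs 1)), C.b_pow hne l (hBT (hs 2)), C.b_pow hne l (hBT (hs 3))]
    have key : ∀ i, b l (s i) ^ e i = if l = i then b l u else 1 := by
      intro i
      by_cases hl : l = i
      · subst hl
        rw [if_pos rfl, hs1, he]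
      · rw [if_neg hl, hs2 i l hl, one_pow]
    rw [key, key, key, key]
    fin_cases l <;> simp
  have h1 : u * (s 0 ^ e 0 * s 1 ^ e 1 * s 2 ^ e 2 * s 3 ^ e 3)⁻¹ = 1 := by
    have hmT := T.mul_mem hu (T.inv_mem (hBT hprod))
    refine C.inj _ hmT fun l => ?_
    have h3 := C.mul l _ hmT _ (hBT hprod)
    rw [inv_mul_cancel_right, hval] at h3
    exact (mul_eq_right₀ (hne l u hu)).1 h3.symm
  rw [mul_inv_eq_one] at h1
  rw [h1]
  exact hprod

omit C hne in
/-- powers of a nontrivial element -/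
theorem pow_of_ne_one {c a : k} (hc1 : c ≠ 1) (hc : c ^ p ^ m = 1) (ha : a ^ p = 1) : ∃ e : ℕ, a = c ^ e := by
  obtain ⟨s, hs, h1⟩ := (Nat.dvd_prime_pow hpp.out).1 (orderOf_dvd_of_pow_eq_one hc)
  have hs0 : s ≠ 0 := by
    rintro rfl
    rw [pow_zero, orderOf_eq_one_iff] at h1
    exact hc1 h1
  obtain ⟨v, rfl⟩ := Nat.exists_eq_succ_of_ne_zero hs0
  have h2 : IsPrimitiveRoot c (p ^ (v + 1)) := by
    rw [← h1]
    exact IsPrimitiveRoot.orderOf c
  have h3 : IsPrimitiveRoot (c ^ p ^ v) p := h2.pow (pow_pos hpp.out.pos _) (by rw [pow_succ])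
  obtain ⟨i, -, hi⟩ := h3.eq_pow_of_pow_eq_one ha
  exact ⟨p ^ v * i, by rw [pow_mul, hi]⟩

/-- **`IrrHyp` from coordinates.** -/
theorem irrHyp (h2 : p ≠ 2) (hm : 0 < m) {x0 t0 : G} (norm : ∀ t ∈ T, x0 * t * x0⁻¹ ∈ T) (pow : x0 ^ p = 1)
    (t0T : t0 ∈ T) (conj : ∃ g, g * x0 * g⁻¹ = t0)
    (hprim : ∃ t ∈ T, ∃ j, IsPrimitiveRoot (b j (x0 * t * x0⁻¹ * t⁻¹)) (p ^ m)) :
    IrrHyp p T x0 t0 ({n1, n2, n3} : Set G) where
  comm := C.comm
  exp := ⟨m, C.exp⟩
  norm := norm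
  pow := pow
  t0T := t0T
  conj := conj
  nontriv := by
    obtain ⟨t, ht, j, h⟩ := hprim
    refine ⟨t, ht, fun h3 => ?_⟩
    have h4 : x0 * t * x0⁻¹ * t⁻¹ = 1 := by rw [h3]; group
    rw [h4, C.b_one hne] at h
    have h5 := h.unique IsPrimitiveRoot.one
    exact (Nat.one_lt_pow hm.ne' hpp.out.one_lt).ne' h5
  normN := C.nT
  one := by
    intro B hBT hBne hB
    obtain ⟨⟨y, hy⟩, hy1⟩ := Subgroup.ne_bot_iff_exists_ne_one.1 hBne
    have hy1' : y ≠ 1 := fun h => hy1 (Subtype.ext h)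
    obtain ⟨j, hj⟩ : ∃ j, b j y ≠ 1 := by
      by_contra hcon
      push Not at hcon
      exact hy1' (C.inj y (hBT hy) hcon)
    refine C.mem_of hne h2 hBT hB hy j t0T fun i => ?_
    obtain ⟨g, hg⟩ := conj
    have ht0p : t0 ^ p = 1 := by rw [← hg, conj_pow, pow, mul_one, mul_inv_cancel]
    refine pow_of_ne_one (p := p) (m := m) hj (C.b_exp hne j (hBT hy)) ?_
    rw [← C.b_pow hne i t0T, ht0p, C.b_one hne]
  two := by
    intro B hBT hB hc u hu
    obtain ⟨t, ht, j, h⟩ := hprim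
    refine C.mem_of hne h2 hBT hB (hc t ht) j hu fun i => ?_
    have : NeZero (p ^ m) := ⟨pow_ne_zero _ hpp.out.ne_zero⟩
    obtain ⟨e, -, he⟩ := h.eq_pow_of_pow_eq_one (C.b_exp hne i hu)
    exact ⟨e, he.symm⟩

end Coord

end Cfsg.Agent.H790.IrrCoord
end

-- part: H629/ExcSL
section
prune_inst 0x30100500142202000000000022000640760001920000800040a008440780284000408020ac801412900080040830000813000060420000000a000400011d0080108006022040000082000e008000000000000000000000000000000000000000000000000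
set_option linter.all false
open scoped Cfsg.Agent.FastGrp

/-!
# The cyclic permutation matrix in `SL_n` and a twisted conjugacy (helper629)

`k` algebraically closed, `n` odd, `n ≠ 0` in `k`. `DD` : the diagonal matrices of `SL_n k`; `P0` : the cyclic permutation
matrix; `del ω` : `diag (1, ω, ω ^ 2, …)`.

* `exists_conj` : `φ : SL_n k →* Y` injective, `τ` an automorphism of `Y` preserving the range of `φ` and acting on
  `φ (DD)` as the power `Q`, `n ∣ Q - 1`, `Q ≠ 1`: a `τ`-fixed element `φ (P0 * s)`, `s ∈ DD`, is conjugate to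
  `φ (del ω)` by a `τ`-fixed element of the range;
* `exists_fixed` : existence of such elements.
-/

set_option autoImplicit false

namespace Cfsg.Agent.H629.ExcSL

open Matrix

universe u v

variable {n : ℕ} {k : Type u} [Field k]

theorem v_mul (A B : _root_.Matrix.SpecialLinearGroup (Fin n) k) : (A * B).1 = A.1 * B.1 := rfl

theorem v_one : (1 : _root_.Matrix.SpecialLinearGroup (Fin n) k).1 = 1 := rfl

theorem v_pow (A : _root_.Matrix.SpecialLinearGroup (Fin n) k) (m : ℕ) : (A ^ m).1 = A.1 ^ m := by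
  induction m with
  | zero => rw [pow_zero, pow_zero, v_one]
  | succ m ih => rw [pow_succ, pow_succ, v_mul, ih]

/-- The diagonal matrices. -/
def DD (n : ℕ) (k : Type u) [Field k] : Subgroup (_root_.Matrix.SpecialLinearGroup (Fin n) k) where
  carrier := {A | ∃ s : Fin n → k, A.1 = diagonal s}
  one_mem' := ⟨fun _ => 1, by rw [v_one, diagonal_one]⟩
  mul_mem' := by
    rintro A B ⟨s, hs⟩ ⟨t, ht⟩
    exact ⟨fun i => s i * t i, by rw [v_mul, hs, ht, diagonal_mul_diagonal]⟩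
  inv_mem' := by
    rintro A ⟨s, hs⟩
    have hdet : ∏ i, s i = 1 := by rw [← det_diagonal, ← hs]; exact A.2
    have hs0 : ∀ i, s i ≠ 0 := fun i h => by
      have : ∏ i, s i = 0 := Finset.prod_eq_zero (Finset.mem_univ i) h
      rw [this] at hdet
      exact zero_ne_one hdet
    refine ⟨fun i => (s i)⁻¹, ?_⟩
    have h1 : (A * A⁻¹ : _root_.Matrix.SpecialLinearGroup (Fin n) k).1 = 1 := by rw [mul_inv_cancel]; rfl
    rw [v_mul, hs] at h1
    have h2 : diagonal (fun i => (s i)⁻¹) * diagonal s = (1 : Matrix (Fin n) (Fin n) k) := by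
      rw [diagonal_mul_diagonal, ← diagonal_one]
      congr 1
      funext i
      exact inv_mul_cancel₀ (hs0 i)
    calc (A⁻¹ : _root_.Matrix.SpecialLinearGroup (Fin n) k).1 = 1 * (A⁻¹ : _root_.Matrix.SpecialLinearGroup (Fin n) k).1 := (one_mul _).symm
      _ = diagonal (fun i => (s i)⁻¹) * (diagonal s * (A⁻¹ : _root_.Matrix.SpecialLinearGroup (Fin n) k).1) := by
        rw [← h2, Matrix.mul_assoc]
      _ = diagonal (fun i => (s i)⁻¹) := by rw [h1, mul_one]

theorem prod_eq_one {A : _root_.Matrix.SpecialLinearGroup (Fin n) k} {s : Fin n → k}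
    (h : A.1 = diagonal s) : ∏ i, s i = 1 := by
  rw [← det_diagonal, ← h]; exact A.2

theorem ne_zero_of_prod {s : Fin n → k} (h : ∏ i, s i = 1) (i : Fin n) : s i ≠ 0 := fun h0 => by
  have : ∏ i, s i = 0 := Finset.prod_eq_zero (Finset.mem_univ i) h0
  rw [this] at h
  exact zero_ne_one h

/-- the diagonal matrix with entries `s` -/
def dg (s : Fin n → k) (h : ∏ i, s i = 1) : _root_.Matrix.SpecialLinearGroup (Fin n) k := ⟨diagonal s, by rw [det_diagonal, h]⟩

theorem dg_mem (s : Fin n → k) (h : ∏ i, s i = 1) : dg s h ∈ DD n k := ⟨s, rfl⟩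

theorem DD_comm {A B : _root_.Matrix.SpecialLinearGroup (Fin n) k} (hA : A ∈ DD n k) (hB : B ∈ DD n k) : A * B = B * A := by
  obtain ⟨s, hs⟩ := hA
  obtain ⟨t, ht⟩ := hB
  apply Subtype.ext
  rw [v_mul, v_mul, hs, ht, diagonal_mul_diagonal, diagonal_mul_diagonal]
  congr 1
  funext i
  exact mul_comm _ _

theorem pow_diag {A : _root_.Matrix.SpecialLinearGroup (Fin n) k} {s : Fin n → k} (h : A.1 = diagonal s)
    (m : ℕ) : (A ^ m).1 = diagonal fun i => s i ^ m := by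
  rw [v_pow, h, diagonal_pow]
  rfl

/-- **Roots in the diagonal group.** -/
theorem exists_root [IsAlgClosed k] [NeZero n] {A : _root_.Matrix.SpecialLinearGroup (Fin n) k} (hA : A ∈ DD n k) {m : ℤ}
    (hm : m ≠ 0) : ∃ B ∈ DD n k, B ^ m = A := by
  have key : ∀ {A : _root_.Matrix.SpecialLinearGroup (Fin n) k} (_ : A ∈ DD n k) {m : ℕ} (_ : m ≠ 0), ∃ B ∈ DD n k, B ^ m = A := by
    rintro A ⟨s, hs⟩ m hm
    have hprod := prod_eq_one hs
    have hr : ∀ i, ∃ b : k, b ^ m = s i := fun i => IsAlgClosed.exists_pow_nat_eq _ (Nat.pos_of_ne_zero hm)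
    choose b hb using hr
    have hb0 : ∀ i, b i ≠ 0 := fun i h => ne_zero_of_prod hprod i (by rw [← hb, h, zero_pow hm])
    obtain ⟨b', hb'⟩ : ∃ b' : Fin n → k, b' = Function.update b 0 (∏ i ∈ Finset.univ.erase 0, b i)⁻¹ := ⟨_, rfl⟩
    have h0 : b' 0 = (∏ i ∈ Finset.univ.erase 0, b i)⁻¹ := by rw [hb', Function.update_self]
    have h1 : ∀ i ≠ 0, b' i = b i := fun i hi => by rw [hb', Function.update_of_ne hi]
    have hne : ∏ i ∈ Finset.univ.erase 0, b i ≠ 0 := Finset.prod_ne_zero_iff.2 fun i _ => hb0 i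
    have hp1 : ∏ i, b' i = 1 := by
      rw [← Finset.mul_prod_erase Finset.univ b' (Finset.mem_univ 0), h0,
        Finset.prod_congr rfl fun i hi => h1 i (Finset.ne_of_mem_erase hi), inv_mul_cancel₀ hne]
    have hp2 : ∀ i, b' i ^ m = s i := by
      intro i
      by_cases hi : i = 0
      · subst hi
        rw [h0, inv_pow, ← Finset.prod_pow, Finset.prod_congr rfl fun i _ => hb i]
        rw [← Finset.mul_prod_erase Finset.univ s (Finset.mem_univ 0)] at hprod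
        exact (eq_inv_of_mul_eq_one_left hprod).symm
      · rw [h1 i hi, hb]
    refine ⟨dg b' hp1, dg_mem _ _, ?_⟩
    apply Subtype.ext
    rw [pow_diag (A := dg b' hp1) (s := b') rfl, hs]
    congr 1
    funext i
    exact hp2 i
  obtain ⟨j, rfl | rfl⟩ := Int.eq_nat_or_neg m
  · obtain ⟨B, hB, e⟩ := key hA (m := j) (by exact_mod_cast hm)
    exact ⟨B, hB, by rw [zpow_natCast, e]⟩
  · obtain ⟨B, hB, e⟩ := key hA (m := j) (by intro h; apply hm; rw [h]; rfl)
    exact ⟨B⁻¹, inv_mem hB, by rw [_root_.zpow_neg, zpow_natCast, inv_pow, inv_inv, e]⟩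

/-! ### the matrices -/

/-- the cyclic permutation matrix, `e_j ↦ e_{j+1}` -/
def PM (n : ℕ) (k : Type u) [Field k] [NeZero n] : Matrix (Fin n) (Fin n) k := fun i j => if i = j + 1 then 1 else 0

theorem PM_mul [NeZero n] (A : Matrix (Fin n) (Fin n) k) (i j : Fin n) : (A * PM n k) i j = A i (j + 1) := by
  rw [Matrix.mul_apply, Finset.sum_eq_single (j + 1)]
  · unfold PM; rw [if_pos rfl, mul_one]
  · intro b _ hb
    unfold PM; rw [if_neg hb, mul_zero]
  · intro h; exact absurd (Finset.mem_univ _) h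

variable {ω : k}

/-- the Fourier matrix -/
def FM (n : ℕ) (ω : k) : Matrix (Fin n) (Fin n) k := fun i j => ω ^ ((i : ℕ) * (j : ℕ))

theorem FM_eq (ω : k) : FM n ω = Matrix.vandermonde fun i : Fin n => ω ^ (i : ℕ) := by
  ext i j
  rw [Matrix.vandermonde_apply, ← pow_mul]
  rfl

theorem det_FM_ne (hω : IsPrimitiveRoot ω n) : (FM n ω).det ≠ 0 := by
  rw [FM_eq, Matrix.det_vandermonde_ne_zero_iff]
  intro i j hij
  exact Fin.ext (hω.pow_inj i.2 j.2 hij)

theorem FM_mul [NeZero n] (hω : IsPrimitiveRoot ω n) :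
    FM n ω * PM n k = diagonal (fun i : Fin n => ω ^ (i : ℕ)) * FM n ω := by
  ext i j
  rw [PM_mul, diagonal_mul]
  unfold FM
  rw [← pow_add]
  have h1 : ω ^ ((i : ℕ) * ((j + 1 : Fin n) : ℕ)) = ω ^ ((i : ℕ) * ((j : ℕ) + 1)) := by
    rcases Nat.lt_or_ge ((j : ℕ) + 1) n with h | h
    · have : ((j + 1 : Fin n) : ℕ) = (j : ℕ) + 1 := by
        rw [Fin.val_add, Fin.val_one', Nat.add_mod_mod, Nat.mod_eq_of_lt h]
      rw [this]
    · have h2 : (j : ℕ) + 1 = n := by have := j.2; omega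
      have : ((j + 1 : Fin n) : ℕ) = 0 := by
        rw [Fin.val_add, Fin.val_one', Nat.add_mod_mod, h2, Nat.mod_self]
      rw [this, h2, mul_zero, pow_zero, mul_comm, pow_mul, hω.pow_eq_one, one_pow]
  rw [h1]
  congr 1
  ring

theorem det_PM [NeZero n] (hodd : Odd n) : (PM n k).det = 1 := by
  obtain ⟨m, rfl⟩ : ∃ m, n = m + 1 := ⟨n - 1, by have := NeZero.pos n; omega⟩
  have h1 : PM (m + 1) k = ((finRotate (m + 1)).symm.toPEquiv.toMatrix : Matrix (Fin (m + 1)) (Fin (m + 1)) k) := by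
    ext i j
    rw [PEquiv.toMatrix_apply]
    unfold PM
    by_cases h : i = j + 1
    · rw [if_pos h, if_pos]
      rw [Equiv.toPEquiv_apply, Option.mem_some_iff, Equiv.symm_apply_eq, finRotate_apply]
      exact h
    · rw [if_neg h, if_neg]
      rw [Equiv.toPEquiv_apply, Option.mem_some_iff, Equiv.symm_apply_eq, finRotate_apply]
      exact h
  rw [h1, Matrix.det_permutation, Equiv.Perm.sign_symm, sign_finRotate]
  have h2 : Even m := by
    rcases hodd with ⟨c, hc⟩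
    exact ⟨c, by omega⟩
  simp only [h2.neg_one_pow, _root_.add_tsub_cancel_right, _root_.Units.val_one, _root_.Int.cast_one]

/-- the cyclic permutation matrix in `SL_n` -/
def P0 (k : Type u) [Field k] [NeZero n] (hodd : Odd n) : _root_.Matrix.SpecialLinearGroup (Fin n) k := ⟨PM n k, det_PM hodd⟩

theorem prod_del [NeZero n] (hodd : Odd n) (hω : IsPrimitiveRoot ω n) : ∏ i : Fin n, ω ^ (i : ℕ) = 1 := by
  rw [Finset.prod_pow_eq_pow_sum, Fin.sum_univ_eq_sum_range (fun i => i) n]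
  have h1 : n ∣ ∑ i ∈ Finset.range n, i := by
    obtain ⟨c, hc⟩ := hodd
    refine ⟨c, ?_⟩
    have h2 := Finset.sum_range_id_mul_two n
    have h3 : n * (n - 1) = n * c * 2 := by rw [show n - 1 = c * 2 by omega]; ring
    rw [h3] at h2
    exact Nat.eq_of_mul_eq_mul_right (by norm_num) h2
  obtain ⟨c, hc⟩ := h1
  rw [hc, pow_mul, hω.pow_eq_one, one_pow]

/-- `diag (1, ω, ω ^ 2, …)` -/
def del [NeZero n] (hodd : Odd n) (hω : IsPrimitiveRoot ω n) : _root_.Matrix.SpecialLinearGroup (Fin n) k :=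
  dg (fun i : Fin n => ω ^ (i : ℕ)) (prod_del hodd hω)

/-- **A matrix commuting with `del` is diagonal.** -/
theorem mem_DD_of_comm [NeZero n] (hodd : Odd n) (hω : IsPrimitiveRoot ω n) {C : _root_.Matrix.SpecialLinearGroup (Fin n) k}
    (h : C * del hodd hω = del hodd hω * C) : C ∈ DD n k := by
  refine ⟨fun i => C.1 i i, ?_⟩
  ext i j
  by_cases hij : i = j
  · subst hij; rw [diagonal_apply_eq]
  · rw [diagonal_apply_ne _ hij]
    have h1 := congrArg (fun A : _root_.Matrix.SpecialLinearGroup (Fin n) k => A.1 i j) h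
    have h2 : (C.1 * diagonal (fun i : Fin n => ω ^ (i : ℕ))) i j = (diagonal (fun i : Fin n => ω ^ (i : ℕ)) * C.1) i j :=
      h1
    rw [mul_diagonal, diagonal_mul] at h2
    have h3 : C.1 i j * (ω ^ (j : ℕ) - ω ^ (i : ℕ)) = 0 := by rw [mul_sub, h2]; ring
    rcases mul_eq_zero.1 h3 with h4 | h4
    · exact h4
    · exact absurd (Fin.ext (hω.pow_inj j.2 i.2 (sub_eq_zero.1 h4))).symm hij

/-- **`P0` is conjugate to `del`.** -/
theorem exists_conj_P0 [IsAlgClosed k] [NeZero n] (hodd : Odd n) (hω : IsPrimitiveRoot ω n) :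
    ∃ g : _root_.Matrix.SpecialLinearGroup (Fin n) k, g * P0 k hodd = del hodd hω * g := by
  obtain ⟨c, hc⟩ := IsAlgClosed.exists_pow_nat_eq ((FM n ω).det)⁻¹ (NeZero.pos n)
  have hdet : (c • FM n ω).det = 1 := by
    rw [Matrix.det_smul, Fintype.card_fin, hc, inv_mul_cancel₀ (det_FM_ne hω)]
  refine ⟨⟨c • FM n ω, hdet⟩, ?_⟩
  apply Subtype.ext
  show (c • FM n ω) * PM n k = diagonal (fun i : Fin n => ω ^ (i : ℕ)) * (c • FM n ω)
  rw [Matrix.smul_mul, FM_mul hω, Matrix.mul_smul]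

/-- **`P0 * s` is conjugate to `P0`.** -/
theorem exists_conj_mul [IsAlgClosed k] [NeZero n] (hodd : Odd n) {s : _root_.Matrix.SpecialLinearGroup (Fin n) k} (hs : s ∈ DD n k) :
    ∃ u : _root_.Matrix.SpecialLinearGroup (Fin n) k, u * P0 k hodd = P0 k hodd * s * u := by
  obtain ⟨t, ht⟩ := hs
  have hprod := prod_eq_one ht
  obtain ⟨w, hw⟩ : ∃ w : ℕ → k, w = fun j => ∏ i ∈ Finset.univ.filter (fun i : Fin n => (i : ℕ) < j), t i := ⟨_, rfl⟩
  have hw0 : ∀ j, w j ≠ 0 := fun j => by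
    rw [hw]; exact Finset.prod_ne_zero_iff.2 fun i _ => ne_zero_of_prod hprod i
  have hsucc : ∀ j : Fin n, w ((j : ℕ) + 1) = t j * w j := by
    intro j
    rw [hw]
    simp only
    have h1 : (Finset.univ.filter fun i : Fin n => (i : ℕ) < (j : ℕ) + 1) =
        insert j (Finset.univ.filter fun i : Fin n => (i : ℕ) < (j : ℕ)) := by
      ext i
      simp only [Finset.mem_filter, Finset.mem_univ, true_and, Finset.mem_insert]
      constructor
      · intro h
        rcases Nat.lt_or_ge (i : ℕ) j with h' | h'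
        · exact Or.inr h'
        · exact Or.inl (Fin.ext (by omega))
      · rintro (rfl | h)
        · omega
        · omega
    rw [h1, Finset.prod_insert (by simp)]
  have h0 : w 0 = 1 := by rw [hw]; simp
  have hn : w n = 1 := by
    rw [hw]
    simp only
    rw [← hprod]
    congr 1
    ext i
    simp
  have hstep : ∀ j : Fin n, w ((j + 1 : Fin n) : ℕ) = t j * w j := by
    intro j
    rw [← hsucc]
    rcases Nat.lt_or_ge ((j : ℕ) + 1) n with h | h
    · have : ((j + 1 : Fin n) : ℕ) = (j : ℕ) + 1 := by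
        rw [Fin.val_add, Fin.val_one', Nat.add_mod_mod, Nat.mod_eq_of_lt h]
      rw [this]
    · have h2 : (j : ℕ) + 1 = n := by have := j.2; omega
      have : ((j + 1 : Fin n) : ℕ) = 0 := by
        rw [Fin.val_add, Fin.val_one', Nat.add_mod_mod, h2, Nat.mod_self]
      rw [this, h2, h0, hn]
  have hne : ∏ j : Fin n, w j ≠ 0 := Finset.prod_ne_zero_iff.2 fun i _ => hw0 i
  obtain ⟨c, hc⟩ := IsAlgClosed.exists_pow_nat_eq (∏ j : Fin n, w j)⁻¹ (NeZero.pos n)
  have hp1 : ∏ j : Fin n, c * w j = 1 := by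
    rw [Finset.prod_mul_distrib, Finset.prod_const, Finset.card_univ, Fintype.card_fin, hc, inv_mul_cancel₀ hne]
  refine ⟨dg (fun j => c * w j) hp1, ?_⟩
  apply Subtype.ext
  show diagonal (fun j : Fin n => c * w j) * PM n k = PM n k * s.1 * diagonal (fun j : Fin n => c * w j)
  rw [ht]
  ext i j
  rw [mul_diagonal, mul_diagonal, diagonal_mul]
  unfold PM
  split_ifs with h
  · subst h
    rw [hstep]; ring
  · ring

/-! ### twisted conjugacy -/

section Twist

variable {Y : Type v} [Group Y] [NeZero n] (hodd : Odd n) (hω : IsPrimitiveRoot ω n)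
  {φ : _root_.Matrix.SpecialLinearGroup (Fin n) k →* Y} (hφ : Function.Injective φ) {τ : MulAut Y}

include hφ

/-- the elements of the range commuting with `φ (del ω)` -/
theorem exists_DD_of_comm {y : Y} (hy : y ∈ φ.range) (h : y * φ (del hodd hω) = φ (del hodd hω) * y) :
    ∃ d ∈ DD n k, y = φ d := by
  obtain ⟨C, rfl⟩ := hy
  rw [← map_mul, ← map_mul] at h
  exact ⟨C, mem_DD_of_comm hodd hω (hφ h), rfl⟩

omit hφ in
theorem del_mem : del hodd hω ∈ DD n k := dg_mem _ _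

omit hφ in
theorem del_pow : φ (del hodd hω) ^ n = 1 := by
  rw [← map_pow]
  have : del hodd hω ^ n = 1 := by
    apply Subtype.ext
    rw [pow_diag (A := del hodd hω) (s := fun i : Fin n => ω ^ (i : ℕ)) rfl, v_one, ← diagonal_one]
    congr 1
    funext i
    rw [← pow_mul, mul_comm, pow_mul, hω.pow_eq_one, one_pow]
  rw [this, map_one]

variable [IsAlgClosed k] (hr : ∀ y ∈ φ.range, τ y ∈ φ.range) {Q : ℤ} (hQ : ∀ s ∈ DD n k, τ (φ s) = φ s ^ Q)
  (hQ1 : Q ≠ 1)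

include hQ hQ1

omit hφ in
/-- the equation `s * τ(s)⁻¹ = d` -/
theorem exists_solve {d : _root_.Matrix.SpecialLinearGroup (Fin n) k} (hd : d ∈ DD n k) : ∃ s ∈ DD n k, τ (φ s) * φ d = φ s := by
  obtain ⟨s, hs, e⟩ := exists_root hd (m := 1 - Q) (sub_ne_zero.2 (Ne.symm hQ1))
  refine ⟨s, hs, ?_⟩
  rw [hQ s hs, ← e, map_zpow, ← _root_.zpow_add]
  have : Q + (1 - Q) = 1 := by ring
  rw [this, zpow_one]

omit hφ in
/-- **Existence of fixed elements.** -/
theorem exists_fixed {d : _root_.Matrix.SpecialLinearGroup (Fin n) k} (hd : d ∈ DD n k) {m : _root_.Matrix.SpecialLinearGroup (Fin n) k}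
    (h : τ (φ m) = φ m * φ d) : ∃ s ∈ DD n k, τ (φ (m * s)) = φ (m * s) := by
  obtain ⟨s, hs, e⟩ := exists_solve hQ hQ1 hd
  refine ⟨s, hs, ?_⟩
  have hc : φ d * τ (φ s) = τ (φ s) * φ d := by
    rw [hQ s hs, ← map_zpow, ← map_mul, ← map_mul, DD_comm hd (zpow_mem hs Q)]
  rw [map_mul, map_mul, h, mul_assoc, hc, e]

include hr

/-- **Conjugacy of fixed elements.** -/
theorem exists_conj (hnQ : (n : ℤ) ∣ Q - 1) {s : _root_.Matrix.SpecialLinearGroup (Fin n) k} (hs : s ∈ DD n k)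
    (hfix : τ (φ (P0 k hodd * s)) = φ (P0 k hodd * s)) :
    ∃ y ∈ φ.range, τ y = y ∧ y * φ (P0 k hodd * s) * y⁻¹ = φ (del hodd hω) := by
  obtain ⟨g, hg⟩ := exists_conj_P0 hodd hω
  obtain ⟨u, hu⟩ := exists_conj_mul hodd hs
  -- `y0 = φ (g * u⁻¹)`
  have e0 : φ (g * u⁻¹) * φ (P0 k hodd * s) * (φ (g * u⁻¹))⁻¹ = φ (del hodd hω) := by
    rw [← map_inv, ← map_mul, ← map_mul]
    congr 1
    have h1 : P0 k hodd * s = u * P0 k hodd * u⁻¹ := by rw [hu]; group
    have h2 : del hodd hω = g * P0 k hodd * g⁻¹ := by rw [hg]; group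
    rw [h1, h2]
    group
  have hdel : τ (φ (del hodd hω)) = φ (del hodd hω) := by
    rw [hQ _ (del_mem hodd hω)]
    obtain ⟨m, hm⟩ := hnQ
    have : Q = 1 + n * m := by rw [← hm]; ring
    rw [this, _root_.zpow_add, zpow_one, _root_.zpow_mul, zpow_natCast, del_pow hodd hω, _root_.one_zpow, mul_one]
  have hy0 : φ (g * u⁻¹) ∈ φ.range := ⟨_, rfl⟩
  have e1 : τ (φ (g * u⁻¹)) * φ (P0 k hodd * s) * (τ (φ (g * u⁻¹)))⁻¹ = φ (del hodd hω) := by
    have := congrArg τ e0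
    rwa [map_mul, map_mul, map_inv, hfix, hdel] at this
  obtain ⟨d, hd, hcd⟩ := exists_DD_of_comm hodd hω hφ (y := τ (φ (g * u⁻¹)) * (φ (g * u⁻¹))⁻¹)
    (mul_mem (hr _ hy0) (inv_mem hy0)) (by
      have h1 : φ (P0 k hodd * s) = (φ (g * u⁻¹))⁻¹ * φ (del hodd hω) * φ (g * u⁻¹) := by rw [← e0]; group
      rw [h1] at e1
      calc τ (φ (g * u⁻¹)) * (φ (g * u⁻¹))⁻¹ * φ (del hodd hω)
          = (τ (φ (g * u⁻¹)) * ((φ (g * u⁻¹))⁻¹ * φ (del hodd hω) * φ (g * u⁻¹)) * (τ (φ (g * u⁻¹)))⁻¹) *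
            (τ (φ (g * u⁻¹)) * (φ (g * u⁻¹))⁻¹) := by group
        _ = _ := by rw [e1])
  obtain ⟨t, ht, et⟩ := exists_solve hQ hQ1 hd
  refine ⟨φ t * φ (g * u⁻¹), mul_mem ⟨_, rfl⟩ hy0, ?_, ?_⟩
  · have h1 : τ (φ (g * u⁻¹)) = φ d * φ (g * u⁻¹) := by rw [← hcd]; group
    rw [map_mul, h1, ← mul_assoc, et]
  · calc φ t * φ (g * u⁻¹) * φ (P0 k hodd * s) * (φ t * φ (g * u⁻¹))⁻¹
        = φ t * (φ (g * u⁻¹) * φ (P0 k hodd * s) * (φ (g * u⁻¹))⁻¹) * (φ t)⁻¹ := by group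
      _ = φ t * φ (del hodd hω) * (φ t)⁻¹ := by rw [e0]
      _ = φ (del hodd hω) := by
        rw [← map_mul, DD_comm ht (del_mem hodd hω), map_mul, mul_inv_cancel_right]

end Twist

end Cfsg.Agent.H629.ExcSL

private theorem dce_9eb37c2f3475 : _root_.True := by
  try have : _root_.True := by simp only [_root_.Cfsg.Agent.H629.ExcSL.del.congr_simp]
  try have : _root_.True := by simp only [_root_.Cfsg.Agent.H629.ExcSL.P0.congr_simp]
  exact _root_.True.intro
end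

-- part: H629/ExcSLb
section
set_option linter.all false
open scoped Cfsg.Agent.FastGrp

/-!
# Diagonal and monomial matrices of `SL_n` from transvections (helper629)

* `xt i j a` : the transvection (`1` if `i = j`);
* `hd_eq` : `t xt i j u` is the diagonal matrix with `u` at `i` and `u⁻¹` at `j`;
* `dec` : a homomorphism on a diagonal matrix as a product over the adjacent pairs;
* `P0_eq` : the cyclic permutation matrix is the product of the `w xt j (j+1) 1` times a diagonal matrix.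
-/

set_option autoImplicit false
set_option linter.unusedSectionVars false

namespace Cfsg.Agent.H629.ExcSL

open Matrix Cfsg.Agent.AGraded Cfsg.Agent.CTFrame

universe u v

variable {n : ℕ} {k : Type u} [Field k]

open Classical in
/-- the transvections -/
noncomputable def xt (i j : Fin n) (a : k) : SpecialLinearGroup (Fin n) k :=
  if h : i = j then 1 else SpecialLinearGroup.transvection h a

theorem xt_eq {i j : Fin n} (h : i ≠ j) (a : k) : xt i j a = SpecialLinearGroup.transvection h a := dif_neg h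

theorem xt_id : ∀ (i j : Fin n) (hij : i ≠ j) (a : k),
    (MonoidHom.id (SpecialLinearGroup (Fin n) k)) (xt i j a) = SpecialLinearGroup.transvection hij a :=
  fun _ _ hij a => xt_eq hij a

theorem w_smul {i j : Fin n} (hij : i ≠ j) {u : k} (hu : u ≠ 0) (v : Fin n → k) (m : Fin n) :
    (Weyl.w xt i j u • v) m = if m = i then u * v j else if m = j then -u⁻¹ * v i else v m :=
  Torus.phi_w (φ := MonoidHom.id _) xt_id hij hu v m

theorem t_smul {i j : Fin n} (hij : i ≠ j) {u : k} (hu : u ≠ 0) (v : Fin n → k) (m : Fin n) :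
    (Weyl.t xt i j u • v) m = Weyl.df i j u m * v m :=
  Torus.phi_t (φ := MonoidHom.id _) xt_id hij hu v m

theorem dg_smul (s : Fin n → k) (h : ∏ i, s i = 1) (v : Fin n → k) (m : Fin n) : (dg s h • v) m = s m * v m := by
  rw [Matrix.SpecialLinearGroup.smul_def]
  exact mulVec_diagonal s v m

/-! ### diagonal matrices -/

theorem prod_df {i j : Fin n} (hij : i ≠ j) {u : k} (hu : u ≠ 0) : ∏ m, Weyl.df i j u m = 1 := by
  rw [← Finset.mul_prod_erase Finset.univ _ (Finset.mem_univ i),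
    ← Finset.mul_prod_erase (Finset.univ.erase i) _ (Finset.mem_erase.2 ⟨hij.symm, Finset.mem_univ j⟩),
    Finset.prod_eq_one]
  · simp [Weyl.df, hij.symm, hu]
  · intro m hm
    rw [Finset.mem_erase, Finset.mem_erase] at hm
    simp [Weyl.df, hm.1, hm.2.1]

/-- the diagonal matrix with `u` at `i` and `u⁻¹` at `j` -/
theorem t_eq {i j : Fin n} (hij : i ≠ j) {u : k} (hu : u ≠ 0) : Weyl.t xt i j u = dg (Weyl.df i j u) (prod_df hij hu) := by
  apply Cfsg.Agent.LieClassical.SLGen.smul_ext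
  intro v
  funext m
  rw [t_smul hij hu, dg_smul]

/-- partial diagonal matrices -/
def pd (f : ℕ → k) (m : ℕ) (i : Fin n) : k :=
  if (i : ℕ) < m then f i else if (i : ℕ) = m then (∏ j ∈ Finset.range m, f j)⁻¹ else 1

theorem prod_pd (f : ℕ → k) (hf : ∀ i, f i ≠ 0) {m : ℕ} (hm : m < n) : ∏ i : Fin n, pd f m i = 1 := by
  have h1 : ∏ i : Fin n, pd f m i = ∏ i ∈ Finset.range n,
      (if i < m then f i else if i = m then (∏ j ∈ Finset.range m, f j)⁻¹ else 1) :=
    Fin.prod_univ_eq_prod_range (fun i => if i < m then f i else if i = m then (∏ j ∈ Finset.range m, f j)⁻¹ else 1) n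
  rw [h1, ← Finset.prod_subset (Finset.range_mono (show m + 1 ≤ n from hm)), Finset.prod_range_succ, if_neg (by simp),
    if_pos rfl]
  · have h2 : ∏ x ∈ Finset.range m, (if x < m then f x else if x = m then (∏ j ∈ Finset.range m, f j)⁻¹ else 1) =
        ∏ x ∈ Finset.range m, f x := Finset.prod_congr rfl fun x hx => if_pos (Finset.mem_range.1 hx)
    rw [h2, mul_inv_cancel₀]
    exact Finset.prod_ne_zero_iff.2 fun i _ => hf i
  · intro x _ hx
    rw [Finset.mem_range] at hx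
    rw [if_neg (by omega), if_neg (by omega)]

/-- **A homomorphism on the diagonal matrices.** -/
theorem dec {Y : Type v} [Group Y] (φ : SpecialLinearGroup (Fin n) k →* Y) (g : ℕ → k → Y)
    (hg : ∀ (j : ℕ) (hj : j + 1 < n) (u : k), u ≠ 0 →
      φ (Weyl.t xt (⟨j, by omega⟩ : Fin n) ⟨j + 1, hj⟩ u) = g j u) (f : ℕ → k) (hf : ∀ i, f i ≠ 0) :
    ∀ (m : ℕ) (_ : m < n) (h1 : ∏ i : Fin n, pd f m i = 1), φ (dg (pd f m) h1) =
      ((List.range m).map fun j => g j (∏ i ∈ Finset.range (j + 1), f i)).prod := by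
  intro m
  induction m with
  | zero =>
    intro hm h1
    rw [List.range_zero, List.map_nil, List.prod_nil]
    have e : dg (pd f 0) h1 = (1 : SpecialLinearGroup (Fin n) k) := by
      apply Subtype.ext
      show diagonal (pd f 0) = 1
      rw [← diagonal_one]
      congr 1
      funext i
      unfold pd
      rw [if_neg (by omega)]
      split_ifs
      · simp
      · rfl
    rw [e, map_one]
  | succ m ih =>
    intro hm h1
    have hu : ∏ i ∈ Finset.range (m + 1), f i ≠ 0 := Finset.prod_ne_zero_iff.2 fun i _ => hf i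
    have hu' : ∏ i ∈ Finset.range m, f i ≠ 0 := Finset.prod_ne_zero_iff.2 fun i _ => hf i
    have hne : (⟨m, by omega⟩ : Fin n) ≠ ⟨m + 1, hm⟩ := by
      intro h
      have := Fin.mk.inj h
      omega
    have e : dg (pd f (m + 1)) h1 = dg (pd f m) (prod_pd f hf (by omega)) *
        Weyl.t xt (⟨m, by omega⟩ : Fin n) ⟨m + 1, hm⟩ (∏ i ∈ Finset.range (m + 1), f i) := by
      rw [t_eq hne hu]
      apply Subtype.ext
      show diagonal (pd f (m + 1)) = diagonal (pd f m) * diagonal _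
      rw [diagonal_mul_diagonal]
      congr 1
      funext i
      unfold pd Weyl.df
      have hi1 : i = (⟨m, by omega⟩ : Fin n) ↔ (i : ℕ) = m := Fin.ext_iff
      have hi2 : i = (⟨m + 1, hm⟩ : Fin n) ↔ (i : ℕ) = m + 1 := Fin.ext_iff
      simp only [hi1, hi2]
      rcases Nat.lt_trichotomy (i : ℕ) m with h | h | h
      · rw [if_pos (by omega), if_pos h, if_neg (by omega), if_neg (by omega), mul_one]
      · rw [if_pos (by omega), if_neg (by omega), if_pos h, if_pos h, h, Finset.prod_range_succ]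
        field_simp
      · rw [if_neg (show ¬ (i : ℕ) < m + 1 by omega), if_neg (show ¬ (i : ℕ) < m by omega),
          if_neg (show ¬ (i : ℕ) = m by omega), if_neg (show ¬ (i : ℕ) = m by omega), one_mul]
    rw [e, map_mul, ih (by omega), hg m hm _ hu, List.range_succ, List.map_append, List.prod_append, List.map_cons,
      List.map_nil, List.prod_singleton]

/-- every diagonal matrix -/
theorem exists_pd [NeZero n] {A : SpecialLinearGroup (Fin n) k} (hA : A ∈ DD n k) :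
    ∃ (f : ℕ → k) (hf : ∀ i, f i ≠ 0), (∀ i : Fin n, A.1 i i = f i) ∧
      A = dg (pd f (n - 1)) (prod_pd f hf (by have := NeZero.pos n; omega)) := by
  obtain ⟨s, hs⟩ := hA
  have hprod := prod_eq_one hs
  have hs0 := ne_zero_of_prod hprod
  have hn := NeZero.pos n
  obtain ⟨F, hF⟩ : ∃ F : ℕ → k, ∀ i, F i = if h : i < n then s ⟨i, h⟩ else 1 := ⟨_, fun i => rfl⟩
  refine ⟨F, fun i => ?_, fun i => ?_, ?_⟩
  · rw [hF]
    split_ifs with h
    · exact hs0 _
    · exact one_ne_zero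
  · rw [hs, diagonal_apply_eq, hF, dif_pos i.2]
  · apply Subtype.ext
    rw [hs]
    show diagonal s = diagonal _
    congr 1
    funext i
    unfold pd
    rcases Nat.lt_or_ge (i : ℕ) (n - 1) with h | h
    · rw [if_pos h, hF, dif_pos i.2]
    · have hi : (i : ℕ) = n - 1 := by have := i.2; omega
      rw [if_neg (by omega), if_pos hi]
      have h1 : ∏ i : Fin n, s i = ∏ j ∈ Finset.range n, F j := by
        rw [← Fin.prod_univ_eq_prod_range F n]
        exact Finset.prod_congr rfl fun i _ => by rw [hF, dif_pos i.2]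
      rw [h1, show Finset.range n = Finset.range (n - 1 + 1) by rw [Nat.sub_add_cancel hn], Finset.prod_range_succ] at hprod
      have h2 : s i = F (n - 1) := by rw [hF, dif_pos (show n - 1 < n by omega)]; congr 1; exact Fin.ext hi
      rw [h2]
      exact eq_inv_of_mul_eq_one_right hprod

/-! ### the cyclic permutation matrix -/

/-- the product of the `w xt j (j+1) 1` -/
noncomputable def wp (n : ℕ) (k : Type u) [Field k] : ℕ → SpecialLinearGroup (Fin n) k
  | 0 => 1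
  | m + 1 => wp n k m * (if h : m + 1 < n then Weyl.w xt (⟨m, by omega⟩ : Fin n) ⟨m + 1, h⟩ 1 else 1)

theorem wp_smul (m : ℕ) (hm : m < n) (v : Fin n → k) (i : Fin n) : (wp n k m • v) i =
    if (i : ℕ) = 0 then v ⟨m, hm⟩ else if h : (i : ℕ) ≤ m then -v ⟨i - 1, by omega⟩ else v i := by
  induction m generalizing v with
  | zero =>
    rw [wp, one_smul]
    split_ifs with h1 h2
    · congr 1; exact Fin.ext h1
    · omega
    · rfl
  | succ m ih =>
    have hne : (⟨m, by omega⟩ : Fin n) ≠ ⟨m + 1, hm⟩ := by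
      intro h
      have := Fin.mk.inj h
      omega
    rw [wp, dif_pos hm, mul_smul, ih (by omega)]
    have hw := w_smul (k := k) hne one_ne_zero v
    have e1 : ∀ j : Fin n, j = (⟨m, by omega⟩ : Fin n) ↔ (j : ℕ) = m := fun j => Fin.ext_iff
    have e2 : ∀ j : Fin n, j = (⟨m + 1, hm⟩ : Fin n) ↔ (j : ℕ) = m + 1 := fun j => Fin.ext_iff
    by_cases h0 : (i : ℕ) = 0
    · rw [if_pos h0, if_pos h0, hw, if_pos rfl, one_mul]
    · rw [if_neg h0, if_neg h0]
      rcases Nat.lt_or_ge m (i : ℕ) with h1 | h1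
      · rw [dif_neg (show ¬ (i : ℕ) ≤ m by omega), hw, if_neg (fun h => by rw [e1] at h; omega)]
        rcases Nat.lt_or_ge (m + 1) (i : ℕ) with h2 | h2
        · rw [dif_neg (show ¬ (i : ℕ) ≤ m + 1 by omega), if_neg (fun h => by rw [e2] at h; omega)]
        · have hi : (i : ℕ) = m + 1 := by omega
          rw [dif_pos h2, if_pos ((e2 i).2 hi), inv_one, neg_one_mul]
          congr 2
          exact Fin.ext (show m = (i : ℕ) - 1 by omega)
      · rw [dif_pos h1, dif_pos (show (i : ℕ) ≤ m + 1 by omega), hw, if_neg, if_neg]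
        · intro h
          have h3 : (i : ℕ) - 1 = m + 1 := (e2 _).1 h
          omega
        · intro h
          have h3 : (i : ℕ) - 1 = m := (e1 _).1 h
          omega

/-- signs -/
theorem prod_sgn [NeZero n] (hodd : Odd n) : ∏ i : Fin n, (if (i : ℕ) = n - 1 then (1 : k) else -1) = 1 := by
  have hn := NeZero.pos n
  rw [Fin.prod_univ_eq_prod_range (fun i => if i = n - 1 then (1 : k) else -1) n]
  rw [show Finset.range n = Finset.range (n - 1 + 1) by rw [Nat.sub_add_cancel hn], Finset.prod_range_succ, if_pos rfl,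
    mul_one, Finset.prod_congr rfl (g := fun _ => (-1 : k)) fun x hx => if_neg (by rw [Finset.mem_range] at hx; omega),
    Finset.prod_const, Finset.card_range]
  obtain ⟨c, hc⟩ := hodd
  rw [show n - 1 = 2 * c by omega, pow_mul]
  simp

theorem PM_smul [NeZero n] (v : Fin n → k) (i : Fin n) : (PM n k *ᵥ v) i = v (i - 1) := by
  rw [mulVec, dotProduct, Finset.sum_eq_single (i - 1)]
  · unfold PM; rw [if_pos (by rw [sub_add_cancel]), one_mul]
  · intro b _ hb
    unfold PM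
    rw [if_neg (fun h => hb (by rw [h, add_sub_cancel_right])), zero_mul]
  · intro h; exact absurd (Finset.mem_univ _) h

/-- **The cyclic permutation matrix as a product.** -/
theorem P0_eq [NeZero n] (hodd : Odd n) : P0 k hodd = wp n k (n - 1) * dg _ (prod_sgn hodd) := by
  have hn := NeZero.pos n
  apply Cfsg.Agent.LieClassical.SLGen.smul_ext
  intro v
  funext i
  have h1 : (P0 k hodd • v) i = v (i - 1) := by
    rw [Matrix.SpecialLinearGroup.smul_def]
    exact PM_smul v i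
  rw [h1, mul_smul, wp_smul (n - 1) (by omega)]
  by_cases h0 : (i : ℕ) = 0
  · rw [if_pos h0, dg_smul, if_pos rfl, one_mul]
    congr 1
    have hi : i = 0 := Fin.ext (by rw [h0]; rfl)
    subst hi
    apply Fin.ext
    rw [zero_sub]
    obtain ⟨m, rfl⟩ : ∃ m, n = m + 1 := ⟨n - 1, by omega⟩
    simp
  · have h2 : ((i - 1 : Fin n) : ℕ) = i - 1 := by
      have h3 : (1 : Fin n) ≤ i := by
        rw [Fin.le_def, Fin.val_one']
        refine le_trans (Nat.mod_le 1 n) (by omega)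
      rw [Fin.sub_val_of_le h3, Fin.val_one', Nat.mod_eq_of_lt]
      have := i.2
      omega
    have h4 : ¬ (i : ℕ) - 1 = n - 1 := by have := i.2; omega
    rw [if_neg h0, dif_pos (show (i : ℕ) ≤ n - 1 by have := i.2; omega), dg_smul, if_neg h4, neg_one_mul, neg_neg]
    congr 1
    exact Fin.ext h2

end Cfsg.Agent.H629.ExcSL

private theorem dce_0055ee00d5b1 : _root_.True := by
  try have : _root_.True := by simp only [_root_.Cfsg.Agent.H629.ExcSL.wp.eq_1]
  try have : _root_.True := by simp only [_root_.Cfsg.Agent.H629.ExcSL.wp.eq_2]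
  try have : _root_.True := by simp only [_root_.Cfsg.Agent.H629.ExcSL.wp.eq_def]
  exact _root_.True.intro
end

-- part: H629/ExcLevi
section
prune_inst 0x307404002202000018000020000644560001900048800048000a4407c00e420000802124a01210101004444030000813000020420000000a000000011d00801028040600400100a00008000004000000000000000000000000000000000000000000000
set_option linter.all false
open scoped Cfsg.Agent.FastGrp

/-!
# The Levi subgroups of type `A_{n-1}` of `D.group k` (helper629)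

* `LTab D n r s c` : the table `r` of roots, `s` of signs is a Steinberg system of type `A_{n-1}` whose fundamental roots
  are the fundamental roots `c 0, c 1, …` of `D`;
* `exists_phi` : the homomorphism `SL_n k →* D.group k`.
-/

set_option autoImplicit false
set_option linter.unusedSectionVars false

namespace Cfsg.Agent.H629.ExcLevi

open CoxeterSystem Cfsg Cfsg.Lie Cfsg.Lie.ChevalleyDatum
open Cfsg.Agent.ChevalleyStructure Cfsg.Agent.ChevalleyStructure.Elts Cfsg.Agent.ChevalleyStructure.CoxeterGeom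
  Cfsg.Agent.ChevalleyStructure.CoxeterGeomTypes Cfsg.Agent.ChevalleyStructure.NPerm
open Cfsg.Agent.Tits.Roots Cfsg.Agent.Tits.Core Cfsg.Agent.Nodes Cfsg.Agent.Nodes.Reps Cfsg.Agent.Nodes.BNOf
  Cfsg.Agent.Nodes.RGDChev Cfsg.Agent.Nodes.Bruhat Cfsg.Agent.Nodes.SubComb Cfsg.Agent.Nodes.Coroot
open Cfsg.Agent.KFacts.RgdField Cfsg.Agent.KFacts.RgdChevCoord Cfsg.Agent.BpExc.TorCent Cfsg.Agent.BpExc.TorChev
open Cfsg.Agent.GpExc.Field Cfsg.Agent.BpExc.Tow Cfsg.Agent.BpExc.TowChev Cfsg.Agent.BpExc.Fr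
  Cfsg.Agent.BpExc.LangFr Cfsg.Agent.LangThm Cfsg.Agent.BpExc Cfsg.Agent.H129.TorusChar
open Cfsg.Agent.AGraded Cfsg.Agent.CTFrame Cfsg.Agent.TitsThree.KExcRT Cfsg.Agent.H629.ExcSL Cfsg.Agent.H629.ExcTor

universe u

/-- The table check. -/
structure LTab (D : ChevalleyDatum) (n l : ℕ) (r : Fin n → Fin n → ℕ) (s : Fin n → Fin n → ℤ) (c : ℕ → Fin l) : Prop where
  ta : RTa D r
  tb : RTb D r s
  tc : RTc D r
  td : RTd s
  te : ∀ a b, a ≠ b → r b a = D.neg (r a b) ∧ s b a = s a b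
  tf : ∀ a b : Fin n, (b : ℕ) = a + 1 → r a b = D.simple (c a)

section Hg

variable {D : ChevalleyDatum} (hD : InList D) {k : Type u} [Field k]

theorem hG_mul {r : ℕ} (hr : r < D.nroots) {a b : k} (ha : a ≠ 0) (hb : b ≠ 0) :
    hG hD r a * hG hD r b = hG hD r (a * b) := by
  apply Units.ext
  rw [Units.val_mul, coe_hG, coe_hG, coe_hG, StringMem.hMat_eq hD hr ha, StringMem.hMat_eq hD hr hb,
    StringMem.hMat_eq hD hr (mul_ne_zero ha hb), Matrix.diagonal_mul_diagonal]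
  congr 1
  funext i
  rcases i with i | i
  · exact one_mul _
  · exact (mul_zpow _ _ _).symm

theorem hG_inv {r : ℕ} (hr : r < D.nroots) {a : k} (ha : a ≠ 0) : (hG hD r a)⁻¹ = hG hD r a⁻¹ := by
  have h1 : hG hD r (1 : k) = 1 := by
    have := hG_mul hD hr (one_ne_zero (α := k)) one_ne_zero
    rw [mul_one] at this
    exact mul_eq_left.1 this
  rw [inv_eq_iff_mul_eq_one, hG_mul hD hr ha (inv_ne_zero ha), mul_inv_cancel₀ ha, h1]

end Hg

section Phi

variable {D : ChevalleyDatum} {l n : ℕ} {M : CoxeterMatrix (Fin l)} (hp : IsType D l M) {k : Type u} [Field k]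
  {r : Fin n → Fin n → ℕ} {s : Fin n → Fin n → ℤ} {c : ℕ → Fin l} (h : LTab D n l r s c)

include h

theorem sgn_or (a b : Fin n) : s a b = 1 ∨ s a b = -1 := by
  have h1 := h.td a b
  rcases Int.eq_one_or_neg_one_of_mul_eq_one h1 with e | e
  · exact Or.inl e
  · exact Or.inr e

theorem sgn_sq (a b : Fin n) : ((s a b : ℤ) : k) * (s a b : k) = 1 := by
  rw [← Int.cast_mul, h.td, Int.cast_one]

theorem sgn_ne (a b : Fin n) : ((s a b : ℤ) : k) ≠ 0 := left_ne_zero_of_mul_eq_one (sgn_sq h a b)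

theorem w_xr {i j : Fin n} (hij : i ≠ j) (u : k) :
    Weyl.w (xr (F := k) hp.inList r s) i j u = nG hp.inList (r i j) (s i j * u) := by
  obtain ⟨h1, h2⟩ := h.te i j hij
  rw [Weyl.w, nG_def]
  show xG hp.inList (r i j) _ * xG hp.inList (r j i) _ * xG hp.inList (r i j) _ = _
  rw [h1, h2, mul_assoc]
  congr 3
  rcases sgn_or h i j with e | e <;> rw [e] <;> simp

theorem t_xr {i j : Fin n} (hij : i ≠ j) {u : k} (hu : u ≠ 0) :
    Weyl.t (xr (F := k) hp.inList r s) i j u = hG hp.inList (r i j) u := by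
  have hr := h.ta i j hij
  rw [Weyl.t, w_xr hp h hij, w_xr hp h hij]
  have e : (s i j : k) * -1 = -(s i j : k) := by ring
  rw [e, ← MonomialNormal.nG_inv, MonomialNormal.nG_mul_nG_inv, hG_inv hp.inList hr (sgn_ne h i j),
    hG_mul hp.inList hr (mul_ne_zero (sgn_ne h i j) hu) (inv_ne_zero (sgn_ne h i j))]
  congr 1
  rw [mul_comm (s i j : k) u, mul_assoc, mul_inv_cancel₀ (sgn_ne h i j), mul_one]

theorem hrel : Torus.HRel (xr (F := k) hp.inList r s) := by
  intro i j hij a b ha hb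
  rw [t_xr hp h hij ha, t_xr hp h hij hb, t_xr hp h hij (mul_ne_zero ha hb),
    hG_mul hp.inList (h.ta i j hij) ha hb]

/-- **The homomorphism.** -/
theorem exists_phi (hn : 3 ≤ n) : ∃ φ : Matrix.SpecialLinearGroup (Fin n) k →* ↥(D.group k),
    (∀ (i j : Fin n), i ≠ j → ∀ a, ((φ (xt i j a) : ↥(D.group k)) : GL D.Idx k) = xG hp.inList (r i j) (s i j * a)) ∧
    φ.ker ≤ Subgroup.center (Matrix.SpecialLinearGroup (Fin n) k) := by
  obtain ⟨π, h1, h2, h3⟩ := Hom.exists_hom (stein hp.inList h.ta h.tb h.tc h.td (F := k)) (hrel hp h)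
    (by rw [Fintype.card_fin]; exact hn)
  have hmem : ∀ x, π x ∈ D.group k := by
    intro x
    have : π x ∈ π.range := ⟨x, rfl⟩
    rw [h2] at this
    refine (Subgroup.closure_le _).2 ?_ this
    rintro _ ⟨i, j, hij, a, rfl⟩
    exact xG_mem_group hp.inList _ _
  refine ⟨π.codRestrict (D.group k) hmem, fun i j hij a => ?_, ?_⟩
  · show π (xt i j a) = _
    rw [xt_eq hij, h1]
    rfl
  · intro x hx
    refine h3 ?_ ?_
    · refine ⟨⟨0, by omega⟩, ⟨1, by omega⟩, by simp, 1, ?_⟩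
      intro h4
      have hr := h.ta (⟨0, by omega⟩ : Fin n) ⟨1, by omega⟩ (by simp)
      have h5 : xG hp.inList (r ⟨0, by omega⟩ ⟨1, by omega⟩) ((s ⟨0, by omega⟩ ⟨1, by omega⟩ : k) * 1) =
          xG hp.inList (r ⟨0, by omega⟩ ⟨1, by omega⟩) 0 := by
        rw [xG_zero]; exact h4
      have h6 := xG_injective hp.inList hr h5
      rw [mul_one] at h6
      exact sgn_ne h _ _ h6
    · have := congrArg Subtype.val (MonoidHom.mem_ker.1 hx)
      exact MonoidHom.mem_ker.2 this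

/-! ### properties of the homomorphism -/

variable {φ : Matrix.SpecialLinearGroup (Fin n) k →* ↥(D.group k)}
  (h1 : ∀ (i j : Fin n), i ≠ j → ∀ a, ((φ (xt i j a) : ↥(D.group k)) : GL D.Idx k) = xG hp.inList (r i j) (s i j * a))

include h1

theorem coe_phi_w {i j : Fin n} (hij : i ≠ j) (u : k) :
    ((φ (Weyl.w xt i j u) : ↥(D.group k)) : GL D.Idx k) = nG hp.inList (r i j) (s i j * u) := by
  rw [← w_xr hp h hij, Weyl.w, Weyl.w, map_mul, map_mul, Subgroup.coe_mul, Subgroup.coe_mul, h1 i j hij, h1 j i hij.symm]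
  rfl

theorem coe_phi_t {i j : Fin n} (hij : i ≠ j) {u : k} (hu : u ≠ 0) :
    ((φ (Weyl.t xt i j u) : ↥(D.group k)) : GL D.Idx k) = hG hp.inList (r i j) u := by
  rw [← t_xr hp h hij hu, Weyl.t, Weyl.t, map_mul, Subgroup.coe_mul, coe_phi_w hp h h1 hij, coe_phi_w hp h h1 hij,
    w_xr hp h hij, w_xr hp h hij]

theorem phi_t_adj (j : ℕ) (hj : j + 1 < n) (u : k) (hu : u ≠ 0) :
    φ (Weyl.t xt (⟨j, by omega⟩ : Fin n) ⟨j + 1, hj⟩ u) = hc hp (c j) u := by
  apply Subtype.ext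
  have hne : (⟨j, by omega⟩ : Fin n) ≠ ⟨j + 1, hj⟩ := by
    intro h
    have := Fin.mk.inj h
    omega
  rw [coe_phi_t hp h h1 hne hu, h.tf ⟨j, by omega⟩ ⟨j + 1, hj⟩ rfl]
  rfl

variable [NeZero n]

/-- **The diagonal matrices.** -/
theorem phi_DD {A : Matrix.SpecialLinearGroup (Fin n) k} (hA : A ∈ DD n k) :
    ∃ f : ℕ → k, (∀ i, f i ≠ 0) ∧ (∀ i : Fin n, A.1 i i = f i) ∧
      φ A = ((List.range (n - 1)).map fun j => hc hp (c j) (∏ i ∈ Finset.range (j + 1), f i)).prod := by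
  obtain ⟨f, hf, h2, h3⟩ := exists_pd hA
  refine ⟨f, hf, h2, ?_⟩
  have hn := NeZero.pos n
  rw [h3, dec φ (fun j u => hc hp (c j) u) (fun j hj u hu => phi_t_adj hp h h1 j hj u hu) f hf (n - 1) (by omega)]

theorem phi_DD_mem {A : Matrix.SpecialLinearGroup (Fin n) k} (hA : A ∈ DD n k) : φ A ∈ TT D k := by
  obtain ⟨f, hf, -, h3⟩ := phi_DD hp h h1 hA
  rw [h3]
  refine Subgroup.list_prod_mem _ fun x hx => ?_
  rw [List.mem_map] at hx
  obtain ⟨j, -, rfl⟩ := hx
  exact hc_mem hp _ (Finset.prod_ne_zero_iff.2 fun i _ => hf i)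

theorem phi_del_mem (hodd : Odd n) {ω : k} (hω : IsPrimitiveRoot ω n) : φ (del hodd hω) ∈ Hc hp (k := k) n := by
  obtain ⟨f, hf, h2, h3⟩ := phi_DD hp h h1 (del_mem hodd hω)
  have hn := NeZero.pos n
  rw [h3]
  refine Subgroup.list_prod_mem _ fun x hx => ?_
  rw [List.mem_map] at hx
  obtain ⟨j, hj, rfl⟩ := hx
  rw [List.mem_range] at hj
  apply hc_mem_Hc
  rw [← Finset.prod_pow]
  refine Finset.prod_eq_one fun i hi => ?_
  rw [Finset.mem_range] at hi
  have h4 := h2 ⟨i, by omega⟩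
  have h5 : (del hodd hω).1 (⟨i, by omega⟩ : Fin n) ⟨i, by omega⟩ = ω ^ i := by
    show Matrix.diagonal _ _ _ = _
    rw [Matrix.diagonal_apply_eq]
  rw [h5] at h4
  have h6 : f i = ω ^ i := h4.symm
  rw [h6, ← pow_mul, mul_comm, pow_mul, hω.pow_eq_one, one_pow]

omit h h1 [NeZero n] in
theorem cX_list (L : List (Fin l × k)) (hL : ∀ x ∈ L, x.2 ≠ 0) (x : Fin l → ℤ) :
    (L.map fun y => hc hp y.1 y.2).prod ∈ TT D k ∧ cX hp (L.map fun y => hc hp y.1 y.2).prod x =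
      (L.map fun y => y.2 ^ pairing (cartanOf D l) y.1 x).prod := by
  induction L with
  | nil => exact ⟨one_mem _, by simpa using cX_one hp x⟩
  | cons a L ih =>
    obtain ⟨h2, h3⟩ := ih fun x hx => hL x (List.mem_cons_of_mem _ hx)
    have h4 := hL a List.mem_cons_self
    rw [List.map_cons, List.prod_cons, List.map_cons, List.prod_cons]
    exact ⟨mul_mem (hc_mem hp _ h4) h2, by rw [cX_mul hp (hc_mem hp _ h4) h2, h3, cX_hc hp _ h4]⟩

/-- **Injectivity.** -/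
theorem phi_inj (hker : φ.ker ≤ Subgroup.center (Matrix.SpecialLinearGroup (Fin n) k)) {m : Fin l}
    (hm : IsCoprime (∑ j ∈ Finset.range (n - 1), ((j : ℤ) + 1) * cartanOf D l (c j) m) (n : ℤ)) :
    Function.Injective φ := by
  rw [injective_iff_map_eq_one]
  intro z hz
  have hn := NeZero.pos n
  obtain ⟨ζ, hζ, e⟩ := Matrix.SpecialLinearGroup.mem_center_iff.1 (hker (MonoidHom.mem_ker.2 hz))
  rw [Fintype.card_fin] at hζ
  have e' : z.1 = Matrix.diagonal fun _ => ζ := by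
    rw [← Matrix.scalar_apply]; exact e.symm
  obtain ⟨f, hf, h2, h3⟩ := phi_DD hp h h1 (A := z) ⟨_, e'⟩
  have hfζ : ∀ i < n, f i = ζ := by
    intro i hi
    have h4 := h2 ⟨i, hi⟩
    rw [e', Matrix.diagonal_apply_eq] at h4
    exact h4.symm
  have hζ0 := ne_zero_of_pow hn.ne' hζ
  have h5 : ζ ^ (∑ j ∈ Finset.range (n - 1), ((j : ℤ) + 1) * cartanOf D l (c j) m) = 1 := by
    have h6 := (cX_list hp ((List.range (n - 1)).map fun j => (c j, ∏ i ∈ Finset.range (j + 1), f i)) (by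
      intro x hx
      rw [List.mem_map] at hx
      obtain ⟨j, -, rfl⟩ := hx
      show ∏ i ∈ Finset.range (j + 1), f i ≠ 0
      exact Finset.prod_ne_zero_iff.2 fun i _ => hf i) (sr m)).2
    rw [List.map_map, List.map_map] at h6
    have h7 : φ z = ((List.range (n - 1)).map ((fun y : Fin l × k => hc hp y.1 y.2) ∘ fun j =>
        (c j, ∏ i ∈ Finset.range (j + 1), f i))).prod := h3
    rw [← h7, hz, cX_one] at h6
    have h8 : ∀ N, N ≤ n - 1 → ((List.range N).map ((fun y : Fin l × k => y.2 ^ pairing (cartanOf D l) y.1 (sr m)) ∘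
        fun j => (c j, ∏ i ∈ Finset.range (j + 1), f i))).prod =
        ζ ^ (∑ j ∈ Finset.range N, ((j : ℤ) + 1) * cartanOf D l (c j) m) := by
      intro N
      induction N with
      | zero => intro _; simp
      | succ N ih =>
        intro hN
        rw [List.range_succ, List.map_append, List.prod_append, ih (by omega), Finset.sum_range_succ, zpow_add₀ hζ0]
        congr 1
        rw [List.map_cons, List.map_nil, List.prod_singleton, Function.comp_apply]
        show (∏ i ∈ Finset.range (N + 1), f i) ^ pairing (cartanOf D l) (c N) (sr m) = _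
        rw [pairing_sr hp, Finset.prod_congr rfl (g := fun _ => ζ) fun i hi => hfζ i (by
          rw [Finset.mem_range] at hi; omega), Finset.prod_const, Finset.card_range, ← zpow_natCast, ← zpow_mul]
        push_cast
        rfl
    rw [h8 _ le_rfl] at h6
    exact h6.symm
  have h6 : ζ = 1 := by
    obtain ⟨u, v, huv⟩ := hm
    have h7 : ζ ^ (u * (∑ j ∈ Finset.range (n - 1), ((j : ℤ) + 1) * cartanOf D l (c j) m) + v * n) = 1 := by
      rw [zpow_add₀ hζ0, mul_comm u, mul_comm v, zpow_mul, zpow_mul, h5, zpow_natCast, hζ, one_zpow, one_zpow, one_mul]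
    rwa [huv, zpow_one] at h7
  apply Subtype.ext
  rw [e', h6]
  exact Matrix.diagonal_one

end Phi

/-! ### the frame automorphism -/

section Frame

variable {D : ChevalleyDatum} {l : ℕ} {M : CoxeterMatrix (Fin l)} (hp : IsType D l M) {k : Type u} [Field k]
  {W : Type*} [Group W] (cs : CoxeterSystem M W) (hN : NSys M (TT D k) (nc hp k))

/-- `τ` acts on the torus as the power `Q`, on the roots as the sign `e`, and fixes the Weyl group. -/
structure Ctx (τ : MulAut ↥(D.group k)) (e Q : ℤ) : Prop where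
  mem : ∀ t ∈ TT D k, τ t ∈ TT D k
  ch : ∀ t ∈ TT D k, ∀ x, cX hp (τ t) x = cX hp t x ^ Q
  rt : ∀ a, IsRoot cs hp.isCartan a → ∀ y ∈ XX D l k a, τ y ∈ XX D l k (e • a)
  rp : ∀ w n, Rp cs hN w n → Rp cs hN w (τ n)
  he : e = 1 ∨ e = -1

variable {hp cs hN}

theorem Ctx.tor {τ : MulAut ↥(D.group k)} {e Q : ℤ} (C : Ctx hp cs hN τ e Q) {t : ↥(D.group k)} (ht : t ∈ TT D k) :
    τ t = t ^ Q :=
  cX_inj hp (C.mem t ht) (zpow_mem ht Q) fun i => by rw [C.ch t ht, cX_zpow hp ht]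

/-- the product of the fundamental reflections `c 0, …, c (m-1)` -/
def cw (cs : CoxeterSystem M W) (c : ℕ → Fin l) (m : ℕ) : W := ((List.range m).map fun j => cs.simple (c j)).prod

theorem cw_succ (c : ℕ → Fin l) (m : ℕ) : cw cs c (m + 1) = cw cs c m * cs.simple (c m) := by
  unfold cw
  rw [List.range_succ, List.map_append, List.prod_append, List.map_cons, List.map_nil, List.prod_singleton]

variable {n : ℕ} {r : Fin n → Fin n → ℕ} {s : Fin n → Fin n → ℤ} {c : ℕ → Fin l} (h : LTab D n l r s c)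
  {φ : Matrix.SpecialLinearGroup (Fin n) k →* ↥(D.group k)}
  (h1 : ∀ (i j : Fin n), i ≠ j → ∀ a, ((φ (xt i j a) : ↥(D.group k)) : GL D.Idx k) = xG hp.inList (r i j) (s i j * a))

include h h1

theorem rp_w (j : ℕ) (hj : j + 1 < n) : Rp cs hN (cs.simple (c j)) (φ (Weyl.w xt (⟨j, by omega⟩ : Fin n) ⟨j + 1, hj⟩ 1)) := by
  have hne : (⟨j, by omega⟩ : Fin n) ≠ ⟨j + 1, hj⟩ := by
    intro h
    have := Fin.mk.inj h
    omega
  have hs := sgn_ne (k := k) h (⟨j, by omega⟩ : Fin n) ⟨j + 1, hj⟩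
  have e1 : φ (Weyl.w xt (⟨j, by omega⟩ : Fin n) ⟨j + 1, hj⟩ 1) =
      hc hp (c j) (s ⟨j, by omega⟩ ⟨j + 1, hj⟩ : k) * nc hp k (c j) := by
    apply Subtype.ext
    rw [coe_phi_w hp h h1 hne, mul_one, h.tf ⟨j, by omega⟩ ⟨j + 1, hj⟩ rfl, nG_eq hp]
    rfl
  rw [e1]
  have h2 := (rp_of_mem (cs := cs) (hN := hN) (hc_mem hp (c j) hs)).mul (rp_simple cs hN (c j))
  rwa [one_mul] at h2

theorem rp_wp (m : ℕ) (hm : m < n) : Rp cs hN (cw cs c m) (φ (wp n k m)) := by
  induction m with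
  | zero =>
    rw [wp, map_one]
    exact rp_one
  | succ m ih =>
    rw [wp, dif_pos hm, map_mul, cw_succ]
    exact (ih (by omega)).mul (rp_w h h1 m hm)

variable [NeZero n]

theorem rp_P0 (hodd : Odd n) : Rp cs hN (cw cs c (n - 1)) (φ (P0 k hodd)) := by
  have hn := NeZero.pos n
  rw [P0_eq, map_mul]
  exact (rp_wp h h1 (n - 1) (by omega)).mul_mem_right (phi_DD_mem hp h h1 (dg_mem _ _))

omit [NeZero n] in
theorem range_tau {τ : MulAut ↥(D.group k)} {e Q : ℤ} (C : Ctx hp cs hN τ e Q) : ∀ y ∈ φ.range, τ y ∈ φ.range := by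
  rintro _ ⟨x, rfl⟩
  have hx : x ∈ Subgroup.closure (Cfsg.Agent.LieClassical.SLGen.transvections (Fin n) k) := by
    rw [Cfsg.Agent.LieClassical.SLGen.closure_transvections]; exact Subgroup.mem_top x
  induction hx using Subgroup.closure_induction with
  | mem x hx =>
    obtain ⟨i, j, hij, a, rfl⟩ := hx
    rw [← xt_eq hij]
    have hr := h.ta i j hij
    have h2 : φ (xt i j a) ∈ XX D l k (vec D l (r i j)) := (mem_XX_vec hp hr).2 ⟨_, h1 i j hij a⟩
    have h3 := C.rt _ (isRoot_vec hp cs hr) _ h2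
    have key : ∀ (i j : Fin n) (hij : i ≠ j) (y : ↥(D.group k)), y ∈ XX D l k (vec D l (r i j)) → y ∈ φ.range := by
      intro i j hij y hy
      obtain ⟨b, hb⟩ := (mem_XX_vec hp (h.ta i j hij)).1 hy
      refine ⟨xt i j (s i j * b), Subtype.ext ?_⟩
      rw [h1 i j hij, hb, ← mul_assoc, sgn_sq h, one_mul]
    rcases C.he with e' | e'
    · rw [e', one_smul] at h3
      exact key i j hij _ h3
    · rw [e', neg_one_smul, ← vec_neg hp hr, ← (h.te i j hij).1] at h3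
      exact key j i hij.symm _ h3
  | one => rw [map_one, map_one]; exact one_mem _
  | mul x y _ _ hx hy => rw [map_mul, map_mul]; exact mul_mem hx hy
  | inv x _ hx => rw [map_inv, map_inv]; exact inv_mem hx

/-- `φ (DD) = TT ∩ range` -/
theorem mem_TT_iff (hinj : Function.Injective φ) (hodd : Odd n) {ω : k} (hω : IsPrimitiveRoot ω n) {y : ↥(D.group k)}
    (hy : y ∈ φ.range) (hyT : y ∈ TT D k) : ∃ d ∈ DD n k, y = φ d :=
  exists_DD_of_comm hodd hω hinj hy (TT_comm hp _ hyT _ (phi_DD_mem hp h h1 (del_mem hodd hω)))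

theorem exists_fixed_rp [IsAlgClosed k] (hinj : Function.Injective φ) (hodd : Odd n) {ω : k}
    (hω : IsPrimitiveRoot ω n) {τ : MulAut ↥(D.group k)} {e Q : ℤ} (C : Ctx hp cs hN τ e Q) (hQ1 : Q ≠ 1) {w : W}
    {m : Matrix.SpecialLinearGroup (Fin n) k} (hm : Rp cs hN w (φ m)) :
    ∃ y ∈ φ.range, Rp cs hN w y ∧ τ y = y := by
  have h2 := hm.unique (C.rp _ _ hm)
  obtain ⟨d, hd, e1⟩ := mem_TT_iff (hp := hp) h h1 hinj hodd hω
    (mul_mem (inv_mem ⟨m, rfl⟩) (range_tau h h1 C _ ⟨m, rfl⟩)) h2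
  obtain ⟨s', hs', e2⟩ := exists_fixed (φ := φ) (τ := τ) (fun A hA => C.tor (phi_DD_mem hp h h1 hA)) hQ1 hd (m := m)
    (by rw [← e1]; group)
  refine ⟨φ (m * s'), ⟨_, rfl⟩, ?_, e2⟩
  rw [map_mul]
  exact hm.mul_mem_right (phi_DD_mem hp h h1 hs')

/-- **The elements over the Coxeter element.** -/
theorem conj_of_rp [IsAlgClosed k] (hinj : Function.Injective φ) (hodd : Odd n) {ω : k}
    (hω : IsPrimitiveRoot ω n) {τ : MulAut ↥(D.group k)} {e Q : ℤ} (C : Ctx hp cs hN τ e Q) (hQ1 : Q ≠ 1)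
    (hnQ : (n : ℤ) ∣ Q - 1) {x : ↥(D.group k)} (hx : x ∈ φ.range) (hxw : Rp cs hN (cw cs c (n - 1)) x)
    (hτ : τ x = x) : ∃ y ∈ φ.range, τ y = y ∧ y * x * y⁻¹ = φ (del hodd hω) := by
  have h2 := (rp_P0 (cs := cs) (hN := hN) h h1 hodd).unique hxw
  obtain ⟨d, hd, e1⟩ := mem_TT_iff (hp := hp) h h1 hinj hodd hω (mul_mem (inv_mem ⟨_, rfl⟩) hx) h2
  have e2 : x = φ (P0 k hodd * d) := by rw [map_mul, ← e1]; group
  subst e2
  exact exists_conj hodd hω hinj (range_tau h h1 C) (fun A hA => C.tor (phi_DD_mem hp h h1 hA)) hQ1 hnQ hd hτ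

end Frame

/-! ### the result -/

/-- **The Levi subgroup of a table.** -/
theorem exists_levi {D : ChevalleyDatum} {l : ℕ} {M : CoxeterMatrix (Fin l)} {hp : IsType D l M} {k : Type u} [Field k]
    [IsAlgClosed k] {W : Type*} [Group W] {cs : CoxeterSystem M W} {hN : NSys M (TT D k) (nc hp k)}
    {n : ℕ} {r : Fin n → Fin n → ℕ} {s : Fin n → Fin n → ℤ} {c : ℕ → Fin l} (h : LTab D n l r s c)
    (hn : 3 ≤ n) (hodd : Odd n) (hnk : (n : k) ≠ 0) {m : Fin l}
    (hm : IsCoprime (∑ j ∈ Finset.range (n - 1), ((j : ℤ) + 1) * cartanOf D l (c j) m) (n : ℤ))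
    {τ : MulAut ↥(D.group k)} {e Q : ℤ} (C : Ctx hp cs hN τ e Q) (hQ1 : Q ≠ 1) (hnQ : (n : ℤ) ∣ Q - 1) :
    ∃ L : Subgroup ↥(D.group k), (L = Subgroup.closure {y | ∃ i j : Fin n, i ≠ j ∧ y ∈ XX D l k (vec D l (r i j))}) ∧
      (∀ j, j + 1 < n → ∃ y ∈ L, Rp cs hN (cs.simple (c j)) y ∧ τ y = y) ∧
      (∃ y ∈ L, Rp cs hN (cw cs c (n - 1)) y ∧ τ y = y) ∧
      ∀ x ∈ L, Rp cs hN (cw cs c (n - 1)) x → τ x = x → x ^ n = 1 ∧
        ∃ y ∈ L, τ y = y ∧ y * x * y⁻¹ ∈ Hc hp (k := k) n := by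
  have : NeZero n := ⟨by omega⟩
  have : NeZero (n : k) := ⟨hnk⟩
  obtain ⟨ω, hω⟩ := HasEnoughRootsOfUnity.exists_primitiveRoot k n
  obtain ⟨φ, h1, hker⟩ := exists_phi (k := k) hp h hn
  have hinj := phi_inj hp h h1 hker hm
  refine ⟨φ.range, ?_, fun j hj => ?_, ?_, fun x hx hxw hτ => ?_⟩
  · apply le_antisymm
    · rintro _ ⟨x, rfl⟩
      have hx : x ∈ Subgroup.closure (Cfsg.Agent.LieClassical.SLGen.transvections (Fin n) k) := by
        rw [Cfsg.Agent.LieClassical.SLGen.closure_transvections]; exact Subgroup.mem_top x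
      induction hx using Subgroup.closure_induction with
      | mem x hx =>
        obtain ⟨i, j, hij, a, rfl⟩ := hx
        rw [← xt_eq hij]
        exact Subgroup.subset_closure ⟨i, j, hij, (mem_XX_vec hp (h.ta i j hij)).2 ⟨_, h1 i j hij a⟩⟩
      | one => rw [map_one]; exact one_mem _
      | mul x y _ _ hx hy => rw [map_mul]; exact mul_mem hx hy
      | inv x _ hx => rw [map_inv]; exact inv_mem hx
    · rw [Subgroup.closure_le]
      rintro y ⟨i, j, hij, hy⟩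
      obtain ⟨b, hb⟩ := (mem_XX_vec hp (h.ta i j hij)).1 hy
      refine ⟨xt i j (s i j * b), Subtype.ext ?_⟩
      rw [h1 i j hij, hb, ← mul_assoc, sgn_sq h, one_mul]
  · exact exists_fixed_rp h h1 hinj hodd hω C hQ1 (rp_w h h1 j hj)
  · exact exists_fixed_rp h h1 hinj hodd hω C hQ1 (rp_P0 h h1 hodd)
  · obtain ⟨y, hy, hy1, hy2⟩ := conj_of_rp h h1 hinj hodd hω C hQ1 hnQ hx hxw hτ
    refine ⟨?_, y, hy, hy1, ?_⟩
    · have h2 : (y * x * y⁻¹) ^ n = 1 := by rw [hy2]; exact del_pow hodd hω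
      rw [conj_pow] at h2
      calc x ^ n = y⁻¹ * (y * x ^ n * y⁻¹) * y := by group
        _ = 1 := by rw [h2]; group
    · rw [hy2]
      exact phi_del_mem hp h h1 hodd hω

end Cfsg.Agent.H629.ExcLevi
end

-- part: H629/ExcMain
section
prune_inst 0x1020350404a202000000000000000444320000900048800168200a0407800642000000212c00101210308844003000081200003040000000000004004118008000a81604a048a00080000e001004000000000000000000000000000000000000000000000
set_option linter.all false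
open scoped Cfsg.Agent.FastGrp

/-!
# Strongly closed subgroups of the exceptional groups, the torus case: the main theorem (helper629)

`Y = D.group k`, `k` algebraically closed, `τ` an automorphism acting on the torus as the power `Q`, `Γ` a finite group
of fixed points of `τ`, normalised by all fixed points and containing their commutators; `p` an odd prime, `P = p ^ a`
divides `Q - 1`.
-/

set_option autoImplicit false
set_option linter.unusedSectionVars false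

namespace Cfsg.Agent.H629.ExcMain

open CoxeterSystem Cfsg Cfsg.Lie Cfsg.Lie.ChevalleyDatum
open Cfsg.Agent.ChevalleyStructure Cfsg.Agent.ChevalleyStructure.Elts Cfsg.Agent.ChevalleyStructure.CoxeterGeom
  Cfsg.Agent.ChevalleyStructure.CoxeterGeomTypes Cfsg.Agent.ChevalleyStructure.NPerm
open Cfsg.Agent.Tits.Roots Cfsg.Agent.Tits.Core Cfsg.Agent.Nodes Cfsg.Agent.Nodes.Reps Cfsg.Agent.Nodes.BNOf
  Cfsg.Agent.Nodes.RGDChev Cfsg.Agent.Nodes.Bruhat Cfsg.Agent.Nodes.SubComb Cfsg.Agent.Nodes.Coroot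
open Cfsg.Agent.KFacts.RgdField Cfsg.Agent.KFacts.RgdChevCoord Cfsg.Agent.BpExc.TorCent Cfsg.Agent.BpExc.TorChev
open Cfsg.Agent.GpExc.Field Cfsg.Agent.BpExc.Tow Cfsg.Agent.BpExc.TowChev Cfsg.Agent.BpExc.Fr
  Cfsg.Agent.BpExc.LangFr Cfsg.Agent.LangThm Cfsg.Agent.BpExc Cfsg.Agent.H129.TorusChar
open Cfsg.Agent.H629.ExcTor Cfsg.Agent.H629.ExcLevi

universe u

variable {D : ChevalleyDatum} {l : ℕ} {M : CoxeterMatrix (Fin l)} {hp : IsType D l M} {k : Type u} [Field k]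
  {W : Type*} [Group W] {cs : CoxeterSystem M W} {hN : NSys M (TT D k) (nc hp k)} (hk : LocFin k)
  (r : ℕ) [Fact r.Prime] [CharP k r]

/-! ### counting -/

theorem count {p : ℕ} [hp' : Fact p.Prime] {G : Type*} {W : Type*} [Group G] [Finite G] [Group W] (N : Subgroup G)
    (π : ↥N →* W) (R : Subgroup W) (hR : R ≤ π.range) (hRp : IsPGroup p R) (T : Subgroup G) (hTN : T ≤ N)
    (hTk : ∀ t (ht : t ∈ T), π ⟨t, hTN ht⟩ = 1) (hTp : IsPGroup p T)
    (hcomm : ∀ x y : N, π x = 1 → π y = 1 → x * y = y * x) {K A ν m : ℕ} (hK : ∃ δ, K = p ^ δ) (hA : ∃ α, A = p ^ α)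
    (h1 : A ≤ Nat.card T * K) (h2 : p ^ ν ≤ Nat.card R) (hcard : K * Nat.card G = A * p ^ ν * m) (hm : ¬ p ∣ m) :
    ¬ p ∣ N.index ∧ ¬ p ∣ R.relIndex π.range ∧
      ∀ x : N, π x = 1 → (∃ k : ℕ, x ^ p ^ k = 1) → (x : G) ∈ T := by
  have hpp := hp'.out
  have hrfin : Finite π.range := Finite.of_surjective _ π.rangeRestrict_surjective
  have hRfin : Finite R := Finite.of_injective (Subgroup.inclusion hR) (Subgroup.inclusion_injective hR)
  obtain ⟨δ, rfl⟩ := hK
  obtain ⟨α, rfl⟩ := hA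
  obtain ⟨x, hx⟩ := IsPGroup.iff_card.1 hTp
  obtain ⟨y, hy⟩ := IsPGroup.iff_card.1 hRp
  -- the orders
  have hT1 : T.subgroupOf N ≤ π.ker := fun t ht => MonoidHom.mem_ker.2 (hTk t ht)
  have hker : π.ker ≤ R.comap π := fun t ht => by
    rw [Subgroup.mem_comap, MonoidHom.mem_ker.1 ht]; exact one_mem R
  have e1 : Nat.card (T.subgroupOf N) = Nat.card T :=
    Nat.card_congr (Subgroup.subgroupOfEquivOfLe hTN).toEquiv
  have e2 : Nat.card (T.subgroupOf N) * (T.subgroupOf N).relIndex π.ker = Nat.card π.ker := by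
    have := Subgroup.relIndex_mul_relIndex ⊥ (T.subgroupOf N) π.ker bot_le hT1
    rwa [Subgroup.relIndex_bot_left, Subgroup.relIndex_bot_left] at this
  have e3 : π.ker.relIndex (R.comap π) = Nat.card R := by
    have h3 : (⊥ : Subgroup W).comap π = π.ker := MonoidHom.comap_bot π
    rw [← h3, Subgroup.relIndex_comap, Subgroup.map_comap_eq, inf_eq_right.2 hR, Subgroup.relIndex_bot_left]
  have e4 : Nat.card π.ker * π.ker.relIndex (R.comap π) = Nat.card (R.comap π) := by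
    have := Subgroup.relIndex_mul_relIndex ⊥ π.ker (R.comap π) bot_le hker
    rwa [Subgroup.relIndex_bot_left, Subgroup.relIndex_bot_left] at this
  have e5 := (R.comap π).card_mul_index
  have e6 := N.card_mul_index
  have e7 : (R.comap π).index = R.relIndex π.range := Subgroup.index_comap R π
  have hy' : ν ≤ y := by
    rw [hy] at h2
    exact (Nat.pow_le_pow_iff_right hpp.one_lt).1 h2
  have hx' : α ≤ x + δ := by
    rw [hx, ← pow_add] at h1
    exact (Nat.pow_le_pow_iff_right hpp.one_lt).1 h1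
  obtain ⟨u, hu⟩ := Nat.exists_eq_add_of_le hy'
  obtain ⟨v, hv⟩ := Nat.exists_eq_add_of_le hx'
  have e8 : m = p ^ (u + v) * ((T.subgroupOf N).relIndex π.ker * (R.relIndex π.range * N.index)) := by
    rw [← e6, ← e5, ← e4, e3, ← e2, e1, e7, hx, hy, hu] at hcard
    have h3 : p ^ δ * (p ^ x * (T.subgroupOf N).relIndex π.ker * p ^ (ν + u) * R.relIndex π.range * N.index) =
        p ^ α * p ^ ν * (p ^ (u + v) * ((T.subgroupOf N).relIndex π.ker * (R.relIndex π.range * N.index))) := by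
      have h4 : p ^ δ * p ^ x * p ^ (ν + u) = p ^ α * p ^ ν * p ^ (u + v) := by
        rw [← pow_add, ← pow_add, ← pow_add, ← pow_add]
        congr 1
        omega
      calc _ = (p ^ δ * p ^ x * p ^ (ν + u)) * ((T.subgroupOf N).relIndex π.ker * (R.relIndex π.range * N.index)) := by
            ring
        _ = _ := by rw [h4]; ring
    rw [h3] at hcard
    exact (Nat.eq_of_mul_eq_mul_left (Nat.mul_pos (pow_pos hpp.pos _) (pow_pos hpp.pos _)) hcard).symm
  have hs : ¬ p ∣ (T.subgroupOf N).relIndex π.ker := fun h => hm (by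
    rw [e8]; exact Dvd.dvd.mul_left (Dvd.dvd.mul_right h _) _)
  refine ⟨fun h => hm (by rw [e8]; exact Dvd.dvd.mul_left (Dvd.dvd.mul_left (Dvd.dvd.mul_left h _) _) _),
    fun h => hm (by rw [e8]; exact Dvd.dvd.mul_left (Dvd.dvd.mul_left (Dvd.dvd.mul_right h _) _) _), ?_⟩
  rintro z hz ⟨j, hj⟩
  have hz' : z ∈ π.ker := MonoidHom.mem_ker.2 hz
  have hn : ((T.subgroupOf N).subgroupOf π.ker).Normal := by
    refine ⟨fun t ht g => ?_⟩
    have h3 : g * t = t * g := Subtype.ext (hcomm g t (MonoidHom.mem_ker.1 g.2) (MonoidHom.mem_ker.1 t.2))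
    rw [h3, mul_inv_cancel_right]
    exact ht
  have h3 := Subgroup.pow_index_mem ((T.subgroupOf N).subgroupOf π.ker) (⟨z, hz'⟩ : π.ker)
  have h4 : z ^ (T.subgroupOf N).relIndex π.ker ∈ T.subgroupOf N := h3
  have hco : Nat.Coprime ((T.subgroupOf N).relIndex π.ker) (p ^ j) :=
    Nat.Coprime.pow_right j ((hpp.coprime_iff_not_dvd.2 hs).symm)
  have h5 : z ∈ T.subgroupOf N := by
    have h6 := (Nat.isCoprime_iff_coprime.2 hco)
    obtain ⟨a, b, hab⟩ := h6
    have h7 : z = (z ^ (T.subgroupOf N).relIndex π.ker) ^ a := by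
      calc z = z ^ (a * ((T.subgroupOf N).relIndex π.ker : ℤ) + b * ((p ^ j : ℕ) : ℤ)) := by rw [hab, zpow_one]
        _ = _ := by
          rw [zpow_add, mul_comm a, zpow_mul, zpow_natCast, mul_comm b, zpow_mul z, zpow_natCast, hj, one_zpow, mul_one]
    rw [h7]
    exact zpow_mem h4 a
  exact h5

/-! ### the Weyl group -/

section Weyl

include hk r

/-- a torus element with prescribed character `x ↦ c ^ x_i` -/
theorem exists_fund [IsAlgClosed k] {d : ℕ} {B : Fin l → Fin l → ℤ} (hB : InvC D l d B) (hd : d ≠ 0) (i : Fin l)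
    {c : k} (hc : c ≠ 0) : ∃ t ∈ TT D k, ∀ x, cX hp t x = c ^ x i := by
  have hφ : IsMC (fun x : Fin l → ℤ => c ^ x i) :=
    ⟨by show c ^ (0 : Fin l → ℤ) i = 1; rw [Pi.zero_apply, zpow_zero],
      fun x y => by show c ^ (x + y) i = _; rw [Pi.add_apply, zpow_add₀ hc]⟩
  exact exists_cX hp hB hd hφ fun j => IsAlgClosed.exists_pow_nat_eq _ (Nat.pos_of_ne_zero hd)

theorem eq_zero_of_cX [IsAlgClosed k] {d : ℕ} {B : Fin l → Fin l → ℤ} (hB : InvC D l d B) (hd : d ≠ 0)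
    {y : Fin l → ℤ} (h : ∀ t ∈ TT D k, cX hp t y = 1) : y = 0 := by
  funext i
  rw [Pi.zero_apply]
  by_contra hy
  obtain ⟨N, hN⟩ : ∃ N : ℕ, N = r * (y i).natAbs + 1 := ⟨_, rfl⟩
  have hNk : (N : k) ≠ 0 := by
    rw [hN]; push_cast; rw [CharP.cast_eq_zero, zero_mul, zero_add]; exact one_ne_zero
  have : NeZero (N : k) := ⟨hNk⟩
  obtain ⟨c, hc⟩ := HasEnoughRootsOfUnity.exists_primitiveRoot k N
  obtain ⟨t, ht, h1⟩ := exists_fund (hp := hp) hk r hB hd i (hc.ne_zero (by omega))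
  have h2 := h t ht
  rw [h1, hc.zpow_eq_one_iff_dvd] at h2
  have h3 := Int.natAbs_dvd_natAbs.2 h2
  rw [Int.natAbs_natCast] at h3
  have h4 := Nat.le_of_dvd (Int.natAbs_pos.2 hy) h3
  have h5 : (y i).natAbs ≤ r * (y i).natAbs := Nat.le_mul_of_pos_left _ (Fact.out : r.Prime).pos
  omega

theorem rp_unique [IsAlgClosed k] {d : ℕ} {B : Fin l → Fin l → ℤ} (hB : InvC D l d B) (hd : d ≠ 0)
    {v w : W} {x : ↥(D.group k)} (h1 : Rp cs hN v x) (h2 : Rp cs hN w x) : v = w := by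
  have key : ∀ z, rep cs hp.isCartan v⁻¹ z = rep cs hp.isCartan w⁻¹ z := by
    intro z
    rw [← sub_eq_zero]
    refine eq_zero_of_cX (hp := hp) hk r hB hd fun t ht => ?_
    rw [(isMC_cX hp ht).sub, ← cX_conj hp cs hk r h1 ht, ← cX_conj hp cs hk r h2 ht,
      div_self ((isMC_cX hp (conj_mem hp cs hk h1 ht)).ne_zero _)]
  have h3 : v⁻¹ = w⁻¹ := rep_injective cs hp.isCartan (LinearMap.ext key)
  exact inv_injective h3

/-- an invariant subgroup is invariant under all representatives -/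
theorem conj_mem_of_winv {B : Subgroup ↥(D.group k)} (hB : WInv hp B) (hBT : B ≤ TT D k) {w : W}
    {x : ↥(D.group k)} (hx : Rp cs hN w x) {b : ↥(D.group k)} (hb : b ∈ B) : x * b * x⁻¹ ∈ B := by
  obtain ⟨ω, rfl⟩ := cs.wordProd_surjective w
  induction ω generalizing x b with
  | nil =>
    rw [wordProd_nil] at hx
    have h1 := TT_comm hp x hx.mem_of_one b (hBT hb)
    rw [h1, mul_inv_cancel_right]
    exact hb
  | cons i ω ih =>
    rw [wordProd_cons] at hx
    have hi := rp_simple cs hN i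
    have h1 : Rp cs hN (cs.wordProd ω) ((nc hp k i)⁻¹ * x) := by
      have := hi.inv.mul hx
      rwa [inv_mul_cancel_left] at this
    have h2 := ih hb h1
    have h3 := conj_simple hp cs hk r hi (hBT h2)
    have h4 : nc hp k i * ((nc hp k i)⁻¹ * x * b * ((nc hp k i)⁻¹ * x)⁻¹) * (nc hp k i)⁻¹ = x * b * x⁻¹ := by group
    rw [h4] at h3
    rw [h3]
    exact mul_mem h2 (inv_mem (hB i _ h2))

theorem conj_sign {w v : W} {x n : ↥(D.group k)} (hw : Rp cs hN w x) (hn : Rp cs hN v n)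
    (hor : (∀ z, rep cs hp.isCartan w z = rep cs hp.isCartan v z) ∨
      (∀ z, rep cs hp.isCartan w z = -rep cs hp.isCartan v z)) {b : ↥(D.group k)} (hb : b ∈ TT D k) :
    n * b * n⁻¹ = x * b * x⁻¹ ∨ n * b * n⁻¹ = (x * b * x⁻¹)⁻¹ := by
  have hxT := conj_mem hp cs hk hw hb
  have hnT := conj_mem hp cs hk hn hb
  have hinvw : ∀ (s : ℤ), s = 1 ∨ s = -1 →
      (∀ z, rep cs hp.isCartan w z = s • rep cs hp.isCartan v z) →
      ∀ z, rep cs hp.isCartan w⁻¹ z = s • rep cs hp.isCartan v⁻¹ z := by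
    intro s hs h z
    have h4 := h (rep cs hp.isCartan v⁻¹ z)
    rw [rep_apply_inv] at h4
    have h5 := congrArg (rep cs hp.isCartan w⁻¹) h4
    rw [rep_inv_apply, map_smul] at h5
    rw [h5, smul_smul]
    rcases hs with rfl | rfl <;> simp only [_root_.mul_one, _root_.one_smul, _root_.Int.reduceNeg, _root_.mul_neg, _root_.neg_neg]
  rcases hor with h4 | h4
  · left
    have h5 := hinvw 1 (Or.inl rfl) (fun z => by rw [one_smul]; exact h4 z)
    refine cX_inj hp hnT hxT fun j => ?_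
    rw [cX_conj hp cs hk r hw hb, cX_conj hp cs hk r hn hb, h5, one_smul]
  · right
    have h5 := hinvw (-1) (Or.inr rfl) (fun z => by rw [neg_one_smul]; exact h4 z)
    refine cX_inj hp hnT (inv_mem hxT) fun j => ?_
    rw [cX_inv hp hxT, cX_conj hp cs hk r hw hb, cX_conj hp cs hk r hn hb, h5, neg_one_smul,
      (isMC_cX hp hb).neg, inv_inv]

theorem winv_Hc {P : ℕ} (hP : P ≠ 0) : WInv hp (Hc hp (k := k) P) := by
  intro i b hb
  apply hc_mem_Hc
  rw [← cX_pow hp (Hc_le_TT hp hP hb), pow_of_mem_Hc hp hP hb, cX_one]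

end Weyl

/-! ### fixed representatives -/

section Fixed

variable {τ : MulAut ↥(D.group k)} {e Q : ℤ} (C : Ctx hp cs hN τ e Q) (hQ1 : Q ≠ 1)

include C hQ1

/-- **Lang's theorem for the torus.** -/
theorem exists_solve [IsAlgClosed k] {d : ℕ} {B : Fin l → Fin l → ℤ} (hB : InvC D l d B) (hd : d ≠ 0)
    {t : ↥(D.group k)} (ht : t ∈ TT D k) : ∃ s ∈ TT D k, t * τ s = s := by
  -- `s ^ (1 - Q) = t`
  have h0 : (1 - Q).natAbs ≠ 0 := by
    rw [Int.natAbs_ne_zero]
    exact sub_ne_zero.2 (Ne.symm hQ1)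
  have hroot : ∀ i, ∃ b : k, b ^ (1 - Q) = cX hp t (sr i) := by
    intro i
    obtain ⟨b, hb⟩ := IsAlgClosed.exists_pow_nat_eq (cX hp t (sr i)) (Nat.pos_of_ne_zero h0)
    rcases Int.natAbs_eq (1 - Q) with h1 | h1
    · exact ⟨b, by rw [h1, zpow_natCast, hb]⟩
    · exact ⟨b⁻¹, by rw [h1, zpow_neg, inv_zpow, inv_inv, zpow_natCast, hb]⟩
  choose b hb using hroot
  have hb0 : ∀ i, b i ≠ 0 := fun i h => (isMC_cX hp ht).ne_zero (sr i) (by
    rw [← hb, h, zero_zpow _ (sub_ne_zero.2 (Ne.symm hQ1))])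
  obtain ⟨s, hs, h1⟩ := exists_cX hp hB hd (IsMC.of_prod b hb0) fun i =>
    IsAlgClosed.exists_pow_nat_eq _ (Nat.pos_of_ne_zero hd)
  refine ⟨s, hs, cX_inj hp (mul_mem ht (C.mem s hs)) hs fun i => ?_⟩
  have h2 : cX hp s (sr i) = b i := by
    rw [h1]
    show ∏ j, b j ^ (sr i : Fin l → ℤ) j = b i
    rw [Finset.prod_eq_single i]
    · rw [sr_self, zpow_one]
    · intro j _ hj
      rw [sr_ne hj, zpow_zero]
    · intro hi
      exact absurd (Finset.mem_univ i) hi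
  rw [cX_mul hp ht (C.mem s hs), C.ch s hs, h2, ← hb i, ← zpow_add₀ (hb0 i)]
  have : 1 - Q + Q = 1 := by ring
  rw [this, zpow_one]

/-- **Fixed representatives.** -/
theorem exists_rp_fixed [IsAlgClosed k] {d : ℕ} {B : Fin l → Fin l → ℤ} (hB : InvC D l d B) (hd : d ≠ 0) (w : W) :
    ∃ x, Rp cs hN w x ∧ τ x = x := by
  obtain ⟨x, hx⟩ := exists_rp cs hN w
  obtain ⟨s, hs, h1⟩ := exists_solve C hQ1 hB hd (hx.unique (C.rp w x hx))
  refine ⟨x * s, hx.mul_mem_right hs, ?_⟩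
  rw [map_mul]
  calc τ x * τ s = x * (x⁻¹ * τ x * τ s) := by group
    _ = x * s := by rw [h1]

end Fixed

/-! ### the group of fixed points -/

/-- `Γ` is a subgroup of fixed points, normalised by all of them and containing their commutators and `d`-th powers. -/
structure FixGrp (τ : MulAut ↥(D.group k)) (Γ : Subgroup ↥(D.group k)) : Prop where
  fix : ∀ x ∈ Γ, τ x = x
  norm : ∀ y, τ y = y → ∀ x ∈ Γ, y * x * y⁻¹ ∈ Γ
  comm : ∀ y z, τ y = y → τ z = z → y * z * y⁻¹ * z⁻¹ ∈ Γ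

/-- An element of `W` represented in `Γ` by a `p`-element conjugate under the fixed points of `τ` to an element of
`Hc p`. -/
def Good (cs : CoxeterSystem M W) (hN : NSys M (TT D k) (nc hp k)) (τ : MulAut ↥(D.group k))
    (Γ : Subgroup ↥(D.group k)) (p : ℕ) (w : W) : Prop :=
  ∃ x ∈ Γ, Rp cs hN w x ∧ (∃ m : ℕ, x ^ p ^ m = 1) ∧ ∃ y, τ y = y ∧ y * x * y⁻¹ ∈ Hc hp (k := k) p

section Main

variable {τ : MulAut ↥(D.group k)} {e Q : ℤ} (C : Ctx hp cs hN τ e Q) (hQ1 : Q ≠ 1)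
  {Γ : Subgroup ↥(D.group k)} (hΓ : FixGrp τ Γ) [IsAlgClosed k] {d : ℕ} {B : Fin l → Fin l → ℤ}
  (hB : InvC D l d B) (hd : d ≠ 0)

include C hQ1 hΓ hB hd

theorem good_conj {p : ℕ} {w : W} (h : Good cs hN τ Γ p w) (v : W) : Good cs hN τ Γ p (v * w * v⁻¹) := by
  obtain ⟨x, hx, hw, ⟨m, hm⟩, y, hy, hyx⟩ := h
  obtain ⟨z, hz, hτz⟩ := exists_rp_fixed C hQ1 hB hd v
  refine ⟨z * x * z⁻¹, hΓ.norm z hτz x hx, (hz.mul hw).mul hz.inv, ⟨m, ?_⟩, y * z⁻¹, ?_, ?_⟩
  · rw [conj_pow, hm, mul_one, mul_inv_cancel]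
  · rw [map_mul, map_inv, hy, hτz]
  · have : y * z⁻¹ * (z * x * z⁻¹) * (y * z⁻¹)⁻¹ = y * x * y⁻¹ := by group
    rw [this]; exact hyx

include hk r in
/-- the coroot elements of order dividing `Q - 1` lie in `Γ` -/
theorem Hc_le_Γ {P : ℕ} (hP : P ≠ 0) (hPQ : (P : ℤ) ∣ Q - 1) : Hc hp (k := k) P ≤ Γ := by
  refine Hc_le hp fun i c hc1 => ?_
  have hc0 := ne_zero_of_pow hP hc1
  obtain ⟨t, ht, h1⟩ := exists_fund (hp := hp) hk r hB hd i hc0
  obtain ⟨x, hx, hτx⟩ := exists_rp_fixed C hQ1 hB hd (cs.simple i)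
  have hτt : τ t = t := by
    refine cX_inj hp (C.mem t ht) ht fun j => ?_
    rw [C.ch t ht, h1]
    obtain ⟨m, hm⟩ := hPQ
    have hQ : Q = 1 + P * m := by rw [← hm]; ring
    rw [hQ, zpow_add₀ (zpow_ne_zero _ hc0), zpow_one, ← zpow_mul, mul_comm]
    have e1 : c ^ ((sr j : Fin l → ℤ) i * (P * m)) = 1 := by
      rw [mul_comm, mul_assoc, zpow_mul, zpow_natCast, hc1, one_zpow]
    rw [e1, one_mul]
  have h2 := hΓ.comm x t hτx hτt
  rw [conj_simple hp cs hk r hx ht, h1, sr_self, zpow_one] at h2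
  have hm := hc_mem hp i hc0
  rw [TT_comm hp t ht _ (inv_mem hm), mul_inv_cancel_right] at h2
  have := inv_mem h2
  rwa [inv_inv] at this

/-- The data of the main theorem. -/
structure Data (cs : CoxeterSystem M W) (hN : NSys M (TT D k) (nc hp k)) (τ : MulAut ↥(D.group k)) (Q : ℤ)
    (Γ : Subgroup ↥(D.group k)) (p a ν : ℕ) : Prop where
  ha : 0 < a
  hpk : (p : k) ≠ 0
  hPQ : ((p ^ a : ℕ) : ℤ) ∣ Q - 1
  hcop : Cop D l p
  hcon : Conn D l
  /-- the order of `Γ` -/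
  hcard : ∃ K m : ℕ, (∃ δ, K = p ^ δ) ∧
    Nat.card {c : Fin l → kˣ // (∀ i, c i ^ (p ^ a) = 1) ∧ chi D l k c = 1} ≤ K ∧
    K * Nat.card ↥Γ = (p ^ a) ^ l * p ^ ν * m ∧ ¬ p ∣ m
  /-- faithfulness -/
  hfaith : ∀ w : W, (∀ i j, (p : ℤ) ∣ pairing (cartanOf D l) i (rep cs hp.isCartan w (sr j)) - cartanOf D l i j) → w = 1
  /-- the Sylow subgroup of `W` -/
  hR : ∃ R : Subgroup W, IsPGroup p R ∧ p ^ ν ≤ Nat.card R ∧ R ≤ Subgroup.closure {y | y ∈ R ∧ Good cs hN τ Γ p y}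
  /-- the fundamental reflections up to sign -/
  hrefl : ∀ i, ∃ x ∈ Γ, ∃ w, Rp cs hN w x ∧ ((∀ z, rep cs hp.isCartan w z = rep cs hp.isCartan (cs.simple i) z) ∨
    (∀ z, rep cs hp.isCartan w z = -rep cs hp.isCartan (cs.simple i) z))
  /-- a good element with generating commutators -/
  hgen : ∃ (w : W) (i j m : Fin l), Good cs hN τ Γ p w ∧ cartanOf D l i m = 0 ∧ cartanOf D l j m ≠ 0 ∧
    ∀ z, pairing (cartanOf D l) i (rep cs hp.isCartan w⁻¹ z) = pairing (cartanOf D l) j z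

set_option maxHeartbeats 1000000 in
include hk r in
/-- **The main theorem.** -/
theorem full_exc [Finite ↥Γ] {p a ν : ℕ} [hp' : Fact p.Prime] (H : Data cs hN τ Q Γ p a ν) :
    Exc.Full p ↥Γ ∧ ∃ T : Subgroup ↥Γ, IsPGroup p T ∧ ∃ x : ↥Γ, (∃ m : ℕ, x ^ p ^ m = 1) ∧
      (∀ t ∈ T, x * t * x⁻¹ ∈ T) ∧ ∃ t ∈ T, x * t ≠ t * x := by
  have hpp := hp'.out
  obtain ⟨P, hPdef⟩ : ∃ P, P = p ^ a := ⟨_, rfl⟩
  have hP0 : P ≠ 0 := by rw [hPdef]; exact pow_ne_zero _ hpp.ne_zero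
  have hPk : (P : k) ≠ 0 := by rw [hPdef]; push_cast; exact pow_ne_zero _ H.hpk
  have hPQ : (P : ℤ) ∣ Q - 1 := by rw [hPdef]; exact H.hPQ
  have hpP : p ∣ P := by rw [hPdef]; exact dvd_pow_self p H.ha.ne'
  have hHΓ : Hc hp (k := k) P ≤ Γ := Hc_le_Γ hk r C hQ1 hΓ hB hd hP0 hPQ
  have hcopP : Cop D l P := fun i j hij => by
    rw [hPdef, Nat.cast_pow]
    exact (H.hcop i j hij).pow_right
  -- the normaliser
  obtain ⟨N, hNm⟩ : ∃ N : Subgroup ↥Γ, ∀ g : ↥Γ, g ∈ N ↔ ∃ w, Rp cs hN w (g : ↥(D.group k)) :=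
    ⟨{ carrier := {g | ∃ w, Rp cs hN w (g : ↥(D.group k))}
       one_mem' := ⟨1, rp_one⟩
       mul_mem' := by
        rintro a b ⟨v, hv⟩ ⟨w, hw⟩
        exact ⟨v * w, hv.mul hw⟩
       inv_mem' := by
        rintro a ⟨v, hv⟩
        exact ⟨v⁻¹, hv.inv⟩ }, fun _ => Iff.rfl⟩
  have hNw : ∀ g : N, ∃ w, Rp cs hN w ((g : ↥Γ) : ↥(D.group k)) := fun g => (hNm _).1 g.2
  choose f hf using hNw
  have huniq : ∀ {v w : W} {x : ↥(D.group k)}, Rp cs hN v x → Rp cs hN w x → v = w :=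
    fun h1 h2 => rp_unique hk r hB hd h1 h2
  obtain ⟨π, hπ⟩ : ∃ π : ↥N →* W, ∀ g : N, Rp cs hN (π g) ((g : ↥Γ) : ↥(D.group k)) :=
    ⟨{ toFun := f
       map_one' := huniq (hf 1) rp_one
       map_mul' := fun a b => huniq (hf (a * b)) ((hf a).mul (hf b)) }, hf⟩
  have hπ' : ∀ (g : N) (w : W), Rp cs hN w ((g : ↥Γ) : ↥(D.group k)) → π g = w := fun g w h => huniq (hπ g) h
  obtain ⟨T, hTdef⟩ : ∃ T : Subgroup ↥Γ, T = (Hc hp (k := k) P).subgroupOf Γ := ⟨_, rfl⟩
  have hT : ∀ t : ↥Γ, t ∈ T ↔ (t : ↥(D.group k)) ∈ Hc hp (k := k) P := fun t => by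
    rw [hTdef]; exact Subgroup.mem_subgroupOf
  have hTT := Hc_le_TT hp (k := k) hP0
  have hTN : T ≤ N := fun t ht => (hNm _).2 ⟨1, rp_of_mem (hTT ((hT t).1 ht))⟩
  have hTn : ∀ x ∈ N, ∀ t ∈ T, x * t * x⁻¹ ∈ T := by
    intro x hx t ht
    obtain ⟨w, hw⟩ := (hNm x).1 hx
    exact (hT _).2 (conj_mem_of_winv hk r (winv_Hc (hp := hp) hk r hP0) hTT hw ((hT t).1 ht))
  have hTel : ∀ t ∈ T, t ^ p ^ a = 1 := by
    intro t ht
    have := pow_of_mem_Hc hp hP0 ((hT t).1 ht)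
    rw [hPdef] at this
    exact Subtype.ext this
  have hTp : IsPGroup p T := by
    rintro ⟨t, ht⟩
    exact ⟨a, Subtype.ext (hTel t ht)⟩
  obtain ⟨K, m, hKp, hKc, hcard, hm⟩ := H.hcard
  obtain ⟨R, hRp, hRc, hRg⟩ := H.hR
  have hGood : ∀ y, Good cs hN τ Γ p y → ∃ x : N, π x = y ∧ (∃ m : ℕ, (x : ↥Γ) ^ p ^ m = 1) ∧
      ∃ z, τ z = z ∧ z * (x : ↥Γ) * z⁻¹ ∈ Hc hp (k := k) p := by
    rintro y ⟨x, hx, hw, ⟨j, hj⟩, z, hz, hzx⟩
    exact ⟨⟨⟨x, hx⟩, (hNm ⟨x, hx⟩).2 ⟨y, hw⟩⟩, hπ' _ _ hw, ⟨j, Subtype.ext hj⟩, z, hz, hzx⟩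
  have hRr : R ≤ π.range := by
    refine hRg.trans ?_
    rw [Subgroup.closure_le]
    rintro y ⟨-, hy⟩
    obtain ⟨x, hx, -⟩ := hGood y hy
    exact ⟨x, hx⟩
  have hTcard : Nat.card T = Nat.card ↥(Hc hp (k := k) P) := by
    rw [hTdef]; exact Nat.card_congr (Subgroup.subgroupOfEquivOfLe hHΓ).toEquiv
  obtain ⟨c1, c2, c3⟩ := count N π R hRr hRp T hTN (fun t ht => hπ' _ _ (rp_of_mem (hTT ((hT t).1 ht)))) hTp
    (fun x y hx hy => by
      have h1 := hπ x
      have h2 := hπ y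
      rw [hx] at h1
      rw [hy] at h2
      exact Subtype.ext (Subtype.ext (TT_comm hp _ h1.mem_of_one _ h2.mem_of_one)))
    hKp (A := P ^ l) ⟨a * l, by rw [hPdef, pow_mul]⟩
    (by
      rw [hTcard]
      exact (card_Hc hp hPk (by rw [hPdef]; exact hKc)).2)
    hRc (by rw [hcard, hPdef]) hm
  -- invariant subgroups
  have hinv : ∀ B : Subgroup ↥Γ, B ≤ T → (∀ x ∈ N, ∀ b ∈ B, x * b * x⁻¹ ∈ B) → WInv hp (B.map Γ.subtype) := by
    rintro B hBT hBn i _ ⟨b, hb, rfl⟩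
    have hbT : (b : ↥(D.group k)) ∈ TT D k := hTT ((hT b).1 (hBT hb))
    obtain ⟨x, hx, w, hw, hor⟩ := H.hrefl i
    have hxN : (⟨x, hx⟩ : ↥Γ) ∈ N := (hNm ⟨x, hx⟩).2 ⟨w, hw⟩
    have h1 : (⟨x, hx⟩ : ↥Γ) * b * (⟨x, hx⟩ : ↥Γ)⁻¹ ∈ B := hBn ⟨x, hx⟩ hxN b hb
    obtain ⟨n, hn⟩ := exists_rp cs hN (cs.simple i)
    -- `n b n⁻¹` or its inverse
    have h3 : x * (b : ↥(D.group k)) * x⁻¹ ∈ B.map Γ.subtype := ⟨_, h1, rfl⟩
    have h2 : n * (b : ↥(D.group k)) * n⁻¹ ∈ B.map Γ.subtype := by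
      rcases conj_sign hk r hw hn hor hbT with h6 | h6
      · rw [h6]; exact h3
      · rw [h6]; exact inv_mem h3
    rw [conj_simple hp cs hk r hn hbT] at h2
    have h3 := mul_mem (inv_mem (⟨b, hb, rfl⟩ : (b : ↥(D.group k)) ∈ B.map Γ.subtype)) h2
    rw [inv_mul_cancel_left] at h3
    have := inv_mem h3
    rwa [inv_inv] at this
  have hmapT : ∀ B : Subgroup ↥Γ, B ≤ T → B.map Γ.subtype ≤ TT D k := by
    rintro B hBT _ ⟨b, hb, rfl⟩
    exact hTT ((hT b).1 (hBT hb))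
  obtain ⟨V0, hV0⟩ : ∃ V0 : Subgroup ↥Γ, V0 = (Hc hp (k := k) p).subgroupOf Γ := ⟨_, rfl⟩
  -- the elements of `E`
  obtain ⟨E, hE⟩ : ∃ E : Set ↥Γ, ∀ g : ↥Γ, g ∈ E ↔ (g ∈ N ∧ (∃ m : ℕ, g ^ p ^ m = 1) ∧
    ∃ z, τ z = z ∧ z * (g : ↥(D.group k)) * z⁻¹ ∈ Hc hp (k := k) p) := ⟨{g | _}, fun _ => Iff.rfl⟩
  have hcomm : ∀ C' : Subgroup ↥Γ, C' ≤ T → (∀ x ∈ N, ∀ b ∈ C', x * b * x⁻¹ ∈ C') →
      (∀ e ∈ E, ∀ t ∈ T, e * t * e⁻¹ * t⁻¹ ∈ C') → T ≤ C' := by
    intro C' hCT hCn hCc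
    obtain ⟨w, i, j, m', hw, him, hjm, hcor⟩ := H.hgen
    obtain ⟨x, hx1, hx2, hx3⟩ := hGood w hw
    have hxE : (x : ↥Γ) ∈ E := (hE _).2 ⟨x.2, hx2, hx3⟩
    have h1 : Hc hp (k := k) P ≤ C'.map Γ.subtype := by
      refine Hc_le_of_comm hp hP0 (hinv C' hCT hCn) hcopP H.hcon him hjm fun c hc1 => ?_
      have hc0 := ne_zero_of_pow hP0 hc1
      have hm1 := hc_mem_Hc hp hc1 i
      have h2 := hCc _ hxE ⟨hc hp i c, hHΓ hm1⟩ ((hT _).2 hm1)
      have hxw : Rp cs hN w ((x : ↥Γ) : ↥(D.group k)) := by rw [← hx1]; exact hπ x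
      have h3 : ((x : ↥Γ) : ↥(D.group k)) * hc hp i c * ((x : ↥Γ) : ↥(D.group k))⁻¹ = hc hp j c := by
        refine cX_inj hp (conj_mem hp cs hk hxw (hc_mem hp i hc0)) (hc_mem hp j hc0) fun z => ?_
        rw [cX_conj hp cs hk r hxw (hc_mem hp i hc0), cX_hc hp i hc0, cX_hc hp j hc0, hcor]
      refine ⟨_, h2, ?_⟩
      show ((x : ↥Γ) : ↥(D.group k)) * hc hp i c * ((x : ↥Γ) : ↥(D.group k))⁻¹ * (hc hp i c)⁻¹ = _
      rw [h3]
    intro t ht
    obtain ⟨c, hc1, hc2⟩ := h1 ((hT t).1 ht)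
    have : c = t := Subtype.ext hc2
    rw [← this]
    exact hc1
  have hcent : ∀ x ∈ N, (∃ m : ℕ, x ^ p ^ m = 1) → (∀ t ∈ T, x * t = t * x) → x ∈ T := by
    intro x hxN hxm hxT
    have hxw := hπ ⟨x, hxN⟩
    have hw1 : (π ⟨x, hxN⟩)⁻¹ = 1 := by
      refine H.hfaith _ fun i j => ?_
      -- a primitive `p`-th root of unity
      have : NeZero (p : k) := ⟨H.hpk⟩
      obtain ⟨ω, hω⟩ := HasEnoughRootsOfUnity.exists_primitiveRoot k p
      have hω0 := hω.ne_zero hpp.ne_zero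
      have hωP : ω ^ P = 1 := by
        obtain ⟨q, rfl⟩ := hpP
        rw [pow_mul, hω.pow_eq_one, one_pow]
      have hm1 := hc_mem_Hc hp hωP i
      have h2 := congrArg Subtype.val (hxT ⟨hc hp i ω, hHΓ hm1⟩ ((hT _).2 hm1))
      have h3 : (x : ↥(D.group k)) * hc hp i ω * (x : ↥(D.group k))⁻¹ = hc hp i ω := by
        rw [mul_inv_eq_iff_eq_mul]; exact h2
      have h4 : cX hp ((x : ↥(D.group k)) * hc hp i ω * (x : ↥(D.group k))⁻¹) (sr j) = cX hp (hc hp i ω) (sr j) := by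
        rw [h3]
      rw [cX_conj hp cs hk r hxw (hc_mem hp i hω0), cX_hc hp i hω0, cX_hc hp i hω0, pairing_sr hp] at h4
      rw [← hω.zpow_eq_one_iff_dvd, zpow_sub₀ hω0, h4, div_self (zpow_ne_zero _ hω0)]
    refine c3 ⟨x, hxN⟩ (inv_eq_one.1 hw1) ?_
    obtain ⟨j, hj⟩ := hxm
    exact ⟨j, Subtype.ext hj⟩
  refine ⟨?_, ?_⟩
  · refine Exc.full_of_torus N T V0 c1 hTN hTn hTp π c3 hcent ?_ E (fun g hg => ((hE g).1 hg).1) ?_
      (fun g hg => ((hE g).1 hg).2.1) ?_ hcomm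
      R hRp hRr c2 ?_
    · -- `hV0`
      intro B hBT hBne hBn
      have h1 : Hc hp (k := k) p ≤ B.map Γ.subtype := by
        refine Hc_le_of_ne_bot hp hpp (hinv B hBT hBn) (hmapT B hBT) H.hcop H.hcon ?_ ?_
        · rintro _ ⟨b, hb, rfl⟩
          exact ⟨a, congrArg Subtype.val (hTel b (hBT hb))⟩
        · intro h2
          exact hBne ((Subgroup.map_eq_bot_iff_of_injective _ Γ.subtype_injective).1 h2)
      intro v hv
      rw [hV0] at hv
      obtain ⟨c, hc1, hc2⟩ := h1 (Subgroup.mem_subgroupOf.1 hv)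
      have : c = v := Subtype.ext hc2
      rw [← this]
      exact hc1
    · -- `hEc`
      intro x hxN g hg
      obtain ⟨h1, ⟨j, hj⟩, z, hz, hzg⟩ := (hE g).1 hg
      refine (hE _).2 ⟨N.mul_mem (N.mul_mem hxN h1) (N.inv_mem hxN), ⟨j, ?_⟩, z * (x : ↥(D.group k))⁻¹, ?_, ?_⟩
      · rw [conj_pow, hj, mul_one, mul_inv_cancel]
      · rw [map_mul, map_inv, hz, hΓ.fix _ x.2]
      · have : z * (x : ↥(D.group k))⁻¹ * ((x * g * x⁻¹ : ↥Γ) : ↥(D.group k)) * (z * (x : ↥(D.group k))⁻¹)⁻¹ =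
            z * (g : ↥(D.group k)) * z⁻¹ := by
          rw [Subgroup.coe_mul, Subgroup.coe_mul, Subgroup.coe_inv]; group
        rw [this]; exact hzg
    · -- `hEV`
      intro g hg
      obtain ⟨-, -, z, hz, hzg⟩ := (hE g).1 hg
      have hz' : τ z⁻¹ = z⁻¹ := by rw [map_inv, hz]
      let α : ↥Γ ≃* ↥Γ :=
        { toFun := fun x => ⟨z * x * z⁻¹, hΓ.norm z hz x x.2⟩
          invFun := fun x => ⟨z⁻¹ * x * z⁻¹⁻¹, hΓ.norm z⁻¹ hz' x x.2⟩
          left_inv := fun x => by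
            apply Subtype.ext
            show z⁻¹ * (z * (x : ↥(D.group k)) * z⁻¹) * z⁻¹⁻¹ = x
            group
          right_inv := fun x => by
            apply Subtype.ext
            show z * (z⁻¹ * (x : ↥(D.group k)) * z⁻¹⁻¹) * z⁻¹ = x
            group
          map_mul' := fun x y => by
            apply Subtype.ext
            show z * ((x : ↥(D.group k)) * y) * z⁻¹ = z * x * z⁻¹ * (z * y * z⁻¹)
            group }
      exact ⟨α, by rw [hV0]; exact Subgroup.mem_subgroupOf.2 hzg⟩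
    · -- `hRg`
      refine hRg.trans (Subgroup.closure_mono ?_)
      rintro y ⟨hyR, hy⟩
      obtain ⟨x, hx1, hx2, hx3⟩ := hGood y hy
      exact ⟨hyR, x, (hE _).2 ⟨x.2, hx2, hx3⟩, hx1⟩
  · -- a nonabelian `p`-subgroup
    obtain ⟨w, -, -, -, hw, -⟩ := H.hgen
    by_contra hcon
    have h1 : T ≤ ⊥ := by
      refine hcomm ⊥ bot_le (fun x _ b hb => by rw [Subgroup.mem_bot.1 hb]; simp only [_root_.mul_one, _root_.mul_inv_cancel, _root_.OneMemClass.one_mem]) ?_
      intro e he t ht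
      obtain ⟨he1, he2, he3⟩ := (hE e).1 he
      rw [Subgroup.mem_bot, mul_inv_eq_one, mul_inv_eq_iff_eq_mul]
      by_contra h2
      exact hcon ⟨T, hTp, e, he2, fun t ht => hTn e he1 t ht, t, ht, h2⟩
    -- but `T ≠ 1`
    have : NeZero (p : k) := ⟨H.hpk⟩
    obtain ⟨ω, hω⟩ := HasEnoughRootsOfUnity.exists_primitiveRoot k p
    have hωP : ω ^ P = 1 := by
      obtain ⟨q, rfl⟩ := hpP
      rw [pow_mul, hω.pow_eq_one, one_pow]
    obtain ⟨-, i, j, m', -, -, hjm, -⟩ := H.hgen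
    have hm1 := hc_mem_Hc hp hωP j
    have h2 := h1 ((hT ⟨hc hp j ω, hHΓ hm1⟩).2 hm1)
    have h3 : hc hp j ω = 1 := congrArg Subtype.val (Subgroup.mem_bot.1 h2)
    have h4 := cX_hc hp j (hω.ne_zero hpp.ne_zero) (sr m')
    rw [h3, cX_one, pairing_sr hp, eq_comm, hω.zpow_eq_one_iff_dvd] at h4
    obtain ⟨u, v, huv⟩ := H.hcop j m' hjm
    have h5 : (p : ℤ) ∣ 1 := by
      rw [← huv]
      exact dvd_add (Dvd.dvd.mul_left h4 _) (Dvd.intro_left _ rfl)
    have h6 := Int.natAbs_dvd_natAbs.2 h5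
    rw [Int.natAbs_natCast, Int.natAbs_one] at h6
    exact hpp.one_lt.ne' (Nat.dvd_one.1 h6)

end Main

end Cfsg.Agent.H629.ExcMain
end

-- part: H629/ExcWeyl
section
set_option linter.all false
open scoped Cfsg.Agent.FastGrp

/-!
# Computations in the Weyl group with words and integer vectors (helper629)

* `Rows` : the rows of the Cartan matrix as lists;
* `rep_act` : `act` computes the action of a word;
* `word_eq`, `rep_eq_of_img`, `hgen_of` ;
* `isPGroup_insert`, `PRel`, `isPGroup_of_rel` : `p`-groups by generators and relations;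
* `card_of_orb` : lower bounds for orders by test vectors.
-/

set_option autoImplicit false
set_option linter.unusedSectionVars false

namespace Cfsg.Agent.H629.ExcWeyl

open CoxeterSystem Cfsg Cfsg.Lie Cfsg.Lie.ChevalleyDatum
open Cfsg.Agent.ChevalleyStructure Cfsg.Agent.ChevalleyStructure.CoxeterGeom
  Cfsg.Agent.ChevalleyStructure.CoxeterGeomTypes
open Cfsg.Agent.Tits.Roots Cfsg.Agent.Tits.Core Cfsg.Agent.Nodes Cfsg.Agent.Nodes.Reps
  Cfsg.Agent.Nodes.RGDChev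
open Cfsg.Agent.H129.TorusChar
open Cfsg.Agent.ChevalleyStructure.CoxeterElement (step dot unitL length_step length_unitL vec_unitL getD_subAt dot_eq mat)

/-- the vector of a list -/
abbrev lv (l : ℕ) (v : List ℤ) : Fin l → ℤ := CoxeterElement.vec l v

/-- The rows of the Cartan matrix. -/
structure Rows (D : ChevalleyDatum) (l : ℕ) (rows : List (List ℤ)) : Prop where
  len : ∀ i : Fin l, (rows.getD i []).length = l
  eq : ∀ i j : Fin l, (rows.getD i []).getD j 0 = cartanOf D l i j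

/-- The action of a word. -/
def act {l : ℕ} (rows : List (List ℤ)) (w : List (Fin l)) (v : List ℤ) : List ℤ :=
  w.foldr (fun i v => step rows i.1 v) v

/-- the images of the simple roots -/
def img {l : ℕ} (rows : List (List ℤ)) (w : List (Fin l)) : List (List ℤ) :=
  (List.range l).map fun i => act rows w (unitL l i)

theorem length_act {l : ℕ} (rows : List (List ℤ)) (w : List (Fin l)) (v : List ℤ) :
    (act rows w v).length = v.length := by
  induction w with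
  | nil => rfl
  | cons i w ih => rw [act, List.foldr_cons, length_step]; exact ih

theorem lv_inj {l : ℕ} {x y : List ℤ} (hx : x.length = l) (hy : y.length = l) (h : lv l x = lv l y) : x = y := by
  refine List.ext_getElem (by rw [hx, hy]) fun n h1 h2 => ?_
  have h3 := congrFun h ⟨n, by omega⟩
  simp only [lv, CoxeterElement.vec] at h3
  rwa [List.getD_eq_getElem _ _ h1, List.getD_eq_getElem _ _ h2] at h3

section

variable {D : ChevalleyDatum} {l : ℕ} {M : CoxeterMatrix (Fin l)} (hp : IsType D l M)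
  {W : Type*} [Group W] (cs : CoxeterSystem M W) {rows : List (List ℤ)} (hr : Rows D l rows)

include hr

theorem pairing_lv (i : Fin l) {v : List ℤ} (hv : v.length = l) :
    pairing (cartanOf D l) i (lv l v) = dot (rows.getD i []) v := by
  rw [dot_eq l _ _ (hr.len i) hv]
  unfold pairing
  exact Finset.sum_congr rfl fun j _ => by rw [hr.eq]; rfl

theorem rep_act (w : List (Fin l)) {v : List ℤ} (hv : v.length = l) :
    rep cs hp.isCartan (cs.wordProd w) (lv l v) = lv l (act rows w v) := by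
  induction w with
  | nil => rw [wordProd_nil, map_one, Module.End.one_apply]; rfl
  | cons i w ih =>
    rw [wordProd_cons, rep_mul_apply, ih, rep_simple_eq]
    have hlen : (act rows w v).length = l := by rw [length_act]; exact hv
    rw [pairing_lv hr i hlen]
    funext m
    show lv l (act rows w v) m - _ = (step rows i.1 (act rows w v)).getD m 0
    rw [step, getD_subAt _ _ _ (by rw [hlen]; exact i.2)]
    show (act rows w v).getD m 0 - _ = _
    congr 1
    rw [Pi.smul_apply, smul_eq_mul]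
    by_cases hm : m = i
    · subst hm; rw [sr_self, mul_one, if_pos rfl]
    · rw [sr_ne hm, mul_zero, if_neg (fun h => hm (Fin.ext h))]

theorem rep_sr (w : List (Fin l)) (i : Fin l) :
    rep cs hp.isCartan (cs.wordProd w) (sr i) = lv l (act rows w (unitL l i)) := by
  rw [← rep_act hp cs hr w (length_unitL l i), lv, vec_unitL]
  rfl

omit hr in
theorem img_get {w w' : List (Fin l)} (h : img rows w = img rows w') (i : Fin l) :
    act rows w (unitL l i) = act rows w' (unitL l i) := by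
  have h1 := congrArg (fun L => L.getD i []) h
  simp only [img] at h1
  rw [List.getD_eq_getElem _ _ (by simp), List.getD_eq_getElem _ _ (by simp)] at h1
  simpa using h1

omit hr in
theorem rep_ext {v w : W} (h : ∀ i, rep cs hp.isCartan v (sr i) = rep cs hp.isCartan w (sr i)) : v = w := by
  apply rep_injective cs hp.isCartan
  apply LinearMap.ext
  intro x
  rw [IsMC.eq_sum_sr x, map_sum, map_sum]
  exact Finset.sum_congr rfl fun i _ => by rw [map_smul, map_smul, h i]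

include hp in
/-- **Equality of words.** -/
theorem word_eq {w w' : List (Fin l)} (h : img rows w = img rows w') : cs.wordProd w = cs.wordProd w' := by
  refine rep_ext hp cs fun i => ?_
  rw [rep_sr hp cs hr, rep_sr hp cs hr, img_get h i]

/-- **Prescribed images.** -/
theorem rep_eq_smul {w : List (Fin l)} {g : (Fin l → ℤ) ≃+ (Fin l → ℤ)} {e : ℤ} (ρ : Fin l → Fin l)
    (hg : ∀ i, g (sr i) = sr (ρ i))
    (h : ∀ i : Fin l, act rows w (unitL l (ρ i)) = (unitL l i).map fun a => e * a) (x : Fin l → ℤ) :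
    rep cs hp.isCartan (cs.wordProd w) (g x) = e • x := by
  have key : ∀ i, rep cs hp.isCartan (cs.wordProd w) (g (sr i)) = e • (sr i : Fin l → ℤ) := by
    intro i
    rw [hg, rep_sr hp cs hr, h i]
    funext m
    show ((unitL l i).map fun a => e * a).getD m 0 = e * (sr i : Fin l → ℤ) m
    have h1 : (sr i : Fin l → ℤ) = lv l (unitL l i) := (vec_unitL l i).symm
    rw [h1]
    show _ = e * (unitL l i).getD m 0
    have h2 := List.getD_map (l := unitL l i) (f := fun a : ℤ => e * a) (n := m) (d := 0)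
    rw [mul_zero] at h2
    exact h2
  conv_lhs => rw [IsMC.eq_sum_sr x]
  conv_rhs => rw [IsMC.eq_sum_sr x]
  rw [map_sum, map_sum, Finset.smul_sum]
  refine Finset.sum_congr rfl fun i _ => ?_
  rw [map_zsmul, map_zsmul, key, smul_comm]

/-- **The pairing with a moved coroot.** -/
theorem hgen_of {w : List (Fin l)} {i j : Fin l}
    (h : ∀ t : Fin l, dot (rows.getD i []) (act rows w.reverse (unitL l t)) = (rows.getD j []).getD t 0)
    (z : Fin l → ℤ) : pairing (cartanOf D l) i (rep cs hp.isCartan (cs.wordProd w)⁻¹ z) = pairing (cartanOf D l) j z := by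
  have hsum : ∀ (i : Fin l) (f : Fin l → (Fin l → ℤ)), pairing (cartanOf D l) i (∑ t, z t • f t) =
      ∑ t, z t * pairing (cartanOf D l) i (f t) := by
    intro i f
    unfold pairing
    simp only [Finset.sum_apply, Pi.smul_apply, smul_eq_mul, Finset.mul_sum]
    rw [Finset.sum_comm]
    exact Finset.sum_congr rfl fun a _ => Finset.sum_congr rfl fun b _ => by ring
  conv_lhs => rw [IsMC.eq_sum_sr z, map_sum]
  conv_rhs => rw [IsMC.eq_sum_sr z]
  rw [Finset.sum_congr rfl (fun t _ => map_smul _ _ _), hsum, hsum]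
  refine Finset.sum_congr rfl fun t _ => ?_
  congr 1
  rw [← wordProd_reverse, rep_sr hp cs hr, pairing_lv hr i (by rw [length_act, length_unitL]), h t]
  have h1 : (sr t : Fin l → ℤ) = lv l (unitL l t) := (vec_unitL l t).symm
  rw [H129.WForm.pairing_sr, hr.eq]

end

/-! ### `p`-groups -/

section PGroup

theorem isPGroup_insert {G : Type*} [Group G] [Finite G] {p : ℕ} [Fact p.Prime] {S : Set G}
    (hS : IsPGroup p (Subgroup.closure S)) {g : G} (hg : ∃ m : ℕ, g ^ p ^ m = 1)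
    (hn : ∀ s ∈ S, g * s * g⁻¹ ∈ Subgroup.closure S) : IsPGroup p (Subgroup.closure (insert g S)) := by
  have h1 : Subgroup.closure (insert g S) = Subgroup.closure S ⊔ Subgroup.zpowers g := by
    rw [Set.insert_eq, Subgroup.closure_union, Subgroup.zpowers_eq_closure, sup_comm]
  rw [h1]
  have h2 : IsPGroup p (Subgroup.zpowers g) := by
    obtain ⟨m, hm⟩ := hg
    rintro ⟨_, j, rfl⟩
    refine ⟨m, Subtype.ext ?_⟩
    show (g ^ j) ^ p ^ m = 1
    rw [← zpow_natCast, ← zpow_mul, mul_comm, zpow_mul, zpow_natCast, hm, one_zpow]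
  have h3 : ∀ x ∈ Subgroup.closure S, g * x * g⁻¹ ∈ Subgroup.closure S := by
    intro x hx
    have h4 : Subgroup.closure S ≤ (Subgroup.closure S).comap (MulAut.conj g).toMonoidHom :=
      (Subgroup.closure_le _).2 fun s hs => hn s hs
    exact h4 hx
  have h4 : ∀ n : ℕ, ∀ x ∈ Subgroup.closure S, g ^ n * x * (g ^ n)⁻¹ ∈ Subgroup.closure S := by
    intro n
    induction n with
    | zero => intro x hx; rwa [pow_zero, one_mul, inv_one, mul_one]
    | succ n ih =>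
      intro x hx
      have h5 := h3 _ (ih x hx)
      have e : g ^ (n + 1) * x * (g ^ (n + 1))⁻¹ = g * (g ^ n * x * (g ^ n)⁻¹) * g⁻¹ := by
        rw [pow_succ']; group
      rwa [e]
  refine IsPGroup.to_sup_of_normal_left' hS h2 ?_
  rw [Subgroup.zpowers_le, Subgroup.mem_normalizer_iff]
  intro x
  refine ⟨h3 x, fun hx => ?_⟩
  have h5 := h4 (orderOf g - 1) _ hx
  have e : g ^ (orderOf g - 1) = g⁻¹ := by
    rw [eq_inv_iff_mul_eq_one, ← pow_succ, Nat.sub_add_cancel (orderOf_pos g), pow_orderOf_eq_one]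
  rw [e] at h5
  have e2 : g⁻¹ * (g * x * g⁻¹) * g⁻¹⁻¹ = x := by group
  rwa [e2] at h5

/-- The relations: the powers `p` are trivial, every word normalises the group generated by the words before it;
`π` gives the conjugates. -/
def PRel (l : ℕ) (rows : List (List ℤ)) (p : ℕ) (π : ℕ → ℕ → ℕ) : List (List (Fin l)) → Bool
  | [] => true
  | g :: gs => (img rows (List.replicate p g).flatten == img rows ([] : List (Fin l))) &&
      (List.range gs.length).all (fun i => decide (π gs.length i < gs.length) &&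
        (img rows (g ++ gs.getD i []) == img rows (gs.getD (π gs.length i) [] ++ g))) && PRel l rows p π gs

variable {D : ChevalleyDatum} {l : ℕ} {M : CoxeterMatrix (Fin l)} (hp : IsType D l M)
  {W : Type*} [Group W] [Finite W] (cs : CoxeterSystem M W) {rows : List (List ℤ)} (hr : Rows D l rows)

include hp hr

omit [Finite W] in
theorem prod_replicate (p : ℕ) (g : List (Fin l)) : cs.wordProd (List.replicate p g).flatten = cs.wordProd g ^ p := by
  induction p with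
  | zero => rw [pow_zero]; exact wordProd_nil cs
  | succ p ih => rw [List.replicate_succ, List.flatten_cons, wordProd_append, ih, pow_succ']

/-- **A `p`-group from the relations.** -/
theorem isPGroup_of_rel {p : ℕ} [Fact p.Prime] {π : ℕ → ℕ → ℕ} {gs : List (List (Fin l))}
    (h : PRel l rows p π gs = true) : IsPGroup p (Subgroup.closure {w | ∃ g ∈ gs, w = cs.wordProd g}) := by
  induction gs with
  | nil =>
    have : {w : W | ∃ g ∈ ([] : List (List (Fin l))), w = cs.wordProd g} = ∅ := by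
      ext w; simp
    rw [this, Subgroup.closure_empty]
    exact IsPGroup.of_bot
  | cons g gs ih =>
    rw [PRel, Bool.and_eq_true, Bool.and_eq_true, beq_iff_eq, List.all_eq_true] at h
    obtain ⟨⟨h1, h2⟩, h3⟩ := h
    have h4 : {w : W | ∃ g' ∈ g :: gs, w = cs.wordProd g'} = insert (cs.wordProd g) {w | ∃ g ∈ gs, w = cs.wordProd g} := by
      ext w
      simp
    rw [h4]
    refine isPGroup_insert (ih h3) ⟨1, ?_⟩ ?_
    · rw [pow_one, ← prod_replicate hp cs hr, word_eq hp cs hr h1, wordProd_nil]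
    · rintro _ ⟨g', hg', rfl⟩
      obtain ⟨i, hi, rfl⟩ := List.getElem_of_mem hg'
      have h5 := h2 i (List.mem_range.2 hi)
      rw [Bool.and_eq_true, decide_eq_true_eq, beq_iff_eq] at h5
      obtain ⟨h6, h7⟩ := h5
      have h8 := word_eq hp cs hr h7
      rw [wordProd_append, wordProd_append, List.getD_eq_getElem _ _ hi, List.getD_eq_getElem _ _ h6] at h8
      rw [h8, mul_inv_cancel_right]
      exact Subgroup.subset_closure ⟨_, List.getElem_mem _, rfl⟩

/-! ### orders -/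

omit hp hr [Finite W] in
/-- the iterates of a word on a vector -/
def its {l : ℕ} (rows : List (List ℤ)) (g : List (Fin l)) : ℕ → List ℤ → List (List ℤ)
  | 0, _ => []
  | n + 1, v => v :: its rows g n (act rows g v)

omit hp hr [Finite W] in
/-- the images of the vectors under the products of powers -/
def orb {l : ℕ} (rows : List (List ℤ)) (p : ℕ) : List (List (Fin l)) → List (List ℤ) → List (List ℤ)
  | [], V => V
  | g :: gs, V => (orb rows p gs V).flatMap (its rows g p)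

theorem mem_its {g : List (Fin l)} {n : ℕ} {v x : List ℤ} (h : x ∈ its rows g n v) (hv : v.length = l) :
    x.length = l ∧ ∃ j : ℕ, lv l x = rep cs hp.isCartan (cs.wordProd g ^ j) (lv l v) := by
  induction n generalizing v with
  | zero => simp [its] at h
  | succ n ih =>
    rw [its, List.mem_cons] at h
    rcases h with rfl | h
    · exact ⟨hv, 0, by rw [pow_zero, map_one, Module.End.one_apply]⟩
    · obtain ⟨h1, j, h2⟩ := ih h (by rw [length_act]; exact hv)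
      exact ⟨h1, j + 1, by rw [h2, pow_succ, rep_mul_apply, rep_act hp cs hr g hv]⟩

theorem mem_orb {p : ℕ} {gs : List (List (Fin l))} {v x : List ℤ} (h : x ∈ orb rows p gs [v]) (hv : v.length = l)
    {R : Subgroup W} (hR : ∀ g ∈ gs, cs.wordProd g ∈ R) :
    x.length = l ∧ ∃ w ∈ R, lv l x = rep cs hp.isCartan w (lv l v) := by
  induction gs generalizing x with
  | nil =>
    rw [orb, List.mem_singleton] at h
    subst h
    exact ⟨hv, 1, one_mem _, by rw [map_one, Module.End.one_apply]⟩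
  | cons g gs ih =>
    rw [orb, List.mem_flatMap] at h
    obtain ⟨y, hy, hx⟩ := h
    obtain ⟨h1, w, hw, h2⟩ := ih hy fun g' hg' => hR g' (List.mem_cons_of_mem _ hg')
    obtain ⟨h3, j, h4⟩ := mem_its hp cs hr hx h1
    exact ⟨h3, cs.wordProd g ^ j * w, mul_mem (pow_mem (hR g List.mem_cons_self) j) hw, by
      rw [h4, h2, rep_mul_apply]⟩

/-- **A lower bound for the order.** -/
theorem card_of_orb {p : ℕ} {gs : List (List (Fin l))} {v : List ℤ} (hv : v.length = l)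
    (h : (orb rows p gs [v]).Nodup) {N : ℕ} (hN : (orb rows p gs [v]).length = N)
    {R : Subgroup W} (hR : ∀ g ∈ gs, cs.wordProd g ∈ R) : N ≤ Nat.card R := by
  subst hN
  have h1 : ∀ i : Fin (orb rows p gs [v]).length, ∃ w : R, lv l ((orb rows p gs [v])[(i : ℕ)]) =
      rep cs hp.isCartan (w : W) (lv l v) := fun i => by
    obtain ⟨-, w, hw, e⟩ := mem_orb hp cs hr (List.getElem_mem i.2) hv hR
    exact ⟨⟨w, hw⟩, e⟩
  choose f hf using h1
  have hinj : Function.Injective f := by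
    intro i j hij
    have h2 := hf i
    rw [hij, ← hf j] at h2
    have hi := (mem_orb hp cs hr (List.getElem_mem i.2) hv hR).1
    have hj := (mem_orb hp cs hr (List.getElem_mem j.2) hv hR).1
    have h3 := lv_inj hi hj h2
    exact Fin.ext ((List.Nodup.getElem_inj_iff h).1 h3)
  have h2 := Nat.card_le_card_of_injective f hinj
  rwa [Nat.card_fin] at h2

end PGroup

end Cfsg.Agent.H629.ExcWeyl

private theorem dce_a642743f510e : _root_.True := by
  try have : _root_.True := by simp only [_root_.Cfsg.Agent.H629.ExcWeyl.orb.eq_2]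
  try have : _root_.True := by simp only [_root_.Cfsg.Agent.H629.ExcWeyl.orb.eq_def]
  try have : _root_.True := by simp only [_root_.Cfsg.Agent.H629.ExcWeyl.lv.eq_1]
  try have : _root_.True := by simp only [_root_.Cfsg.Agent.H629.ExcWeyl.its.eq_def]
  try have : _root_.True := by simp only [_root_.Cfsg.Agent.H629.ExcWeyl.PRel.eq_2]
  try have : _root_.True := by simp only [_root_.Cfsg.Agent.H629.ExcWeyl.PRel.eq_def]
  try have : _root_.True := by simp only [_root_.Cfsg.Agent.H629.ExcWeyl.PRel.eq_1]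
  try have : _root_.True := by simp only [_root_.Cfsg.Agent.H629.ExcWeyl.act.eq_1]
  try have : _root_.True := by simp only [_root_.Cfsg.Agent.H629.ExcWeyl.its.eq_2]
  try have : _root_.True := by simp only [_root_.Cfsg.Agent.H629.ExcWeyl.img.eq_1]
  try have : _root_.True := by simp only [_root_.Cfsg.Agent.H629.ExcWeyl.its.eq_1]
  try have : _root_.True := by simp only [_root_.Cfsg.Agent.H629.ExcWeyl.orb.eq_1]
  exact _root_.True.intro
end

-- part: H629/ExcFullP_mg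
section

end

-- part: H790/TwLevi
section
prune_inst 0x10307504042202000018000020000644360001900048800049600b4403400a42000080212ca01012101000440030000813000000422000000a000400411d008010880406b048000080000e000004000000000000000000000000000000000000000000000
set_option linter.all false
open scoped Cfsg.Agent.FastGrp

/-!
# Levi subgroups of type `A_{n-1}` and a twisted Frobenius (helper790)

`τ` a frame automorphism of Frobenius type of `D.group k` with lattice automorphism `θ`, `θ = ± 1` on the roots and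
coroots of the Levi subgroup of a table `LTab`.

* `exists_x0` : a `τ`-fixed element `x0` of order `n` over the Coxeter element of the Levi subgroup, conjugate by a
  `τ`-fixed element to the torus element `φ (del ω)`.
-/

set_option autoImplicit false
set_option linter.unusedSectionVars false

namespace Cfsg.Agent.H790.TwLevi

open CoxeterSystem Cfsg Cfsg.Lie Cfsg.Lie.ChevalleyDatum
open Cfsg.Agent.ChevalleyStructure Cfsg.Agent.ChevalleyStructure.Elts Cfsg.Agent.ChevalleyStructure.CoxeterGeom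
  Cfsg.Agent.ChevalleyStructure.CoxeterGeomTypes Cfsg.Agent.ChevalleyStructure.NPerm
open Cfsg.Agent.Tits.Roots Cfsg.Agent.Tits.Core Cfsg.Agent.Nodes Cfsg.Agent.Nodes.Reps Cfsg.Agent.Nodes.BNOf
  Cfsg.Agent.Nodes.RGDChev Cfsg.Agent.Nodes.Bruhat Cfsg.Agent.Nodes.SubComb Cfsg.Agent.Nodes.Coroot
open Cfsg.Agent.KFacts.RgdField Cfsg.Agent.KFacts.RgdChevCoord Cfsg.Agent.BpExc.TorCent Cfsg.Agent.BpExc.TorChev
open Cfsg.Agent.GpExc.Field Cfsg.Agent.BpExc.Tow Cfsg.Agent.BpExc.TowChev Cfsg.Agent.BpExc.Fr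
  Cfsg.Agent.BpExc.LangFr Cfsg.Agent.LangThm Cfsg.Agent.BpExc Cfsg.Agent.H129.TorusChar
open Cfsg.Agent.AGraded Cfsg.Agent.CTFrame Cfsg.Agent.TitsThree.KExcRT Cfsg.Agent.H629.ExcSL Cfsg.Agent.H629.ExcTor
  Cfsg.Agent.H629.ExcLevi

universe u

/-- a homomorphism commuting with the power of `DD` -/
theorem exists_DD_tau {Y : Type*} [Group Y] {n : ℕ} [NeZero n] {k : Type u} [Field k] [IsAlgClosed k] (hodd : Odd n)
    {ω : k} (hω : IsPrimitiveRoot ω n) {φ : Matrix.SpecialLinearGroup (Fin n) k →* Y} (hφ : Function.Injective φ)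
    {τ : MulAut Y} (hr : ∀ y ∈ φ.range, τ y ∈ φ.range) {Q : ℤ} (hQ : ∀ s ∈ DD n k, τ (φ s) = φ s ^ Q) (hQ0 : Q ≠ 0) :
    ∃ d ∈ DD n k, τ (φ (P0 k hodd)) = φ (P0 k hodd) * φ d := by
  obtain ⟨B, hB, hBe⟩ := exists_root (del_mem hodd hω) hQ0
  -- `P0 B P0⁻¹` is diagonal
  have hBd : P0 k hodd * B * (P0 k hodd)⁻¹ ∈ DD n k := by
    obtain ⟨t, ht⟩ := hB
    have hprod := prod_eq_one ht
    have hp1 : ∏ i : Fin n, t (i - 1) = 1 := by
      rw [← hprod]
      exact (Equiv.subRight (1 : Fin n)).prod_comp (fun i => t i)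
    have h1 : P0 k hodd * B = dg (fun i => t (i - 1)) hp1 * P0 k hodd := by
      apply Subtype.ext
      show PM n k * B.1 = Matrix.diagonal (fun i => t (i - 1)) * PM n k
      rw [ht]
      ext i j
      rw [Matrix.mul_diagonal, Matrix.diagonal_mul]
      unfold PM
      split_ifs with h
      · subst h
        rw [add_sub_cancel_right]; ring
      · ring
    rw [h1, mul_inv_cancel_right]
    exact dg_mem _ _
  obtain ⟨d, hd, e⟩ := exists_DD_of_comm hodd hω hφ (y := (φ (P0 k hodd))⁻¹ * τ (φ (P0 k hodd)))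
    (mul_mem (inv_mem ⟨_, rfl⟩) (hr _ ⟨_, rfl⟩)) (by
      -- `τ(φ P0) φ(del) τ(φ P0)⁻¹ = τ (φ P0 φ B (φ P0)⁻¹) = (φ (P0 B P0⁻¹)) ^ Q = φ P0 φ(del) (φ P0)⁻¹`
      have h1 : τ (φ (P0 k hodd)) * φ (del hodd hω) * (τ (φ (P0 k hodd)))⁻¹ =
          φ (P0 k hodd) * φ (del hodd hω) * (φ (P0 k hodd))⁻¹ := by
        have h2 : φ (del hodd hω) = τ (φ B) := by rw [hQ B hB, ← map_zpow, hBe]
        have h3 : τ (φ (P0 k hodd)) * τ (φ B) * (τ (φ (P0 k hodd)))⁻¹ = τ (φ (P0 k hodd * B * (P0 k hodd)⁻¹)) := by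
          simp only [map_mul, map_inv]
        rw [h2, h3, hQ _ hBd, hQ B hB, ← map_zpow, conj_zpow, map_mul, map_mul, map_inv, map_zpow]
      calc (φ (P0 k hodd))⁻¹ * τ (φ (P0 k hodd)) * φ (del hodd hω)
          = (φ (P0 k hodd))⁻¹ * (τ (φ (P0 k hodd)) * φ (del hodd hω) * (τ (φ (P0 k hodd)))⁻¹) *
            τ (φ (P0 k hodd)) := by group
        _ = (φ (P0 k hodd))⁻¹ * (φ (P0 k hodd) * φ (del hodd hω) * (φ (P0 k hodd))⁻¹) *
            τ (φ (P0 k hodd)) := by rw [h1]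
        _ = _ := by group)
  exact ⟨d, hd, by rw [← e]; group⟩

section

variable {D : ChevalleyDatum} {l : ℕ} {M : CoxeterMatrix (Fin l)} {hp : IsType D l M} {k : Type u} [Field k]
  {W : Type*} [Group W] {cs : CoxeterSystem M W} {hN : NSys M (TT D k) (nc hp k)}
  {n : ℕ} {rt : Fin n → Fin n → ℕ} {s : Fin n → Fin n → ℤ} {c : ℕ → Fin l} (h : LTab D n l rt s c)

/-- the twisted Frobenius with respect to a table -/
structure LFr (cs : CoxeterSystem M W) (hp : IsType D l M) (n : ℕ) (rt : Fin n → Fin n → ℕ) (c : ℕ → Fin l) (r e : ℕ)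
    [Fact r.Prime] [CharP k r] (τ : MulAut ↥(D.group k)) (θ : (Fin l → ℤ) ≃+ (Fin l → ℤ)) (sg : ℤ) : Prop where
  frob : IsFrob r e τ
  fr : Fr cs hp.isCartan (TT D k) (XX D l k) τ θ
  pair : ∀ j, j + 1 < n → ∀ x, pairing (cartanOf D l) (c j) (θ x) = sg * pairing (cartanOf D l) (c j) x
  root : ∀ i j : Fin n, i ≠ j → θ (vec D l (rt i j)) = sg • vec D l (rt i j)
  sgn : sg = 1 ∨ sg = -1

variable {r e : ℕ} [Fact r.Prime] [CharP k r] {τ : MulAut ↥(D.group k)} {θ : (Fin l → ℤ) ≃+ (Fin l → ℤ)} {sg : ℤ}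
  (L : LFr (k := k) cs hp n rt c r e τ θ sg)

include L in
theorem tau_hc [IsAlgClosed k] {j : ℕ} (hj : j + 1 < n) {u : k} (hu : u ≠ 0) :
    τ (hc hp (c j) u) = hc hp (c j) u ^ (sg * (r ^ e : ℕ)) := by
  have h1 := hc_mem hp (c j) hu
  have h2 := (L.fr.tor _).2 h1
  refine cX_inj hp h2 (zpow_mem h1 _) fun i => ?_
  obtain ⟨x, hx⟩ := θ.surjective (sr i)
  rw [← hx, cX_sigma hp cs L.frob L.fr h1, cX_zpow hp h1, cX_hc hp _ hu, cX_hc hp _ hu, L.pair j hj, ← zpow_natCast,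
    ← zpow_mul, ← zpow_mul]
  congr 1
  have h3 : sg * sg = 1 := by rcases L.sgn with h | h <;> rw [h] <;> norm_num
  calc pairing (cartanOf D l) (c j) x * ((r ^ e : ℕ) : ℤ) =
      (sg * sg) * (pairing (cartanOf D l) (c j) x * ((r ^ e : ℕ) : ℤ)) := by rw [h3, one_mul]
    _ = _ := by ring

include h

variable {φ : Matrix.SpecialLinearGroup (Fin n) k →* ↥(D.group k)}
  (h1 : ∀ (i j : Fin n), i ≠ j → ∀ a, ((φ (xt i j a) : ↥(D.group k)) : GL D.Idx k) = xG hp.inList (rt i j) (s i j * a))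

include h1

include L in
theorem tau_DD [IsAlgClosed k] [NeZero n] {A : Matrix.SpecialLinearGroup (Fin n) k} (hA : A ∈ DD n k) :
    τ (φ A) = φ A ^ (sg * (r ^ e : ℕ)) := by
  obtain ⟨f, hf, -, h3⟩ := phi_DD hp h h1 hA
  have hn := NeZero.pos n
  rw [h3]
  have key : ∀ N, N ≤ n - 1 → τ ((List.range N).map fun j => hc hp (c j) (∏ i ∈ Finset.range (j + 1), f i)).prod =
      ((List.range N).map fun j => hc hp (c j) (∏ i ∈ Finset.range (j + 1), f i)).prod ^ (sg * (r ^ e : ℕ)) := by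
    intro N
    induction N with
    | zero => intro _; simp
    | succ N ih =>
      intro hN
      have hne : ∏ i ∈ Finset.range (N + 1), f i ≠ 0 := Finset.prod_ne_zero_iff.2 fun i _ => hf i
      rw [List.range_succ, List.map_append, List.prod_append, List.map_cons, List.map_nil, List.prod_singleton, map_mul,
        ih (by omega), tau_hc L (by omega) hne]
      have hL : ((List.range N).map fun j => hc hp (c j) (∏ i ∈ Finset.range (j + 1), f i)).prod ∈ TT D k := by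
        refine Subgroup.list_prod_mem _ fun x hx => ?_
        rw [List.mem_map] at hx
        obtain ⟨j, -, rfl⟩ := hx
        exact hc_mem hp _ (Finset.prod_ne_zero_iff.2 fun i _ => hf i)
      have hc' : Commute ((List.range N).map fun j => hc hp (c j) (∏ i ∈ Finset.range (j + 1), f i)).prod
          (hc hp (c N) (∏ i ∈ Finset.range (N + 1), f i)) := TT_comm hp _ hL _ (hc_mem hp _ hne)
      rw [hc'.mul_zpow]
  exact key _ le_rfl

include L in
theorem range_tau' : ∀ y ∈ φ.range, τ y ∈ φ.range := by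
  rintro _ ⟨x, rfl⟩
  have hx : x ∈ Subgroup.closure (Cfsg.Agent.LieClassical.SLGen.transvections (Fin n) k) := by
    rw [Cfsg.Agent.LieClassical.SLGen.closure_transvections]; exact Subgroup.mem_top x
  induction hx using Subgroup.closure_induction with
  | mem x hx =>
    obtain ⟨i, j, hij, a, rfl⟩ := hx
    rw [← xt_eq hij]
    have hr := h.ta i j hij
    have h2 : φ (xt i j a) ∈ XX D l k (vec D l (rt i j)) := (mem_XX_vec hp hr).2 ⟨_, h1 i j hij a⟩
    have h3 := (L.fr.map _ (isRoot_vec hp cs hr) _).2 h2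
    rw [L.root i j hij] at h3
    have key : ∀ (i j : Fin n) (hij : i ≠ j) (y : ↥(D.group k)), y ∈ XX D l k (vec D l (rt i j)) → y ∈ φ.range := by
      intro i j hij y hy
      obtain ⟨b, hb⟩ := (mem_XX_vec hp (h.ta i j hij)).1 hy
      refine ⟨xt i j (s i j * b), Subtype.ext ?_⟩
      rw [h1 i j hij, hb, ← mul_assoc, sgn_sq h, one_mul]
    rcases L.sgn with e' | e'
    · rw [e', one_smul] at h3
      exact key i j hij _ h3
    · rw [e', neg_one_smul, ← vec_neg hp hr, ← (h.te i j hij).1] at h3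
      exact key j i hij.symm _ h3
  | one => rw [map_one, map_one]; exact one_mem _
  | mul x y _ _ hx hy => rw [map_mul, map_mul]; exact mul_mem hx hy
  | inv x _ hx => rw [map_inv, map_inv]; exact inv_mem hx

/-- the characters of `φ (del ω)` -/
theorem cX_del [NeZero n] (hodd : Odd n) {ω : k} (hω : IsPrimitiveRoot ω n) :
    φ (del hodd hω) ∈ TT D k ∧ ∀ x, cX hp (φ (del hodd hω)) x =
      ω ^ (∑ j ∈ Finset.range (n - 1), ((∑ i ∈ Finset.range (j + 1), i : ℕ) : ℤ) * pairing (cartanOf D l) (c j) x) := by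
  refine ⟨phi_DD_mem hp h h1 (del_mem hodd hω), fun x => ?_⟩
  obtain ⟨f, hf, h2, h3⟩ := phi_DD hp h h1 (del_mem hodd hω)
  have hn := NeZero.pos n
  have hω0 := hω.ne_zero hn.ne'
  have hfω : ∀ i < n, f i = ω ^ i := by
    intro i hi
    have h4 := h2 ⟨i, hi⟩
    have h5 : (del hodd hω).1 (⟨i, hi⟩ : Fin n) ⟨i, hi⟩ = ω ^ i := by
      show Matrix.diagonal _ _ _ = _
      rw [Matrix.diagonal_apply_eq]
    rw [h5] at h4
    exact h4.symm
  have h6 := (cX_list hp ((List.range (n - 1)).map fun j => (c j, ∏ i ∈ Finset.range (j + 1), f i)) (by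
    intro x hx
    rw [List.mem_map] at hx
    obtain ⟨j, -, rfl⟩ := hx
    show ∏ i ∈ Finset.range (j + 1), f i ≠ 0
    exact Finset.prod_ne_zero_iff.2 fun i _ => hf i) x).2
  rw [List.map_map, List.map_map] at h6
  have h7 : φ (del hodd hω) = ((List.range (n - 1)).map ((fun y : Fin l × k => hc hp y.1 y.2) ∘ fun j =>
      (c j, ∏ i ∈ Finset.range (j + 1), f i))).prod := h3
  rw [← h7] at h6
  rw [h6]
  have h8 : ∀ N, N ≤ n - 1 → ((List.range N).map ((fun y : Fin l × k => y.2 ^ pairing (cartanOf D l) y.1 x) ∘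
      fun j => (c j, ∏ i ∈ Finset.range (j + 1), f i))).prod =
      ω ^ (∑ j ∈ Finset.range N, ((∑ i ∈ Finset.range (j + 1), i : ℕ) : ℤ) * pairing (cartanOf D l) (c j) x) := by
    intro N
    induction N with
    | zero => intro _; simp
    | succ N ih =>
      intro hN
      rw [List.range_succ, List.map_append, List.prod_append, ih (by omega), Finset.sum_range_succ, zpow_add₀ hω0]
      congr 1
      rw [List.map_cons, List.map_nil, List.prod_singleton, Function.comp_apply]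
      show (∏ i ∈ Finset.range (N + 1), f i) ^ pairing (cartanOf D l) (c N) x = _
      rw [Finset.prod_congr rfl (g := fun i => ω ^ i) fun i hi => hfω i (by
        rw [Finset.mem_range] at hi; omega), Finset.prod_pow_eq_pow_sum, ← zpow_natCast, ← zpow_mul]
  exact h8 _ le_rfl

end

/-- **The element `x0`.** -/
theorem exists_x0 {D : ChevalleyDatum} {l : ℕ} {M : CoxeterMatrix (Fin l)} {hp : IsType D l M} {k : Type u} [Field k]
    [IsAlgClosed k] {W : Type*} [Group W] {cs : CoxeterSystem M W} {hN : NSys M (TT D k) (nc hp k)}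
    {n : ℕ} {rt : Fin n → Fin n → ℕ} {s : Fin n → Fin n → ℤ} {c : ℕ → Fin l} (h : LTab D n l rt s c)
    (hn : 3 ≤ n) (hodd : Odd n) {m : Fin l}
    (hm : IsCoprime (∑ j ∈ Finset.range (n - 1), ((j : ℤ) + 1) * cartanOf D l (c j) m) (n : ℤ))
    {r e : ℕ} [Fact r.Prime] [CharP k r] {τ : MulAut ↥(D.group k)} {θ : (Fin l → ℤ) ≃+ (Fin l → ℤ)} {sg : ℤ}
    (L : LFr (k := k) cs hp n rt c r e τ θ sg) (hQ1 : sg * ((r ^ e : ℕ) : ℤ) ≠ 1)
    (hnQ : (n : ℤ) ∣ sg * ((r ^ e : ℕ) : ℤ) - 1) {ω : k} (hω : IsPrimitiveRoot ω n) :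
    ∃ x0 y t0 : ↥(D.group k), Rp cs hN (cw cs c (n - 1)) x0 ∧ τ x0 = x0 ∧ x0 ^ n = 1 ∧ τ y = y ∧
      y * x0 * y⁻¹ = t0 ∧ t0 ∈ TT D k ∧ t0 ^ n = 1 ∧ ∀ x, cX hp t0 x =
      ω ^ (∑ j ∈ Finset.range (n - 1), ((∑ i ∈ Finset.range (j + 1), i : ℕ) : ℤ) *
        pairing (cartanOf D l) (c j) x) := by
  have : NeZero n := ⟨by omega⟩
  obtain ⟨φ, h1, hker⟩ := exists_phi (k := k) hp h hn
  have hinj := phi_inj hp h h1 hker hm
  have hr := range_tau' h L h1
  have hQ : ∀ A ∈ DD n k, τ (φ A) = φ A ^ (sg * ((r ^ e : ℕ) : ℤ)) := fun A hA => tau_DD h L h1 hA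
  have hQ0 : sg * ((r ^ e : ℕ) : ℤ) ≠ 0 := by
    have h2 : ((r ^ e : ℕ) : ℤ) ≠ 0 := by
      have := pow_pos (Fact.out : r.Prime).pos e
      exact_mod_cast this.ne'
    rcases L.sgn with h | h <;> rw [h] <;> simpa using h2
  obtain ⟨d, hd, e1⟩ := exists_DD_tau hodd hω hinj hr hQ hQ0
  obtain ⟨s', hs', e2⟩ := exists_fixed hQ hQ1 hd e1
  obtain ⟨y, hy, hy1, hy2⟩ := exists_conj hodd hω hinj hr hQ hQ1 hnQ hs' e2
  have hdn : φ (del hodd hω) ^ n = 1 := del_pow hodd hω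
  have hX := cX_del (hp := hp) h h1 hodd hω
  refine ⟨φ (P0 k hodd * s'), y, φ (del hodd hω), ?_, e2, ?_, hy1, hy2, hX.1, hdn, hX.2⟩
  · rw [map_mul]
    exact (rp_P0 (cs := cs) (hN := hN) h h1 hodd).mul_mem_right (phi_DD_mem hp h h1 hs')
  · have h2 : (y * φ (P0 k hodd * s') * y⁻¹) ^ n = 1 := by rw [hy2]; exact hdn
    rw [conj_pow] at h2
    calc φ (P0 k hodd * s') ^ n = y⁻¹ * (y * φ (P0 k hodd * s') ^ n * y⁻¹) * y := by group
      _ = 1 := by rw [h2]; group

end Cfsg.Agent.H790.TwLevi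
end

-- part: H790/TwFix
section
set_option linter.all false
open scoped Cfsg.Agent.FastGrp

/-!
# Fixed points of twisted Frobenius automorphisms (helper790)

* `iso_of` : the fixed points of `conj n * σ`, `n = z⁻¹ σ z`, are isomorphic to the fixed points of `σ`;
* `tor_fix`, `exists_tor_exp` : torus elements fixed by `τ`;
* `wconj` : torus elements conjugate in `D.group k` are conjugate under the Weyl group.
-/

set_option autoImplicit false
set_option linter.unusedSectionVars false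

namespace Cfsg.Agent.H790.TwFix

open CoxeterSystem Cfsg Cfsg.Lie Cfsg.Lie.ChevalleyDatum
open Cfsg.Agent.ChevalleyStructure Cfsg.Agent.ChevalleyStructure.Elts Cfsg.Agent.ChevalleyStructure.CoxeterGeom
  Cfsg.Agent.ChevalleyStructure.CoxeterGeomTypes Cfsg.Agent.ChevalleyStructure.NPerm
open Cfsg.Agent.Tits.Roots Cfsg.Agent.Tits.Core Cfsg.Agent.Nodes Cfsg.Agent.Nodes.Reps Cfsg.Agent.Nodes.BNOf
  Cfsg.Agent.Nodes.RGDChev Cfsg.Agent.Nodes.Bruhat
open Cfsg.Agent.KFacts.RgdField Cfsg.Agent.KFacts.RgdChevCoord Cfsg.Agent.BpExc.TorCent Cfsg.Agent.BpExc.TorChev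
open Cfsg.Agent.GpExc.Field Cfsg.Agent.BpExc.Tow Cfsg.Agent.BpExc.TowChev Cfsg.Agent.BpExc.Fr
  Cfsg.Agent.BpExc.LangFr Cfsg.Agent.H129.TorusChar Cfsg.Agent.H129.TorusMain Cfsg.Agent.H123.ExcZ
open Cfsg.Agent.BpExc Cfsg.Agent.H795.LangT Cfsg.Agent.H795.Core Cfsg.Agent.H129.WData
  Cfsg.Agent.H795.NotAbT Cfsg.Agent.H795.NotAbCert

universe u v

/-- the fixed points of `conj n * σ` -/
theorem iso_of {Y : Type u} {G : Type v} [Group Y] [Group G] {f : G →* Y} (hf : Function.Injective f) {σ : MulAut Y}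
    (hfix : ∀ x, σ (f x) = f x) (hsurj : ∀ y, σ y = y → ∃ x, f x = y) {n z : Y} (hz : n = z⁻¹ * σ z) :
    Nonempty (G ≃* ↥(fixS (MulAut.conj n * σ))) := by
  have hσz : σ z = z * n := by rw [hz]; group
  have hmem : ∀ x, z⁻¹ * f x * z ∈ fixS (MulAut.conj n * σ) := by
    intro x
    show n * σ (z⁻¹ * f x * z) * n⁻¹ = z⁻¹ * f x * z
    rw [map_mul, map_mul, map_inv, hσz, hfix]
    group
  let h : G →* ↥(fixS (MulAut.conj n * σ)) :=
    { toFun := fun x => ⟨z⁻¹ * f x * z, hmem x⟩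
      map_one' := Subtype.ext (by
        show z⁻¹ * f 1 * z = 1
        rw [map_one]; group)
      map_mul' := fun x y => Subtype.ext (by
        show z⁻¹ * f (x * y) * z = z⁻¹ * f x * z * (z⁻¹ * f y * z)
        rw [map_mul]; group) }
  refine ⟨MulEquiv.ofBijective h ⟨?_, ?_⟩⟩
  · intro x y hxy
    have h1 : z⁻¹ * f x * z = z⁻¹ * f y * z := congrArg Subtype.val hxy
    exact hf (mul_left_cancel (mul_right_cancel h1))
  · rintro ⟨u, hu⟩
    have hu' : n * σ u * n⁻¹ = u := hu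
    obtain ⟨x, hx⟩ := hsurj _ (fix_conj hz hu')
    refine ⟨x, Subtype.ext ?_⟩
    show z⁻¹ * f x * z = u
    rw [hx]; group

section

variable {D : ChevalleyDatum} {l : ℕ} {M : CoxeterMatrix (Fin l)} (hp : IsType D l M)
  {k : Type u} [Field k] {r e : ℕ} [Fact r.Prime] [CharP k r] [IsAlgClosed k]
  {τ : MulAut ↥(D.group k)} {θ : (Fin l → ℤ) ≃+ (Fin l → ℤ)}
  (hτ : IsFrob r e τ) (F : Fr M.toCoxeterSystem hp.isCartan (TT D k) (XX D l k) τ θ)

include hτ F

/-- the characters of fixed torus elements -/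
theorem cX_of_fix {t : ↥(D.group k)} (ht : t ∈ TT D k) (h : τ t = t) (x : Fin l → ℤ) :
    cX hp t (θ x) = cX hp t x ^ r ^ e := by
  have h1 := cX_sigma hp M.toCoxeterSystem hτ F ht x
  rwa [h] at h1

theorem tor_fix {t : ↥(D.group k)} (ht : t ∈ TT D k)
    (h : ∀ j, cX hp t (θ (sr j)) = cX hp t (sr j) ^ r ^ e) : τ t = t := by
  have hτt : τ t ∈ TT D k := (F.tor t).2 ht
  have h1 : ∀ x, cX hp (τ t) (θ x) = cX hp t (θ x) := by
    refine ((isMC_cX hp hτt).comp θ.toAddMonoidHom).ext ((isMC_cX hp ht).comp θ.toAddMonoidHom) fun j => ?_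
    show cX hp (τ t) (θ (sr j)) = cX hp t (θ (sr j))
    rw [cX_sigma hp M.toCoxeterSystem hτ F ht, h]
  refine cX_inj hp hτt ht fun i => ?_
  obtain ⟨x, hx⟩ := θ.surjective (sr i)
  rw [← hx]
  exact h1 x

/-- torus elements with given exponents -/
theorem exists_tor_exp {d : ℕ} {B : Fin l → Fin l → ℤ} (hB : InvC D l d B) (hd : d ≠ 0) {N : ℕ} {ζ : k}
    (hζ : ζ ^ N = 1) (hN : N ≠ 0) (m : Fin l → ℤ) {Th : Mat l} (hTh : ∀ j, θ (sr j) = Th j)
    (hm : ∀ j, (N : ℤ) ∣ ∑ i, Th j i * m i - (r ^ e : ℕ) * m j) :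
    ∃ t ∈ TT D k, (∀ x, cX hp t x = ζ ^ (∑ i, x i * m i)) ∧ τ t = t := by
  have hζ0 : ζ ≠ 0 := fun h => by rw [h, zero_pow hN] at hζ; exact zero_ne_one hζ
  have hmc : IsMC (fun x : Fin l → ℤ => ζ ^ (∑ i, x i * m i)) := by
    refine ⟨?_, fun x y => ?_⟩
    · show ζ ^ (∑ i, (0 : Fin l → ℤ) i * m i) = 1
      simp
    · show ζ ^ (∑ i, (x + y) i * m i) = ζ ^ (∑ i, x i * m i) * ζ ^ (∑ i, y i * m i)
      rw [← zpow_add₀ hζ0, ← Finset.sum_add_distrib]
      congr 1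
      exact Finset.sum_congr rfl fun i _ => by rw [Pi.add_apply, add_mul]
  obtain ⟨t, ht, hc⟩ := exists_cX hp hB hd hmc fun i => IsAlgClosed.exists_pow_nat_eq _ (Nat.pos_of_ne_zero hd)
  refine ⟨t, ht, hc, tor_fix hp hτ F ht fun j => ?_⟩
  rw [hc, hc, hTh, ← zpow_natCast, ← zpow_mul]
  have h1 : ∑ i, (sr j : Fin l → ℤ) i * m i = m j := by
    simp only [sr_apply']
    simp
  rw [h1]
  obtain ⟨c, hc'⟩ := hm j
  have h2 : ∑ i, Th j i * m i = (N : ℤ) * c + m j * ((r ^ e : ℕ) : ℤ) := by linarith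
  rw [h2, zpow_add₀ hζ0, zpow_mul, zpow_natCast, hζ, one_zpow, one_mul]

end

/-- change of the torus -/
theorem rp_cast {Y : Type*} [Group Y] {l : ℕ} {M : CoxeterMatrix (Fin l)} {W : Type*} [Group W]
    {cs : CoxeterSystem M W} {T T' : Subgroup Y} {nn : Fin l → Y} (e : T = T') {hN : NSys M T nn}
    {hN' : NSys M T' nn} {w : W} {g : Y} (h : Rp cs hN w g) : Rp cs hN' w g := by
  subst e
  exact h

/-- the system for `TT D k` -/
theorem nsysT {D : ChevalleyDatum} {l : ℕ} {M : CoxeterMatrix (Fin l)} (hp : IsType D l M) {k : Type u} [Field k]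
    (hk : LocFin k) (r : ℕ) [Fact r.Prime] [CharP k r] : NSys M (TT D k) (nc hp k) := by
  have h1 := (tow hp M.toCoxeterSystem hk r).nsys
  rwa [TL_eq hp hk] at h1

section

variable {D : ChevalleyDatum} {l : ℕ} {M : CoxeterMatrix (Fin l)} (hp : IsType D l M)
  {k : Type u} [Field k] [IsAlgClosed k] (hk : LocFin k)

include hk in
/-- **Torus elements conjugate in `D.group k` are conjugate under the Weyl group.** -/
theorem wconj (r : ℕ) [Fact r.Prime] [CharP k r] {s t c : ↥(D.group k)} (hs : s ∈ TT D k) (ht : t ∈ TT D k) (hc : c * s * c⁻¹ = t) :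
    ∃ w, ∀ x, cX hp t (rep M.toCoxeterSystem hp.isCartan w x) = cX hp s x := by
  have hWf := finite_W hp (M.toCoxeterSystem)
  have H := tow hp M.toCoxeterSystem hk r
  have C : Coords M.toCoxeterSystem hp.isCartan (TL (Tj hp (k := k))) (nc hp k) (XL (Xj hp)) (xc hp) (ch hp) := by
    rw [TL_eq hp hk, XL_eq hp hk]
    exact coordsL hp M.toCoxeterSystem hk r
  have hGt := GG_eq_top hp M.toCoxeterSystem hk
  have hTL := TL_eq (k := k) hp hk
  obtain ⟨m, hm, w, n, hn, hns, e⟩ := exists_form' H C (ι := Unit) (s := fun _ => s) (t := fun _ => t)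
    (fun _ => by rw [hTL]; exact hs) (fun _ => by rw [hTL]; exact ht) (c := c)
    (by rw [hGt]; exact Subgroup.mem_top _) (fun _ => by rw [← hc]; group)
  refine ⟨w, fun x => ?_⟩
  have h1 := cX_rp' hp hk hn hs x
  have h2 : n * s * n⁻¹ = t := by rw [hns ()]; group
  rwa [h2] at h1

end

end Cfsg.Agent.H790.TwFix
end

-- part: H790/TriV
section
set_option linter.all false
open scoped Cfsg.Agent.FastGrp

/-!
# A subgroup `3 ^ 2` with all elements conjugate in a twisted torus (helper790)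

* `VP G` : the existence statement used in `TriHyp`;
* `vp_of_cert` : `VP` for the fixed points of a twisted Frobenius from explicit data.
-/

set_option autoImplicit false
set_option linter.unusedSectionVars false

namespace Cfsg.Agent.H790.TriV

open CoxeterSystem Cfsg Cfsg.Lie Cfsg.Lie.ChevalleyDatum
open Cfsg.Agent.ChevalleyStructure Cfsg.Agent.ChevalleyStructure.Elts Cfsg.Agent.ChevalleyStructure.CoxeterGeom
  Cfsg.Agent.ChevalleyStructure.CoxeterGeomTypes Cfsg.Agent.ChevalleyStructure.NPerm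
open Cfsg.Agent.Tits.Roots Cfsg.Agent.Tits.Core Cfsg.Agent.Nodes Cfsg.Agent.Nodes.Reps Cfsg.Agent.Nodes.BNOf
  Cfsg.Agent.Nodes.RGDChev Cfsg.Agent.Nodes.Bruhat
open Cfsg.Agent.KFacts.RgdField Cfsg.Agent.KFacts.RgdChevCoord Cfsg.Agent.BpExc.TorCent Cfsg.Agent.BpExc.TorChev
open Cfsg.Agent.GpExc.Field Cfsg.Agent.BpExc.Tow Cfsg.Agent.BpExc.TowChev Cfsg.Agent.BpExc.Fr
  Cfsg.Agent.BpExc.LangFr Cfsg.Agent.H129.TorusChar Cfsg.Agent.H129.TorusMain Cfsg.Agent.H123.ExcZ
open Cfsg.Agent.BpExc Cfsg.Agent.H795.LangT Cfsg.Agent.H795.Core Cfsg.Agent.H129.WData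
  Cfsg.Agent.H795.NotAbT Cfsg.Agent.H795.NotAbCert Cfsg.Agent.H790.TwFix Cfsg.Agent.H629.ExcTor

universe u v

/-- a subgroup `3 ^ 2` with all elements conjugate -/
def VP (G : Type*) [Group G] : Prop :=
  ∃ v1 v2 x1 x2 : G, v1 ≠ 1 ∧ v1 ^ 3 = 1 ∧ v1 * v2 = v2 * v1 ∧ x1 * v1 * x1⁻¹ = v2 ∧ x1 * v2 * x1⁻¹ = v1⁻¹ ∧
    x2 * v1 * x2⁻¹ = v1 * v2

theorem VP.congr {G H : Type*} [Group G] [Group H] (e : G ≃* H) (h : VP G) : VP H := by
  obtain ⟨v1, v2, x1, x2, h1, h2, h3, h4, h5, h6⟩ := h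
  refine ⟨e v1, e v2, e x1, e x2, ?_, ?_, ?_, ?_, ?_, ?_⟩
  · intro h; exact h1 (e.injective (by rw [h, map_one]))
  · rw [← map_pow, h2, map_one]
  · rw [← map_mul, h3, map_mul]
  · rw [← map_inv, ← map_mul, ← map_mul, h4]
  · rw [← map_inv, ← map_mul, ← map_mul, h5, map_inv]
  · rw [← map_inv, ← map_mul, ← map_mul, h6, map_mul]

/-- the checks -/
def VCert (l : ℕ) (Gm U Th U1 U2 : Mat l) (c1 c2 : Fin l → ℤ) (q0 : ℤ) : Prop :=
  (∀ j m, ∑ n, Gm j n * U n m = Th j m) ∧ (∀ j m, ∑ n, Th j n * U1 n m = ∑ n, U1 j n * Th n m) ∧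
  (∀ j m, ∑ n, Th j n * U2 n m = ∑ n, U2 j n * Th n m) ∧
  (∀ j, (3 : ℤ) ∣ ∑ m, Th j m * c1 m - q0 * c1 j) ∧ (∀ j, (3 : ℤ) ∣ ∑ m, Th j m * c2 m - q0 * c2 j) ∧
  (∀ j, (3 : ℤ) ∣ ∑ m, U1 j m * c2 m - c1 j) ∧ (∀ j, (3 : ℤ) ∣ (∑ m, U1 j m * c1 m) + c2 j) ∧
  (∀ j, (3 : ℤ) ∣ ∑ m, U2 j m * c1 m + ∑ m, U2 j m * c2 m - c1 j) ∧ (∃ j, ¬ (3 : ℤ) ∣ c1 j)

instance decVCert (l : ℕ) (Gm U Th U1 U2 : Mat l) (c1 c2 : Fin l → ℤ) (q0 : ℤ) :
    Decidable (VCert l Gm U Th U1 U2 c1 c2 q0) := by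
  unfold VCert; infer_instance

section

variable {D : ChevalleyDatum} {l : ℕ} {M : CoxeterMatrix (Fin l)} (hp : IsType D l M)
  {k : Type u} [Field k] {r e : ℕ} [Fact r.Prime] [CharP k r]
  {σ : MulAut ↥(D.group k)} {g : (Fin l → ℤ) ≃+ (Fin l → ℤ)} [IsAlgClosed k] (hk : LocFin k)

include hk in
/-- conjugation of torus elements by representatives -/
theorem conj_tor {v : M.Group} {m : ↥(D.group k)} (hm : Rp M.toCoxeterSystem (tow hp M.toCoxeterSystem hk r).nsys v m)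
    {t1 t2 : ↥(D.group k)} (h1 : t1 ∈ TT D k) (h2 : t2 ∈ TT D k)
    (h : ∀ x, cX hp t2 (rep M.toCoxeterSystem hp.isCartan v x) = cX hp t1 x) : m * t1 * m⁻¹ = t2 := by
  refine cX_inj hp (rp_conj_mem hp hk hm h1) h2 fun i => ?_
  have hsurj : sr i = rep M.toCoxeterSystem hp.isCartan v (rep M.toCoxeterSystem hp.isCartan v⁻¹ (sr i)) := by
    rw [← rep_mul_apply, mul_inv_cancel, map_one, Module.End.one_apply]
  rw [hsurj, cX_rp' hp hk hm h1, h]

/-- evaluation of `fun_` -/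
theorem fun_eq {v : M.Group} {V : Mat l} (hV : IsMat hp v V) {p : ℕ} {c : Fin l → ℤ} (f : (Fin l → ℤ) →+ ZMod p)
    (hf : ∀ j, ((∑ m, V j m * c m : ℤ) : ZMod p) = f (sr j)) (x : Fin l → ℤ) :
    fun_ p c (rep M.toCoxeterSystem hp.isCartan v x) = f x := by
  refine addHom_ext (f := (fun_ p c).comp (rep M.toCoxeterSystem hp.isCartan v).toAddMonoidHom) (f' := f)
    (fun j => ?_) x
  show fun_ p c (rep M.toCoxeterSystem hp.isCartan v (sr j)) = f (sr j)
  rw [hV, fun_apply, hf]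

theorem fun_sr (p : ℕ) (c : Fin l → ℤ) (j : Fin l) : fun_ p c (sr j) = ((c j : ℤ) : ZMod p) := by
  rw [fun_apply]
  congr 1
  simp only [sr_apply']
  simp

theorem zeta_add {p : ℕ} [Fact p.Prime] {ζ : k} (hζ : IsPrimitiveRoot ζ p) (x y : ZMod p) :
    ζ ^ (x + y).val = ζ ^ x.val * ζ ^ y.val := by
  rw [← pow_add, ZMod.val_add]
  exact (pow_eq_pow_mod _ hζ.pow_eq_one).symm

include hk in
/-- **`VP` from explicit data.** -/
theorem vp_of_cert [Fact (Nat.Prime 3)] (he : 0 < e) (hσ : IsFrob r e σ)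
    (F : Fr M.toCoxeterSystem hp.isCartan (TT D k) (XX D l k) σ g) (hpr : 3 ≠ r) {d : ℕ} {B : Fin l → Fin l → ℤ}
    (hB : InvC D l d B) (hd : d ≠ 0) {w u1 u2 : M.Group} {Gm U Th U1 U2 : Mat l} (hg : ∀ j, g (sr j) = Gm j)
    (hU : IsMat hp w U) (hU1 : IsMat hp u1 U1) (hU2 : IsMat hp u2 U2) {c1 c2 : Fin l → ℤ} {q0 : ℤ}
    (hq0 : ((r ^ e : ℕ) : ZMod 3) = (q0 : ZMod 3)) (hc : VCert l Gm U Th U1 U2 c1 c2 q0) :
    ∃ n z, n = z⁻¹ * σ z ∧ VP ↥(fixS (MulAut.conj n * σ)) := by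
  obtain ⟨n, z, hn, hz, hτ, Fτ⟩ := exists_tau hp hk he hσ F w
  obtain ⟨c1', c2', c3, c4, c5, c6, c7, c8, c9⟩ := hc
  obtain ⟨m1, hm1, hτm1⟩ := exists_lift_tau hp hk hB hd he hσ F hτ Fτ (comm_of hg hU hU1 c1' c2')
  obtain ⟨m2, hm2, hτm2⟩ := exists_lift_tau hp hk hB hd he hσ F hτ Fτ (comm_of hg hU hU2 c1' c3)
  obtain ⟨ζ, hζ⟩ := exists_zeta (k := k) hpr
  obtain ⟨t1, ht1, hct1, htp1, hτt1⟩ := exists_tor_tau hp hB hd F hτ Fτ hζ (c := fun_ 3 c1)
    (eig_of hg hU c1' hq0 (by exact_mod_cast c4))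
  obtain ⟨t2, ht2, hct2, htp2, hτt2⟩ := exists_tor_tau hp hB hd F hτ Fτ hζ (c := fun_ 3 c2)
    (eig_of hg hU c1' hq0 (by exact_mod_cast c5))
  have h12 : t1 * t2 = t2 * t1 := TT_comm hp _ ht1 _ ht2
  have hz3 : ∀ a : ℤ, (3 : ℤ) ∣ a → ((a : ℤ) : ZMod 3) = 0 := fun a ha => by
    rw [ZMod.intCast_zmod_eq_zero_iff_dvd]; exact_mod_cast ha
  have e1 : m1 * t1 * m1⁻¹ = t2 := by
    refine conj_tor hp hk hm1 ht1 ht2 fun x => ?_
    rw [hct1, hct2, fun_eq hp hU1 (fun_ 3 c1) (fun j => ?_)]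
    rw [fun_sr, ← sub_eq_zero, ← Int.cast_sub]
    exact hz3 _ (c6 j)
  have e2 : m1 * t2 * m1⁻¹ = t1⁻¹ := by
    refine conj_tor hp hk hm1 ht2 (inv_mem ht1) fun x => ?_
    rw [cX_inv hp ht1, hct1, hct2, fun_eq hp hU1 (-fun_ 3 c2) (fun j => ?_)]
    · refine inv_eq_of_mul_eq_one_right ?_
      rw [← zeta_add hζ]
      show ζ ^ (-fun_ 3 c2 x + fun_ 3 c2 x).val = 1
      rw [neg_add_cancel, ZMod.val_zero, pow_zero]
    · show _ = -(fun_ 3 c2 (sr j))
      rw [fun_sr, ← add_eq_zero_iff_eq_neg, ← Int.cast_add]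
      exact hz3 _ (c7 j)
  have e3 : m2 * t1 * m2⁻¹ = t1 * t2 := by
    refine conj_tor hp hk hm2 ht1 (mul_mem ht1 ht2) fun x => ?_
    rw [cX_mul hp ht1 ht2, hct1, hct2, hct1 x, ← zeta_add hζ]
    congr 2
    refine addHom_ext (f := (fun_ 3 c1 + fun_ 3 c2).comp (rep M.toCoxeterSystem hp.isCartan u2).toAddMonoidHom)
      (f' := fun_ 3 c1) (fun j => ?_) x
    show fun_ 3 c1 (rep M.toCoxeterSystem hp.isCartan u2 (sr j)) +
      fun_ 3 c2 (rep M.toCoxeterSystem hp.isCartan u2 (sr j)) = fun_ 3 c1 (sr j)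
    rw [hU2, fun_apply, fun_apply, fun_sr, ← sub_eq_zero, ← Int.cast_add, ← Int.cast_sub]
    exact hz3 _ (c8 j)
  have ht1ne : t1 ≠ 1 := by
    intro h
    obtain ⟨j, hj⟩ := c9
    apply hj
    have h1 := hct1 (sr j)
    rw [h, cX_one, fun_sr] at h1
    have h2 : ζ ^ (0 : ZMod 3).val = ζ ^ ((c1 j : ℤ) : ZMod 3).val := by rw [ZMod.val_zero, pow_zero, h1]
    have h3 := pow_val_inj hζ h2
    rw [eq_comm, ZMod.intCast_zmod_eq_zero_iff_dvd] at h3
    exact_mod_cast h3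
  refine ⟨n, z, hz, ⟨t1, hτt1⟩, ⟨t2, hτt2⟩, ⟨m1, hτm1⟩, ⟨m2, hτm2⟩, fun h => ht1ne (congrArg Subtype.val h),
    Subtype.ext htp1, Subtype.ext h12, Subtype.ext e1, Subtype.ext e2, Subtype.ext e3⟩

end

end Cfsg.Agent.H790.TriV
end

-- part: H790/TriData
section
set_option linter.all false
open scoped Cfsg.Agent.FastGrp

/-!
# Weyl group data for `³D₄(q)`, `p = 3` (helper790)
-/

set_option autoImplicit false
set_option linter.unusedSectionVars false

namespace Cfsg.Agent.H790.TriData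

open CoxeterSystem Cfsg Cfsg.Lie Cfsg.Lie.ChevalleyDatum
open Cfsg.Agent.ChevalleyStructure Cfsg.Agent.ChevalleyStructure.Elts Cfsg.Agent.ChevalleyStructure.CoxeterGeom
  Cfsg.Agent.ChevalleyStructure.CoxeterGeomTypes Cfsg.Agent.ChevalleyStructure.NPerm
open Cfsg.Agent.Tits.Roots Cfsg.Agent.Tits.Core Cfsg.Agent.Nodes Cfsg.Agent.Nodes.Reps Cfsg.Agent.Nodes.BNOf
  Cfsg.Agent.Nodes.RGDChev Cfsg.Agent.Nodes.Bruhat
open Cfsg.Agent.KFacts.RgdField Cfsg.Agent.KFacts.RgdChevCoord Cfsg.Agent.BpExc.TorCent Cfsg.Agent.BpExc.TorChev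
open Cfsg.Agent.GpExc.Field Cfsg.Agent.BpExc.Tow Cfsg.Agent.BpExc.TowChev Cfsg.Agent.BpExc.Fr
  Cfsg.Agent.BpExc.LangFr Cfsg.Agent.H129.TorusChar Cfsg.Agent.H129.TorusMain Cfsg.Agent.H123.ExcZ
open Cfsg.Agent.BpExc Cfsg.Agent.H795.LangT Cfsg.Agent.H795.Core Cfsg.Agent.H129.WData
  Cfsg.Agent.H795.NotAbT Cfsg.Agent.H795.NotAbCert Cfsg.Agent.H795.NotAbData

abbrev Am : Mat 4 := Cfsg.Agent.H795.NotAbData.D4.Am

theorem hA : ∀ i j, Am i j = cartanOf chevD4 4 i j := Cfsg.Agent.H795.NotAbData.D4.hA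

/-- the chain of `wp` -/
def wpL : List (Fin 4 × Mat 4) := [
  (3, ![![0, 0, 1, 0], ![0, 1, 0, 0], ![1, 0, 0, 0], ![-1, -2, -1, -1]]),
  (1, ![![0, 0, 1, 0], ![0, 1, 0, 1], ![1, 0, 0, 0], ![-1, -2, -1, -1]]),
  (2, ![![0, 1, 1, 0], ![0, 0, 0, 1], ![1, 1, 0, 0], ![-1, -1, -1, -1]]),
  (0, ![![0, 1, 0, 0], ![0, 0, 0, 1], ![1, 1, 1, 0], ![-1, -1, 0, -1]]),
  (1, ![![1, 1, 0, 0], ![0, 0, 0, 1], ![0, 1, 1, 0], ![0, -1, 0, -1]]),
  (3, ![![1, 0, 0, 0], ![0, 1, 0, 1], ![0, 0, 1, 0], ![0, 0, 0, -1]])]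

theorem wpOK : ChainOK Am wpL := by decide +kernel

/-- the element `w₁`, `ε = 1` -/
noncomputable def wp : coxeterD4.Group := coxeterD4.toCoxeterSystem.wordProd (wpL.map Prod.fst)

/-- the matrix -/
def wpM : Mat 4 := ![![0, 0, 1, 0], ![0, 1, 0, 0], ![1, 0, 0, 0], ![-1, -2, -1, -1]]

theorem is_wp (hp : IsType chevD4 4 coxeterD4) : IsMat hp wp wpM := by
  have h := isMat_chain hp hA wpOK
  have e : hd wpL = wpM := rfl
  rw [e] at h
  exact h

/-- the chain of `wn` -/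
def wnL : List (Fin 4 × Mat 4) := [
  (0, ![![0, 0, -1, 0], ![0, -1, 0, 0], ![-1, 0, 0, 0], ![1, 2, 1, 1]]),
  (1, ![![0, 0, -1, 0], ![-1, -1, 0, 0], ![1, 0, 0, 0], ![1, 2, 1, 1]]),
  (2, ![![0, -1, -1, 0], ![-1, 0, 0, 0], ![1, 1, 0, 0], ![1, 1, 1, 1]]),
  (0, ![![0, -1, 0, 0], ![-1, 0, 0, 0], ![1, 1, 1, 0], ![1, 1, 0, 1]]),
  (1, ![![-1, -1, 0, 0], ![1, 0, 0, 0], ![0, 1, 1, 0], ![0, 1, 0, 1]]),
  (0, ![![-1, 0, 0, 0], ![1, 1, 0, 0], ![0, 0, 1, 0], ![0, 0, 0, 1]])]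

theorem wnOK : ChainOK Am wnL := by decide +kernel

/-- the element `w₁`, `ε = -1` -/
noncomputable def wn : coxeterD4.Group := coxeterD4.toCoxeterSystem.wordProd (wnL.map Prod.fst)

/-- the matrix -/
def wnM : Mat 4 := ![![0, 0, -1, 0], ![0, -1, 0, 0], ![-1, 0, 0, 0], ![1, 2, 1, 1]]

theorem is_wn (hp : IsType chevD4 4 coxeterD4) : IsMat hp wn wnM := by
  have h := isMat_chain hp hA wnOK
  have e : hd wnL = wnM := rfl
  rw [e] at h
  exact h

/-- the chain of `vp` -/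
def vpL : List (Fin 4 × Mat 4) := [
  (2, ![![-1, -1, 0, -1], ![0, -1, -1, 0], ![0, 1, 1, 1], ![0, 1, 0, 0]]),
  (0, ![![-1, -1, -1, -1], ![0, -1, 0, 0], ![0, 1, 0, 1], ![0, 1, 1, 0]]),
  (1, ![![0, -1, -1, -1], ![-1, -1, 0, 0], ![1, 1, 0, 1], ![1, 1, 1, 0]]),
  (3, ![![0, -1, -1, -1], ![-1, 0, 0, 0], ![1, 1, 0, 1], ![1, 1, 1, 0]]),
  (2, ![![0, -1, -1, 0], ![-1, 0, 0, 0], ![1, 1, 0, 0], ![1, 1, 1, 1]]),
  (0, ![![0, -1, 0, 0], ![-1, 0, 0, 0], ![1, 1, 1, 0], ![1, 1, 0, 1]]),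
  (1, ![![-1, -1, 0, 0], ![1, 0, 0, 0], ![0, 1, 1, 0], ![0, 1, 0, 1]]),
  (0, ![![-1, 0, 0, 0], ![1, 1, 0, 0], ![0, 0, 1, 0], ![0, 0, 0, 1]])]

theorem vpOK : ChainOK Am vpL := by decide +kernel

/-- the element `w₂`, `ε = 1` -/
noncomputable def vp : coxeterD4.Group := coxeterD4.toCoxeterSystem.wordProd (vpL.map Prod.fst)

/-- the matrix -/
def vpM : Mat 4 := ![![-1, -1, 0, -1], ![0, -1, -1, 0], ![0, 1, 1, 1], ![0, 1, 0, 0]]

theorem is_vp (hp : IsType chevD4 4 coxeterD4) : IsMat hp vp vpM := by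
  have h := isMat_chain hp hA vpOK
  have e : hd vpL = vpM := rfl
  rw [e] at h
  exact h

/-- the chain of `vn` -/
def vnL : List (Fin 4 × Mat 4) := [
  (1, ![![1, 1, 0, 1], ![0, 1, 1, 0], ![0, -1, -1, -1], ![0, -1, 0, 0]]),
  (3, ![![1, 1, 0, 1], ![0, 0, 1, 0], ![0, -1, -1, -1], ![0, 1, 0, 0]]),
  (1, ![![1, 1, 0, 0], ![0, 0, 1, 0], ![0, -1, -1, 0], ![0, 1, 0, 1]]),
  (2, ![![1, 0, 0, 0], ![0, 1, 1, 0], ![0, 0, -1, 0], ![0, 0, 0, 1]])]

theorem vnOK : ChainOK Am vnL := by decide +kernel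

/-- the element `w₂`, `ε = -1` -/
noncomputable def vn : coxeterD4.Group := coxeterD4.toCoxeterSystem.wordProd (vnL.map Prod.fst)

/-- the matrix -/
def vnM : Mat 4 := ![![1, 1, 0, 1], ![0, 1, 1, 0], ![0, -1, -1, -1], ![0, -1, 0, 0]]

theorem is_vn (hp : IsType chevD4 4 coxeterD4) : IsMat hp vn vnM := by
  have h := isMat_chain hp hA vnOK
  have e : hd vnL = vnM := rfl
  rw [e] at h
  exact h

/-- the chain of `u1` -/
def u1L : List (Fin 4 × Mat 4) := [
  (2, ![![0, 0, 0, -1], ![-1, -1, -1, 0], ![1, 2, 1, 1], ![1, 0, 0, 0]]),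
  (1, ![![0, 0, 0, -1], ![-1, -1, 0, 0], ![1, 2, 1, 1], ![1, 0, 0, 0]]),
  (3, ![![0, -1, 0, -1], ![-1, 0, 0, 0], ![1, 1, 1, 1], ![1, 1, 0, 0]]),
  (0, ![![0, -1, 0, 0], ![-1, 0, 0, 0], ![1, 1, 1, 0], ![1, 1, 0, 1]]),
  (1, ![![-1, -1, 0, 0], ![1, 0, 0, 0], ![0, 1, 1, 0], ![0, 1, 0, 1]]),
  (0, ![![-1, 0, 0, 0], ![1, 1, 0, 0], ![0, 0, 1, 0], ![0, 0, 0, 1]])]

theorem u1OK : ChainOK Am u1L := by decide +kernel

/-- an element commuting with `θ₂` -/
noncomputable def u1 : coxeterD4.Group := coxeterD4.toCoxeterSystem.wordProd (u1L.map Prod.fst)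

/-- the matrix -/
def u1M : Mat 4 := ![![0, 0, 0, -1], ![-1, -1, -1, 0], ![1, 2, 1, 1], ![1, 0, 0, 0]]

theorem is_u1 (hp : IsType chevD4 4 coxeterD4) : IsMat hp u1 u1M := by
  have h := isMat_chain hp hA u1OK
  have e : hd u1L = u1M := rfl
  rw [e] at h
  exact h

/-- the chain of `u2` -/
def u2L : List (Fin 4 × Mat 4) := [
  (1, ![![1, 1, 0, 0], ![0, 0, 1, 0], ![0, -1, -1, 0], ![0, 1, 0, 1]]),
  (2, ![![1, 0, 0, 0], ![0, 1, 1, 0], ![0, 0, -1, 0], ![0, 0, 0, 1]])]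

theorem u2OK : ChainOK Am u2L := by decide +kernel

/-- an element commuting with `θ₂` -/
noncomputable def u2 : coxeterD4.Group := coxeterD4.toCoxeterSystem.wordProd (u2L.map Prod.fst)

/-- the matrix -/
def u2M : Mat 4 := ![![1, 1, 0, 0], ![0, 0, 1, 0], ![0, -1, -1, 0], ![0, 1, 0, 1]]

theorem is_u2 (hp : IsType chevD4 4 coxeterD4) : IsMat hp u2 u2M := by
  have h := isMat_chain hp hA u2OK
  have e : hd u2L = u2M := rfl
  rw [e] at h
  exact h

/-- the chain of `cc` -/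
def ccL : List (Fin 4 × Mat 4) := [
  (0, ![![0, 1, 0, 0], ![-1, -1, 0, 0], ![1, 1, 1, 0], ![1, 1, 0, 1]]),
  (1, ![![1, 1, 0, 0], ![0, -1, 0, 0], ![0, 1, 1, 0], ![0, 1, 0, 1]])]

theorem ccOK : ChainOK Am ccL := by decide +kernel

/-- the Coxeter element `s₀ s₁` of the Levi subgroup -/
noncomputable def cc : coxeterD4.Group := coxeterD4.toCoxeterSystem.wordProd (ccL.map Prod.fst)

/-- the matrix -/
def ccM : Mat 4 := ![![0, 1, 0, 0], ![-1, -1, 0, 0], ![1, 1, 1, 0], ![1, 1, 0, 1]]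

theorem is_cc (hp : IsType chevD4 4 coxeterD4) : IsMat hp cc ccM := by
  have h := isMat_chain hp hA ccOK
  have e : hd ccL = ccM := rfl
  rw [e] at h
  exact h


end Cfsg.Agent.H790.TriData
end

-- part: H790/TriMain
section
prune_inst 0x1030650404a200000000001002000004240000900020000028a0010600002142000089000c001000002002000000000002000040400000000a0004000005000010a8000420000000000006000000000000000000000000000000000000000000000000000
set_option linter.all false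
open scoped Cfsg.Agent.FastGrp

/-!
# `Full 3` for `³D₄(q)`, `3 ∤ q` (helper790)
-/

set_option autoImplicit false
set_option linter.unusedSectionVars false

namespace Cfsg.Agent.H790.TriMain

open CoxeterSystem Cfsg Cfsg.Lie Cfsg.Lie.ChevalleyDatum
open Cfsg.Agent.ChevalleyStructure Cfsg.Agent.ChevalleyStructure.Elts Cfsg.Agent.ChevalleyStructure.CoxeterGeom
  Cfsg.Agent.ChevalleyStructure.CoxeterGeomTypes Cfsg.Agent.ChevalleyStructure.NPerm
open Cfsg.Agent.Tits.Roots Cfsg.Agent.Tits.Core Cfsg.Agent.Nodes Cfsg.Agent.Nodes.Reps Cfsg.Agent.Nodes.BNOf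
  Cfsg.Agent.Nodes.RGDChev Cfsg.Agent.Nodes.Bruhat
open Cfsg.Agent.KFacts.RgdField Cfsg.Agent.KFacts.RgdChevCoord Cfsg.Agent.BpExc.TorCent Cfsg.Agent.BpExc.TorChev
open Cfsg.Agent.GpExc.Field Cfsg.Agent.BpExc.Tow Cfsg.Agent.BpExc.TowChev Cfsg.Agent.BpExc.Fr
  Cfsg.Agent.BpExc.LangFr Cfsg.Agent.H129.TorusChar Cfsg.Agent.H129.TorusMain Cfsg.Agent.H123.ExcZ
open Cfsg.Agent.BpExc Cfsg.Agent.H795.LangT Cfsg.Agent.H795.Core Cfsg.Agent.H129.WData
  Cfsg.Agent.H795.NotAbT Cfsg.Agent.H795.NotAbCert Cfsg.Agent.H790.TwFix Cfsg.Agent.H629.ExcTor Cfsg.Agent.H790.TriV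
  Cfsg.Agent.H790.TriData Cfsg.Agent.H790.TwLevi Cfsg.Agent.H629.ExcLevi Cfsg.Agent.H790.TriCrit
  Cfsg.Agent.TitsThree.KExcRT Cfsg.Agent.H629

universe u v

/-- the matrix of `g'` -/
def gpM : Mat 4 := ![![1, 0, 0, 0], ![0, 1, 0, 0], ![-1, -2, -1, -1], ![0, 0, 1, 0]]

/-- the matrix of `g''` -/
def g2M : Mat 4 := ![![0, 1, 1, 1], ![0, -1, -1, 0], ![0, 1, 0, 0], ![-1, -1, 0, -1]]

/-- the matrix of the triality -/
def triM : Mat 4 := ![![0, 0, 1, 0], ![0, 1, 0, 0], ![0, 0, 0, 1], ![1, 0, 0, 0]]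

theorem cert_p : VCert 4 triM vpM g2M u1M u2M ![1, 1, 1, 2] ![2, 0, 0, 2] 1 := by decide +kernel

theorem cert_n : VCert 4 triM vnM (fun j m => -g2M j m) u1M u2M ![1, 1, 1, 2] ![2, 0, 0, 2] (-1) := by decide +kernel

/-! ### the table -/

/-- the roots -/
def rtD : Fin 3 → Fin 3 → ℕ := ![![0, 18, 19], ![5, 0, 14], ![4, 9, 0]]
/-- the signs -/
def sD : Fin 3 → Fin 3 → ℤ := ![![1, 1, -1], ![1, 1, 1], ![-1, 1, 1]]
/-- the nodes -/
def cD : ℕ → Fin 4 := fun i => if i = 0 then 0 else 1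

theorem ltab : LTab chevD4 3 4 rtD sD cD where
  ta := by decide +kernel
  tb := by decide +kernel
  tc := by decide +kernel
  td := by decide +kernel
  te := by decide +kernel
  tf := by decide +kernel

theorem cop : IsCoprime (∑ j ∈ Finset.range (3 - 1), ((j : ℤ) + 1) * cartanOf chevD4 4 (cD j) 2) ((3 : ℕ) : ℤ) := by
  have h : (∑ j ∈ Finset.range (3 - 1), ((j : ℤ) + 1) * cartanOf chevD4 4 (cD j) 2) = -2 := by decide +kernel
  rw [h]
  exact ⟨1, 1, by norm_num⟩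

theorem pair_eq (i : Fin 4) (x : Fin 4 → ℤ) : pairing (cartanOf chevD4 4) i x = ∑ n, Am i n * x n := by
  unfold pairing
  exact Finset.sum_congr rfl fun n _ => by rw [← hA]

theorem chk_pair : ∀ j : Fin 2, ∀ i : Fin 4, ∑ n, Am (cD j) n * gpM i n = Am (cD j) i := by decide +kernel

theorem chk_root : ∀ i j : Fin 3, i ≠ j → ∀ m, ∑ n, vec chevD4 4 (rtD i j) n * gpM n m = vec chevD4 4 (rtD i j) m := by
  decide +kernel

theorem chk_kernel : ∀ a b : Fin 24, (3 : ℤ) ∣ ∑ n, Am 1 n * vec chevD4 4 a n → (3 : ℤ) ∣ ∑ n, Am 1 n * vec chevD4 4 b n →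
    ∀ c : Fin 24, ¬ ∀ i, vec chevD4 4 a i + vec chevD4 4 b i = vec chevD4 4 c i := by decide +kernel

/-! ### arithmetic in the field -/

section Arith

variable {k : Type u} [Field k]

/-- the exponent `1 + Q + Q ^ 2` on a `3`-element -/
theorem cube_of {a : k} (ha : a ≠ 0) {Q : ℤ} (hQ : (3 : ℤ) ∣ Q - 1) (h : a ^ (1 + Q + Q ^ 2) = 1) {N : ℕ}
    (hN : a ^ 3 ^ N = 1) : a ^ 3 = 1 := by
  obtain ⟨b, hb⟩ := hQ
  have hQb : Q = 1 + 3 * b := by linarith
  have hco : IsCoprime (1 + 3 * (b + b ^ 2)) ((3 : ℤ) ^ N) :=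
    IsCoprime.pow_right ⟨1, -(b + b ^ 2), by ring⟩
  obtain ⟨u, v, huv⟩ := hco
  have e1 : (1 + Q + Q ^ 2) = 3 * (1 + 3 * (b + b ^ 2)) := by rw [hQb]; ring
  rw [e1] at h
  have e2 : (3 : ℤ) = (3 * (1 + 3 * (b + b ^ 2))) * u + (3 ^ N) * (3 * v) := by linear_combination (-3) * huv
  have e3 : a ^ (3 : ℤ) = 1 := by
    rw [e2, zpow_add₀ ha, zpow_mul, h, one_zpow, one_mul, zpow_mul]
    have : a ^ ((3 : ℤ) ^ N) = 1 := by
      have h1 : ((3 : ℤ) ^ N) = ((3 ^ N : ℕ) : ℤ) := by push_cast; rfl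
      rw [h1, zpow_natCast, hN]
    rw [this, one_zpow]
  exact_mod_cast e3

theorem zpow_eq_self {a : k} (ha : a ≠ 0) {Q : ℤ} (hQ : (3 : ℤ) ∣ Q - 1) (h : a ^ 3 = 1) : a ^ Q = a := by
  obtain ⟨b, hb⟩ := hQ
  have hQb : Q = 3 * b + 1 := by linarith
  rw [hQb, zpow_add₀ ha, zpow_mul]
  have : a ^ (3 : ℤ) = 1 := by exact_mod_cast h
  rw [this, one_zpow, one_mul, zpow_one]

end Arith

section Main

variable {k : Type u} [Field k] [IsAlgClosed k] {r e : ℕ} [Fact r.Prime] [CharP k r] (hk : LocFin k)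
  (hp : IsType chevD4 4 coxeterD4)
  {τ : MulAut ↥(chevD4.group k)} {θ : (Fin 4 → ℤ) ≃+ (Fin 4 → ℤ)} (hτ : IsFrob r e τ)
  (F : Fr coxeterD4.toCoxeterSystem hp.isCartan (TT chevD4 k) (XX chevD4 4 k) τ θ)
  {sg : ℤ} (hsg : sg = 1 ∨ sg = -1) (hTh : ∀ j, θ (sr j) = fun m => sg * gpM j m)
  (hq : (3 : ℤ) ∣ sg * ((r ^ e : ℕ) : ℤ) - 1)

theorem theta_apply' {θ : (Fin 4 → ℤ) ≃+ (Fin 4 → ℤ)} {sg : ℤ} (hTh : ∀ j, θ (sr j) = fun m => sg * gpM j m)
    (x : Fin 4 → ℤ) (m : Fin 4) : θ x m = sg * ∑ n, x n * gpM n m := by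
  have h := apply_of_sr (f := θ.toAddMonoidHom) (U := fun j m => sg * gpM j m) hTh x m
  have h' : θ x m = ∑ n, x n * (sg * gpM n m) := h
  rw [h', Finset.mul_sum]
  exact Finset.sum_congr rfl fun n _ => by ring

include hτ F hsg hTh in
theorem lfr : LFr (k := k) coxeterD4.toCoxeterSystem hp 3 rtD cD r e τ θ sg where
  frob := hτ
  fr := F
  pair := by
    intro j hj x
    let f : (Fin 4 → ℤ) →+ ℤ :=
      { toFun := fun x => pairing (cartanOf chevD4 4) (cD j) (θ x)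
        map_zero' := by rw [map_zero]; simp [pairing]
        map_add' := fun x y => by rw [map_add, pair_eq, pair_eq, pair_eq, ← Finset.sum_add_distrib]; exact
                      Finset.sum_congr rfl fun n _ => by rw [Pi.add_apply, mul_add] }
    let f' : (Fin 4 → ℤ) →+ ℤ :=
      { toFun := fun x => sg * pairing (cartanOf chevD4 4) (cD j) x
        map_zero' := by simp [pairing]
        map_add' := fun x y => by
          rw [pair_eq, pair_eq, pair_eq, ← mul_add, ← Finset.sum_add_distrib]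
          congr 1
          exact Finset.sum_congr rfl fun n _ => by rw [Pi.add_apply, mul_add] }
    refine addHom_ext (f := f) (f' := f') (fun i => ?_) x
    show pairing (cartanOf chevD4 4) (cD j) (θ (sr i)) = sg * pairing (cartanOf chevD4 4) (cD j) (sr i)
    rw [hTh, pair_eq, pairing_sr hp, ← hA, ← chk_pair ⟨j, by omega⟩ i, Finset.mul_sum]
    exact Finset.sum_congr rfl fun n _ => by ring
  root := by
    intro i j hij
    funext m
    rw [theta_apply' hTh, chk_root i j hij m, Pi.smul_apply, smul_eq_mul]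
  sgn := hsg

/-- the relations between the characters of a fixed torus element -/
theorem rel {t : ↥(chevD4.group k)} (ht : t ∈ TT chevD4 k)
    (hfix : ∀ x, cX hp t (θ x) = cX hp t x ^ r ^ e) (hsg : sg = 1 ∨ sg = -1)
    (hTh : ∀ j, θ (sr j) = fun m => sg * gpM j m) (j : Fin 4) :
    ∏ i, cX hp t (sr i) ^ gpM j i = cX hp t (sr j) ^ (sg * ((r ^ e : ℕ) : ℤ)) := by
  have h1 := hfix (sr j)
  have hmc := isMC_cX hp ht
  rw [hTh, hmc.eq_prod] at h1
  have h2 : (∏ i, cX hp t (sr i) ^ gpM j i) ^ sg = cX hp t (sr j) ^ r ^ e := by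
    rw [← h1, ← Finset.prod_zpow]
    exact Finset.prod_congr rfl fun i _ => by rw [← zpow_mul, mul_comm]
  have h3 : sg * sg = 1 := by rcases hsg with h | h <;> rw [h] <;> norm_num
  calc ∏ i, cX hp t (sr i) ^ gpM j i = ((∏ i, cX hp t (sr i) ^ gpM j i) ^ sg) ^ sg := by
        rw [← zpow_mul, h3, zpow_one]
    _ = (cX hp t (sr j) ^ r ^ e) ^ sg := by rw [h2]
    _ = _ := by rw [← zpow_natCast, ← zpow_mul, mul_comm sg]

end Main

/-! ### the `p`-part of the fixed torus -/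

section TorP

variable {D : ChevalleyDatum} {l : ℕ} {M : CoxeterMatrix (Fin l)} {k : Type u} [Field k]

/-- the `p`-elements of the fixed torus -/
def TG (hp : IsType D l M) (τ : MulAut ↥(D.group k)) (p : ℕ) : Subgroup ↥(fixS τ) where
  carrier := {u | (u : ↥(D.group k)) ∈ TT D k ∧ ∃ i : ℕ, u ^ p ^ i = 1}
  one_mem' := ⟨one_mem _, 0, one_pow _⟩
  mul_mem' := by
    rintro a b ⟨ha, i, hi⟩ ⟨hb, j, hj⟩
    have hab : a * b = b * a := Subtype.ext (TT_comm hp _ ha _ hb)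
    refine ⟨mul_mem ha hb, i + j, ?_⟩
    rw [(show Commute a b from hab).mul_pow, pow_add, pow_mul, hi, one_pow, one_mul, mul_comm, pow_mul, hj, one_pow]
  inv_mem' := by
    rintro a ⟨ha, i, hi⟩
    exact ⟨inv_mem ha, i, by rw [inv_pow, hi, inv_one]⟩

theorem exp_TG {hp : IsType D l M} {τ : MulAut ↥(D.group k)} {p : ℕ} [hpp : Fact p.Prime] [Finite ↥(fixS τ)] :
    ∃ N : ℕ, ∀ t ∈ TG hp τ p, t ^ p ^ N = 1 := by
  refine ⟨Nat.card ↥(fixS τ), fun t ht => ?_⟩
  obtain ⟨-, i, hi⟩ := ht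
  obtain ⟨j, -, hj⟩ := (Nat.dvd_prime_pow hpp.out).1 (orderOf_dvd_of_pow_eq_one hi)
  have h1 : orderOf t ≤ Nat.card ↥(fixS τ) := Nat.le_of_dvd Nat.card_pos (orderOf_dvd_natCard t)
  have h2 : j ≤ Nat.card ↥(fixS τ) := by
    rw [hj] at h1
    exact (Nat.lt_pow_self hpp.out.one_lt).le.trans h1
  apply orderOf_dvd_iff_pow_eq_one.1
  rw [hj]
  exact Nat.pow_dvd_pow p h2

end TorP

section Final

variable {k : Type u} [Field k] [IsAlgClosed k] {r e : ℕ} [Fact r.Prime] [CharP k r] (hk : LocFin k)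
  (hp : IsType chevD4 4 coxeterD4)
  {τ : MulAut ↥(chevD4.group k)} {θ : (Fin 4 → ℤ) ≃+ (Fin 4 → ℤ)} (hτ : IsFrob r e τ)
  (F : Fr coxeterD4.toCoxeterSystem hp.isCartan (TT chevD4 k) (XX chevD4 4 k) τ θ)
  {sg : ℤ} (hsg : sg = 1 ∨ sg = -1) (hTh : ∀ j, θ (sr j) = fun m => sg * gpM j m)

theorem cw_eq : cw coxeterD4.toCoxeterSystem cD (3 - 1) = cc := by
  unfold cw cc ccL CoxeterSystem.wordProd
  simp only [cD, List.range_succ, _root_.Fin.isValue, _root_.CoxeterMatrix.toCoxeterSystem_simple, _root_.Nat.add_one_sub_one, _root_.List.range_zero, _root_.List.nil_append, _root_.List.cons_append, _root_.List.map_cons, ↓ _root_.reduceIte, _root_.one_ne_zero, _root_.List.map_nil, _root_.List.prod_cons, _root_.List.prod_nil, _root_.mul_one, _root_.Int.reduceNeg]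

include hτ F hsg hTh in
/-- elements of the torus with given exponents -/
theorem mk_T {c : ℕ} {ζ : k} (hζ : ζ ^ 3 ^ c = 1) {Q : ℤ} (hQ : Q = sg * ((r ^ e : ℕ) : ℤ)) (m0 m1 m2 m3 : ℤ)
    (h0 : ((3 ^ c : ℕ) : ℤ) ∣ (Q - 1) * m0) (h1 : ((3 ^ c : ℕ) : ℤ) ∣ (Q - 1) * m1)
    (h2 : ((3 ^ c : ℕ) : ℤ) ∣ m0 + 2 * m1 + m2 + m3 + Q * m2) (h3 : ((3 ^ c : ℕ) : ℤ) ∣ m2 - Q * m3) :
    ∃ t ∈ TG hp τ 3, ∀ x, cX hp (t : ↥(chevD4.group k)) x = ζ ^ (x 0 * m0 + x 1 * m1 + x 2 * m2 + x 3 * m3) := by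
  have hs2 : sg * sg = 1 := by rcases hsg with h | h <;> rw [h] <;> norm_num
  have hqQ : ((r ^ e : ℕ) : ℤ) = sg * Q := by rw [hQ, ← mul_assoc, hs2, one_mul]
  have hB : InvC chevD4 4 2 ![![2, 2, 1, 1], ![2, 4, 2, 2], ![1, 2, 2, 1], ![1, 2, 1, 2]] := invC_D4
  obtain ⟨t, ht, hct, hτt⟩ := exists_tor_exp hp hτ F hB two_ne_zero hζ (pow_ne_zero c three_ne_zero)
    ![m0, m1, m2, m3] (Th := fun j m => sg * gpM j m) hTh (by
      intro j
      rw [hqQ, Fin.sum_univ_four]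
      fin_cases j
      · obtain ⟨w, hw⟩ := h0
        push_cast at hw
        refine ⟨-sg * w, ?_⟩
        simp [gpM]
        linear_combination (-sg) * hw
      · obtain ⟨w, hw⟩ := h1
        push_cast at hw
        refine ⟨-sg * w, ?_⟩
        simp [gpM]
        linear_combination (-sg) * hw
      · obtain ⟨w, hw⟩ := h2
        push_cast at hw
        refine ⟨-sg * w, ?_⟩
        simp only [gpM, _root_.Int.reduceNeg, _root_.Fin.reduceFinMk, _root_.Fin.isValue, _root_.Matrix.cons_val', _root_.Matrix.cons_val_zero, _root_.Matrix.cons_val_fin_one, _root_.Matrix.cons_val, _root_.Matrix.cons_val_one, _root_.mul_neg, _root_.mul_one, _root_.neg_mul, _root_.Nat.cast_pow, _root_.Nat.cast_ofNat]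
        linear_combination (-sg) * hw
      · obtain ⟨w, hw⟩ := h3
        push_cast at hw
        refine ⟨sg * w, ?_⟩
        simp [gpM]
        linear_combination sg * hw)
  have hc : ∀ x, cX hp t x = ζ ^ (x 0 * m0 + x 1 * m1 + x 2 * m2 + x 3 * m3) := by
    intro x
    rw [hct, Fin.sum_univ_four]
    rfl
  refine ⟨⟨t, hτt⟩, ⟨ht, c, Subtype.ext ?_⟩, hc⟩
  show t ^ 3 ^ c = 1
  refine cX_inj hp (pow_mem ht _) (one_mem _) fun i => ?_
  rw [cX_pow hp ht, hc, cX_one, ← zpow_natCast, ← zpow_mul, mul_comm, zpow_mul, zpow_natCast, hζ, one_zpow]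

include hk hτ F hsg hTh in
/-- **The hypotheses of the criterion.** -/
theorem triHyp [Finite ↥(fixS τ)] (h3r : 3 ≠ r) {a : ℕ} (ha : 0 < a)
    (hq : ((3 ^ a : ℕ) : ℤ) ∣ sg * ((r ^ e : ℕ) : ℤ) - 1) (hQ1 : sg * ((r ^ e : ℕ) : ℤ) ≠ 1) (hVP : VP ↥(fixS τ)) :
    ∃ x0 t0 z : ↥(fixS τ), TriHyp (TG hp τ 3) x0 t0 z ∧ 3 ^ (2 * a + 1) ≤ Nat.card (TG hp τ 3) := by
  have h3 : Fact (Nat.Prime 3) := ⟨Nat.prime_three⟩
  obtain ⟨Q, hQdef⟩ : ∃ Q, Q = sg * ((r ^ e : ℕ) : ℤ) := ⟨_, rfl⟩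
  rw [← hQdef] at hq hQ1
  have hq3 : (3 : ℤ) ∣ Q - 1 := (dvd_pow_self 3 ha.ne').natCast.trans hq |> fun h => by exact_mod_cast h
  have hs2 : sg * sg = 1 := by rcases hsg with h | h <;> rw [h] <;> norm_num
  have hqQ : ((r ^ e : ℕ) : ℤ) = sg * Q := by rw [hQdef, ← mul_assoc, hs2, one_mul]
  obtain ⟨b, hb⟩ := hq3
  have hQb : Q = 3 * b + 1 := by linarith only [hb]
  -- roots of unity
  have h3k : ((3 : ℕ) : k) ≠ 0 := by
    rw [Ne, CharP.cast_eq_zero_iff k r]
    intro h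
    exact h3r ((Nat.prime_dvd_prime_iff_eq Fact.out Nat.prime_three).1 h).symm
  have hroot : ∀ c : ℕ, ∃ ζ : k, IsPrimitiveRoot ζ (3 ^ c) := fun c => by
    have : NeZero ((3 ^ c : ℕ) : k) := ⟨by push_cast; exact pow_ne_zero _ (by exact_mod_cast h3k)⟩
    exact HasEnoughRootsOfUnity.exists_primitiveRoot k (3 ^ c)
  obtain ⟨v, hv⟩ := hroot 2
  have hω : IsPrimitiveRoot (v ^ 3) 3 := hv.pow (by norm_num) (by norm_num)
  have hv9 : v ^ 3 ^ 2 = 1 := hv.pow_eq_one
  have hv0 : v ≠ 0 := hv.ne_zero (by norm_num)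
  obtain ⟨ω, hωdef⟩ : ∃ ω, ω = v ^ 3 := ⟨_, rfl⟩
  rw [← hωdef] at hω
  have hω3 : ω ^ 3 = 1 := hω.pow_eq_one
  have hω0 : ω ≠ 0 := hω.ne_zero (by norm_num)
  have hω31 : ω ^ 3 ^ 1 = 1 := by rw [pow_one]; exact hω3
  -- `x0`
  have L := lfr hp hτ F hsg hTh
  obtain ⟨x0, y, t0, hx0', hτx0, hx03, hτy, hconj, ht0, ht03, hct0'⟩ :=
    exists_x0 (hN := nsysT hp hk r) ltab le_rfl (by decide) cop L (by rw [← hQdef]; exact hQ1)
      (by rw [← hQdef]; exact ⟨b, hb⟩) hω
  have hx0 : Rp coxeterD4.toCoxeterSystem (tow hp coxeterD4.toCoxeterSystem hk r).nsys cc x0 := by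
    rw [cw_eq] at hx0'
    exact rp_cast (TL_eq hp hk).symm hx0'
  have hAm : Am 1 0 = -1 ∧ Am 1 1 = 2 ∧ Am 1 2 = -1 ∧ Am 1 3 = -1 := by decide
  have hAm' : ∀ x : Fin 4 → ℤ, ∑ n, Am 1 n * x n = -x 0 + 2 * x 1 - x 2 - x 3 := by
    intro x
    rw [Fin.sum_univ_four, hAm.1, hAm.2.1, hAm.2.2.1, hAm.2.2.2]
    ring
  have hct0 : ∀ x, cX hp t0 x = ω ^ (-x 0 + 2 * x 1 - x 2 - x 3) := by
    intro x
    rw [hct0', ← hAm', ← pair_eq]
    congr 1
    simp only [Finset.sum_range_succ, cD, _root_.Nat.add_one_sub_one, _root_.Nat.cast_add, _root_.Nat.cast_sum, _root_.Fin.isValue, _root_.Finset.range_one, _root_.Finset.sum_singleton, _root_.Finset.range_zero, _root_.Finset.sum_empty, _root_.CharP.cast_eq_zero, _root_.add_zero, ↓ _root_.reduceIte, _root_.MulZeroClass.zero_mul, _root_.Nat.cast_one, _root_.zero_add, _root_.one_ne_zero, _root_.one_mul]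
  -- `z`
  obtain ⟨z, hz, hcz⟩ := mk_T hp hτ F hsg hTh hω31 hQdef 0 0 1 1 (by simp) (by simp)
    ⟨b + 1, by rw [hQb]; push_cast; ring⟩ ⟨-b, by rw [hQb]; push_cast; ring⟩
  obtain ⟨s, hs, hcs⟩ := mk_T hp hτ F hsg hTh hv9 hQdef 3 (-3) Q 1 ⟨b, by rw [hQb]; push_cast; ring⟩
    ⟨-b, by rw [hQb]; push_cast; ring⟩ ⟨b * (b + 1), by rw [hQb]; push_cast; ring⟩ (by simp)
  have hcc : ∀ x, rep coxeterD4.toCoxeterSystem hp.isCartan cc x =
      ![-x 1 + x 2 + x 3, x 0 - x 1 + x 2 + x 3, x 2, x 3] := by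
    intro x
    funext m
    rw [(is_cc hp).apply, Fin.sum_univ_four]
    (revert m; simp only [ccM, _root_.Fin.forall_fin_succ, Fin.isValue, Int.reduceNeg, _root_.Matrix.cons_val', _root_.Matrix.cons_val_fin_one, _root_.Matrix.cons_val_zero, _root_.Matrix.cons_val_one, _root_.Matrix.cons_val, _root_.Nat.succ_eq_add_one, Nat.reduceAdd, _root_.MulZeroClass.mul_zero, _root_.mul_neg, _root_.mul_one, _root_.zero_add, _root_.Matrix.cons_val_succ, _root_.add_left_inj, _root_.add_zero, _root_.implies_true, _root_.and_self, _root_.and_true, _root_.true_and]) <;> (repeat' with_reducible apply And.intro) <;> ring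
  have hsr : ∀ (t : ↥(chevD4.group k)), t ∈ TT chevD4 k → ∀ x, cX hp t x =
      cX hp t (sr 0) ^ x 0 * cX hp t (sr 1) ^ x 1 * cX hp t (sr 2) ^ x 2 * cX hp t (sr 3) ^ x 3 := by
    intro t ht x
    rw [(isMC_cX hp ht).eq_prod x, Fin.prod_univ_four]
  have hne : ∀ (t : ↥(chevD4.group k)), t ∈ TT chevD4 k → ∀ x, cX hp t x ≠ 0 := fun t ht x =>
    (isMC_cX hp ht).ne_zero x
  have hrel : ∀ t : ↥(fixS τ), t ∈ TG hp τ 3 →
      cX hp (t : ↥(chevD4.group k)) (sr 2) = cX hp (t : ↥(chevD4.group k)) (sr 3) ^ Q ∧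
      cX hp (t : ↥(chevD4.group k)) (sr 0) ^ (-1 : ℤ) * cX hp (t : ↥(chevD4.group k)) (sr 1) ^ (-2 : ℤ) *
        cX hp (t : ↥(chevD4.group k)) (sr 2) ^ (-1 : ℤ) * cX hp (t : ↥(chevD4.group k)) (sr 3) ^ (-1 : ℤ) =
        cX hp (t : ↥(chevD4.group k)) (sr 2) ^ Q := by
    intro t ht
    have h1 := rel (e := e) (r := r) hp ht.1 (cX_of_fix hp hτ F ht.1 t.2) hsg hTh
    rw [← hQdef] at h1
    have h2 := h1 3
    have h3 := h1 2
    rw [Fin.prod_univ_four] at h2 h3
    have e1 : gpM 3 0 = 0 ∧ gpM 3 1 = 0 ∧ gpM 3 2 = 1 ∧ gpM 3 3 = 0 := by decide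
    have e2 : gpM 2 0 = -1 ∧ gpM 2 1 = -2 ∧ gpM 2 2 = -1 ∧ gpM 2 3 = -1 := by decide
    rw [e1.1, e1.2.1, e1.2.2.1, e1.2.2.2] at h2
    rw [e2.1, e2.2.1, e2.2.2.1, e2.2.2.2] at h3
    refine ⟨?_, h3⟩
    rw [← h2]; simp
  have hzpow : ∀ a : k, a ≠ 0 → a ^ 3 = 1 → a ^ Q = a := fun a ha h => zpow_eq_self ha ⟨b, hb⟩ h
  have hcz' : cX hp (z : ↥(chevD4.group k)) (sr 0) = 1 ∧ cX hp (z : ↥(chevD4.group k)) (sr 1) = 1 ∧
      cX hp (z : ↥(chevD4.group k)) (sr 2) = ω ∧ cX hp (z : ↥(chevD4.group k)) (sr 3) = ω := by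
    refine ⟨?_, ?_, ?_, ?_⟩ <;> rw [hcz] <;> simp [sr_apply']
  have hω1 : ω ≠ 1 := hω.ne_one (by norm_num)
  have hz3 : z ^ 3 = 1 := by
    apply Subtype.ext
    show (z : ↥(chevD4.group k)) ^ 3 = 1
    refine cX_inj hp (pow_mem hz.1 _) (one_mem _) fun i => ?_
    rw [cX_pow hp hz.1, cX_one, hcz, ← zpow_natCast, ← zpow_mul, mul_comm, zpow_mul]
    have : ω ^ ((3 : ℕ) : ℤ) = 1 := by exact_mod_cast hω3
    rw [this, one_zpow]
  refine ⟨⟨x0, hτx0⟩, ⟨t0, ?_⟩, z, ?_, ?_⟩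
  · show τ t0 = t0
    rw [← hconj, map_mul, map_mul, map_inv, hτy, hτx0]
  · constructor
    · intro a ha b hb
      exact Subtype.ext (TT_comm hp _ ha.1 _ hb.1)
    · exact exp_TG
    · rintro t ⟨ht, i, hi⟩
      refine ⟨rp_conj_mem hp hk hx0 ht, i, ?_⟩
      rw [conj_pow, hi, mul_one, mul_inv_cancel]
    · exact Subtype.ext hx03
    · exact hz
    · intro h
      apply hω1
      rw [← hcz'.2.2.1, h]
      exact cX_one hp _
    · apply Subtype.ext
      have h1 := conj_tor hp hk hx0 hz.1 hz.1 fun x => by rw [hcz, hcz, hcc]; simp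
      show x0 * (z : ↥(chevD4.group k)) = z * x0
      rw [← mul_inv_eq_iff_eq_mul]; exact h1
    · -- cent
      intro t ht htx
      have hx : x0 * (t : ↥(chevD4.group k)) * x0⁻¹ = t := by
        have h1 : x0 * (t : ↥(chevD4.group k)) = t * x0 := congrArg Subtype.val htx
        rw [h1]; group
      have h1 : ∀ x, cX hp (t : ↥(chevD4.group k)) (rep coxeterD4.toCoxeterSystem hp.isCartan cc x) =
          cX hp (t : ↥(chevD4.group k)) x := by
        intro x
        have := cX_rp' hp hk hx0 ht.1 x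
        rwa [hx] at this
      obtain ⟨h2, h3⟩ := hrel t ht
      have n0 := hne _ ht.1 (sr 0)
      have n1 := hne _ ht.1 (sr 1)
      have n2 := hne _ ht.1 (sr 2)
      have n3 := hne _ ht.1 (sr 3)
      have g0 := h1 (sr 0)
      have g1 := h1 (sr 1)
      have g2 := h1 (sr 2)
      rw [hcc, hsr _ ht.1 ![_, _, _, _]] at g0 g1 g2
      simp only [sr_apply', Matrix.cons_val_zero, Matrix.cons_val_one, Matrix.cons_val_two, Matrix.cons_val_three,
        Matrix.tail_cons, Matrix.head_cons] at g0 g1 g2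
      simp only [_root_.Fin.isValue, _root_.zero_ne_one, ↓ _root_.reduceIte, _root_.neg_zero, _root_.Fin.reduceEq, _root_.add_zero, _root_.zpow_ofNat, _root_.pow_zero, _root_.sub_zero, _root_.pow_one, _root_.one_mul, _root_.mul_one, _root_.Int.reduceNeg, _root_.zpow_neg, _root_.one_ne_zero, _root_.zero_sub, _root_.zero_add, _root_.sub_self] at g0 g1 g2
      have k1 : cX hp (t : ↥(chevD4.group k)) (sr 0) * cX hp (t : ↥(chevD4.group k)) (sr 1) = 1 := by
        refine mul_right_cancel₀ n2 ?_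
        rw [one_mul]; exact g2
      have k2 : cX hp (t : ↥(chevD4.group k)) (sr 1) = 1 := by rw [← g1, ← mul_inv, k1, inv_one]
      have k3 : cX hp (t : ↥(chevD4.group k)) (sr 0) = 1 := by rw [← g0]; exact k2
      rw [k2, k3] at h3
      simp only [_root_.Int.reduceNeg, _root_.zpow_neg, _root_.zpow_ofNat, _root_.one_pow, _root_.inv_one, _root_.mul_one, _root_.Fin.isValue, _root_.pow_one, _root_.one_mul] at h3
      have k4 : cX hp (t : ↥(chevD4.group k)) (sr 3) ^ (1 + Q + Q ^ 2) = 1 := by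
        rw [zpow_add₀ n3, zpow_add₀ n3, zpow_one, ← h2, pow_two, zpow_mul, ← h2, ← h3]
        field_simp
      obtain ⟨N, hN⟩ := ht.2
      have hN' : cX hp (t : ↥(chevD4.group k)) (sr 3) ^ 3 ^ N = 1 := by
        rw [← cX_pow hp ht.1]
        have : (t : ↥(chevD4.group k)) ^ 3 ^ N = 1 := congrArg Subtype.val hN
        rw [this, cX_one]
      have k5 := cube_of n3 ⟨b, hb⟩ k4 hN'
      have k6 : cX hp (t : ↥(chevD4.group k)) (sr 2) = cX hp (t : ↥(chevD4.group k)) (sr 3) := by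
        rw [h2]; exact hzpow _ n3 k5
      obtain ⟨i, hi, hi'⟩ := hω.eq_pow_of_pow_eq_one k5
      have k7 : t = z ^ i := by
        apply Subtype.ext
        show (t : ↥(chevD4.group k)) = (z : ↥(chevD4.group k)) ^ i
        refine cX_inj hp ht.1 (pow_mem hz.1 i) fun j => ?_
        rw [cX_pow hp hz.1]
        fin_cases j
        · show cX hp (t : ↥(chevD4.group k)) (sr 0) = cX hp (z : ↥(chevD4.group k)) (sr 0) ^ i
          rw [k3, hcz'.1, one_pow]
        · show cX hp (t : ↥(chevD4.group k)) (sr 1) = cX hp (z : ↥(chevD4.group k)) (sr 1) ^ i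
          rw [k2, hcz'.2.1, one_pow]
        · show cX hp (t : ↥(chevD4.group k)) (sr 2) = cX hp (z : ↥(chevD4.group k)) (sr 2) ^ i
          rw [k6, hcz'.2.2.1, hi']
        · show cX hp (t : ↥(chevD4.group k)) (sr 3) = cX hp (z : ↥(chevD4.group k)) (sr 3) ^ i
          rw [hcz'.2.2.2, hi']
      rw [k7]
      interval_cases i
      · left; exact pow_zero z
      · right; left; exact pow_one z
      · right; right
        rw [eq_inv_iff_mul_eq_one, ← pow_succ, hz3]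
    · -- t0E
      refine ⟨s, hs, Subtype.ext ?_⟩
      show x0 * (s : ↥(chevD4.group k)) * x0⁻¹ * (s : ↥(chevD4.group k))⁻¹ = t0
      rw [mul_inv_eq_iff_eq_mul]
      refine conj_tor hp hk hx0 hs.1 (mul_mem ht0 hs.1) fun x => ?_
      rw [cX_mul hp ht0 hs.1, hct0, hcs, hcs, hωdef, ← zpow_natCast, ← zpow_mul, ← zpow_add₀ hv0, hcc]
      congr 1
      simp only [_root_.Nat.cast_ofNat, _root_.Nat.succ_eq_add_one, _root_.Nat.reduceAdd, _root_.Fin.isValue, _root_.Matrix.cons_val_zero, _root_.neg_add_rev, _root_.neg_neg, _root_.Matrix.cons_val_one, _root_.Matrix.cons_val, _root_.Int.reduceNeg, _root_.mul_neg, _root_.mul_one]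
      ring
    · -- t0ne
      intro h
      have h1 : t0 = 1 := congrArg Subtype.val h
      have h2 := hct0 (sr 1)
      rw [h1, cX_one] at h2
      have h3 : -(sr 1 : Fin 4 → ℤ) 0 + 2 * (sr 1 : Fin 4 → ℤ) 1 - (sr 1 : Fin 4 → ℤ) 2 - (sr 1 : Fin 4 → ℤ) 3 = 2 := by
        simp [sr_apply']
      rw [h3, eq_comm] at h2
      have h4 : ω ^ 2 = 1 := by exact_mod_cast h2
      have h5 := (hω.pow_eq_one_iff_dvd 2).1 h4
      omega
    · -- omega
      have hlog : ∀ t : {t : ↥(TG hp τ 3) // t ^ 3 = 1}, ∃ p : Fin 3 × Fin 3,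
          ω ^ (p.1 : ℕ) = cX hp ((t.1 : ↥(fixS τ)) : ↥(chevD4.group k)) (sr 1) ∧
          ω ^ (p.2 : ℕ) = cX hp ((t.1 : ↥(fixS τ)) : ↥(chevD4.group k)) (sr 3) := by
        rintro ⟨⟨t, ht⟩, h3⟩
        have h4 : (t : ↥(chevD4.group k)) ^ 3 = 1 := congrArg (fun x : ↥(TG hp τ 3) => ((x : ↥(fixS τ)) :
          ↥(chevD4.group k))) h3
        have h5 : ∀ x, cX hp (t : ↥(chevD4.group k)) x ^ 3 = 1 := fun x => by
          rw [← cX_pow hp ht.1, h4, cX_one]
        obtain ⟨i, hi, hi'⟩ := hω.eq_pow_of_pow_eq_one (h5 (sr 1))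
        obtain ⟨j, hj, hj'⟩ := hω.eq_pow_of_pow_eq_one (h5 (sr 3))
        exact ⟨(⟨i, hi⟩, ⟨j, hj⟩), hi', hj'⟩
      choose f hf1 hf2 using hlog
      have hinj : Function.Injective f := by
        intro t t' htt
        have h1 : cX hp ((t.1 : ↥(fixS τ)) : ↥(chevD4.group k)) (sr 1) =
            cX hp ((t'.1 : ↥(fixS τ)) : ↥(chevD4.group k)) (sr 1) := by rw [← hf1, ← hf1, htt]
        have h3 : cX hp ((t.1 : ↥(fixS τ)) : ↥(chevD4.group k)) (sr 3) =
            cX hp ((t'.1 : ↥(fixS τ)) : ↥(chevD4.group k)) (sr 3) := by rw [← hf2, ← hf2, htt]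
        have hdet : ∀ t : {t : ↥(TG hp τ 3) // t ^ 3 = 1},
            cX hp ((t.1 : ↥(fixS τ)) : ↥(chevD4.group k)) (sr 2) =
              cX hp ((t.1 : ↥(fixS τ)) : ↥(chevD4.group k)) (sr 3) ∧
            cX hp ((t.1 : ↥(fixS τ)) : ↥(chevD4.group k)) (sr 0) =
              cX hp ((t.1 : ↥(fixS τ)) : ↥(chevD4.group k)) (sr 1) := by
          rintro ⟨⟨t, ht⟩, h3⟩
          have h4 : (t : ↥(chevD4.group k)) ^ 3 = 1 := congrArg (fun x : ↥(TG hp τ 3) => ((x : ↥(fixS τ)) :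
            ↥(chevD4.group k))) h3
          have h5 : ∀ x, cX hp (t : ↥(chevD4.group k)) x ^ 3 = 1 := fun x => by
            rw [← cX_pow hp ht.1, h4, cX_one]
          obtain ⟨r1, r2⟩ := hrel t ht
          have n0 := hne _ ht.1 (sr 0)
          have n1 := hne _ ht.1 (sr 1)
          have n2 := hne _ ht.1 (sr 2)
          have n3 := hne _ ht.1 (sr 3)
          have s2 : cX hp (t : ↥(chevD4.group k)) (sr 2) = cX hp (t : ↥(chevD4.group k)) (sr 3) := by
            rw [r1]; exact hzpow _ n3 (h5 _)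
          refine ⟨s2, ?_⟩
          rw [hzpow _ n2 (h5 _), s2] at r2
          have h6 := h5 (sr 1)
          have h7 := h5 (sr 3)
          show cX hp (t : ↥(chevD4.group k)) (sr 0) = cX hp (t : ↥(chevD4.group k)) (sr 1)
          have e2 : cX hp (t : ↥(chevD4.group k)) (sr 1) ^ (-2 : ℤ) = cX hp (t : ↥(chevD4.group k)) (sr 1) := by
            have : cX hp (t : ↥(chevD4.group k)) (sr 1) ^ (-2 : ℤ) =
                cX hp (t : ↥(chevD4.group k)) (sr 1) ^ (-2 : ℤ) * cX hp (t : ↥(chevD4.group k)) (sr 1) ^ 3 := by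
              rw [h6, mul_one]
            rw [this, ← zpow_natCast, ← zpow_add₀ n1]
            norm_num
          rw [e2, zpow_neg_one, zpow_neg_one] at r2
          field_simp at r2
          rw [h7, mul_one] at r2
          exact r2.symm
        obtain ⟨d1, d2⟩ := hdet t
        obtain ⟨d1', d2'⟩ := hdet t'
        refine Subtype.ext (Subtype.ext (Subtype.ext (cX_inj hp t.1.2.1 t'.1.2.1 fun j => ?_)))
        fin_cases j
        · show cX hp ((t.1 : ↥(fixS τ)) : ↥(chevD4.group k)) (sr 0) = cX hp ((t'.1 : ↥(fixS τ)) : ↥(chevD4.group k)) (sr 0)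
          rw [d2, d2', h1]
        · exact h1
        · show cX hp ((t.1 : ↥(fixS τ)) : ↥(chevD4.group k)) (sr 2) = cX hp ((t'.1 : ↥(fixS τ)) : ↥(chevD4.group k)) (sr 2)
          rw [d1, d1', h3]
        · exact h3
      have h9 := Nat.card_le_card_of_injective f hinj
      rw [Nat.card_prod, Nat.card_fin] at h9
      exact h9
    · exact ⟨⟨y, hτy⟩, Subtype.ext hconj⟩
    · exact hVP
    · -- ne
      intro g hg
      have h1 : (g : ↥(chevD4.group k)) * z * (g : ↥(chevD4.group k))⁻¹ = t0 := congrArg Subtype.val hg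
      obtain ⟨w, hw⟩ := wconj hp hk r hz.1 ht0 h1
      have key : ∀ x, cX hp (z : ↥(chevD4.group k)) x = 1 →
          (3 : ℤ) ∣ ∑ n, Am 1 n * rep coxeterD4.toCoxeterSystem hp.isCartan w x n := by
        intro x hx
        have h2 := hw x
        rw [hct0, hx] at h2
        rw [hAm']
        exact_mod_cast (hω.zpow_eq_one_iff_dvd _).1 h2
      have hA' := (isRoot_sr coxeterD4.toCoxeterSystem hp.isCartan 0).act w
      have hB' := (isRoot_sr coxeterD4.toCoxeterSystem hp.isCartan 1).act w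
      have hC' : IsRoot coxeterD4.toCoxeterSystem hp.isCartan (vec chevD4 4 19) :=
        isRoot_vec hp _ (by decide)
      have hC'' := hC'.act w
      have e19 : vec chevD4 4 19 = sr 0 + sr 1 := by
        funext i
        rw [Pi.add_apply, sr_apply', sr_apply']
        revert i
        decide +kernel
      rw [e19, map_add] at hC''
      obtain ⟨ra, hra, ea⟩ := (isRoot_iff hp _ _).1 hA'
      obtain ⟨rb, hrb, eb⟩ := (isRoot_iff hp _ _).1 hB'
      obtain ⟨rc, hrc, ec⟩ := (isRoot_iff hp _ _).1 hC''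
      have hn : chevD4.nroots = 24 := rfl
      rw [hn] at hra hrb hrc
      refine chk_kernel ⟨ra, hra⟩ ⟨rb, hrb⟩ ?_ ?_ ⟨rc, hrc⟩ fun i => ?_
      · show (3 : ℤ) ∣ ∑ n, Am 1 n * vec chevD4 4 ra n
        rw [ea]
        exact key _ hcz'.1
      · show (3 : ℤ) ∣ ∑ n, Am 1 n * vec chevD4 4 rb n
        rw [eb]
        exact key _ hcz'.2.1
      · show vec chevD4 4 ra i + vec chevD4 4 rb i = vec chevD4 4 rc i
        rw [ea, eb, ec, Pi.add_apply]
  · -- the order of the torus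
    obtain ⟨ζ, hζ⟩ := hroot (a + 1)
    obtain ⟨c, hc⟩ := hq
    push_cast at hc
    have hex : ∀ i j : ℕ, ∃ t ∈ TG hp τ 3, ∀ x, cX hp (t : ↥(chevD4.group k)) x =
        ζ ^ (x 0 * (-(i : ℤ) * (1 + Q + Q ^ 2) - 6 * (j : ℤ)) + x 1 * (3 * (j : ℤ)) +
          x 2 * ((i : ℤ) * Q) + x 3 * (i : ℤ)) := by
      intro i j
      refine mk_T hp hτ F hsg hTh hζ.pow_eq_one hQdef _ _ _ _ ?_ ?_ ?_ ?_
      · refine ⟨-c * ((i : ℤ) * (1 + 3 * (b + b ^ 2)) + 2 * (j : ℤ)), ?_⟩
        push_cast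
        have e1 : 1 + Q + Q ^ 2 = 3 * (1 + 3 * (b + b ^ 2)) := by rw [hQb]; ring
        rw [e1, hc, pow_succ]
        ring
      · refine ⟨c * (j : ℤ), ?_⟩
        push_cast
        rw [pow_succ, hc]
        ring
      · refine ⟨0, ?_⟩
        ring
      · refine ⟨0, ?_⟩
        ring
    choose f hf hfc using hex
    have hinj : Function.Injective (fun p : Fin (3 ^ (a + 1)) × Fin (3 ^ a) =>
        (⟨f p.1 p.2, hf p.1 p.2⟩ : ↥(TG hp τ 3))) := by
      rintro ⟨i, j⟩ ⟨i', j'⟩ h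
      have h1 : f i j = f i' j' := congrArg Subtype.val h
      have h2 : cX hp (f i j : ↥(chevD4.group k)) (sr 3) = cX hp (f i' j' : ↥(chevD4.group k)) (sr 3) := by rw [h1]
      have h3 : cX hp (f i j : ↥(chevD4.group k)) (sr 1) = cX hp (f i' j' : ↥(chevD4.group k)) (sr 1) := by rw [h1]
      rw [hfc, hfc] at h2 h3
      simp only [sr_apply', _root_.Fin.isValue, _root_.Fin.reduceEq, ↓ _root_.reduceIte, _root_.neg_mul, _root_.MulZeroClass.zero_mul, _root_.add_zero, _root_.one_mul, _root_.zero_add, _root_.zpow_natCast, _root_.one_ne_zero] at h2 h3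
      have h4 := hζ.pow_inj i.2 i'.2 h2
      have h5 : ζ ^ (3 * (j : ℕ)) = ζ ^ (3 * (j' : ℕ)) := by exact_mod_cast h3
      have h6 := hζ.pow_inj (by have := j.2; rw [pow_succ]; omega) (by have := j'.2; rw [pow_succ]; omega) h5
      exact Prod.ext (Fin.ext h4) (Fin.ext (by show (j : ℕ) = j'; omega))
    have h9 := Nat.card_le_card_of_injective _ hinj
    rw [Nat.card_prod, Nat.card_fin, Nat.card_fin, ← pow_add] at h9
    have e1 : 2 * a + 1 = a + 1 + a := by ring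
    rw [e1]
    exact h9

end Final

/-! ### the theorem -/

/-- the `3`-part of the order -/
theorem not_dvd_ord {Q c : ℤ} {a : ℕ} (hc : Q - 1 = 3 ^ a * c) (ha : 0 < a) (hc3 : ¬ (3 : ℤ) ∣ c) :
    ¬ (3 : ℤ) ^ (2 * a + 3) ∣ Q ^ 12 * (Q ^ 2 - 1) * (Q ^ 6 - 1) * (Q ^ 8 + Q ^ 4 + 1) := by
  intro h
  have h3 : Prime (3 : ℤ) := Int.prime_three
  obtain ⟨b, hb⟩ : (3 : ℤ) ∣ Q - 1 := by rw [hc]; exact Dvd.dvd.mul_right (dvd_pow_self 3 ha.ne') c
  have hQ : Q = 1 + 3 * b := by linarith only [hb]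
  obtain ⟨u, hu⟩ : ∃ u, Q ^ 2 = 1 + 3 * u := ⟨2 * b + 3 * b ^ 2, by rw [hQ]; ring⟩
  obtain ⟨v, hv⟩ : ∃ v, Q ^ 4 = 1 + 3 * v := ⟨2 * u + 3 * u ^ 2, by
    have : Q ^ 4 = (Q ^ 2) ^ 2 := by ring
    rw [this, hu]; ring⟩
  have e : Q ^ 12 * (Q ^ 2 - 1) * (Q ^ 6 - 1) * (Q ^ 8 + Q ^ 4 + 1) =
      3 ^ (2 * a + 2) * (Q ^ 12 * (1 + 3 * (u + u ^ 2)) * (1 + 3 * (v + v ^ 2)) * (Q + 1) ^ 2 * c ^ 2) := by
    have e1 : Q ^ 2 - 1 = 3 ^ a * (c * (Q + 1)) := by
      have : Q ^ 2 - 1 = (Q - 1) * (Q + 1) := by ring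
      rw [this, hc]; ring
    have e2 : Q ^ 6 - 1 = (Q ^ 2 - 1) * ((Q ^ 2) ^ 2 + Q ^ 2 + 1) := by ring
    have e3 : Q ^ 8 + Q ^ 4 + 1 = 3 * (1 + 3 * (v + v ^ 2)) := by
      have : Q ^ 8 = (Q ^ 4) ^ 2 := by ring
      rw [this, hv]; ring
    have e4 : (Q ^ 2) ^ 2 + Q ^ 2 + 1 = 3 * (1 + 3 * (u + u ^ 2)) := by rw [hu]; ring
    have e5 : (3 : ℤ) ^ (2 * a + 2) = (3 ^ a) ^ 2 * 9 := by ring
    rw [e2, e3, e4, e1, e5]
    generalize (3 : ℤ) ^ a = P
    ring
  rw [e, show 2 * a + 3 = (2 * a + 2) + 1 by ring, pow_succ] at h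
  have h5 := Int.dvd_of_mul_dvd_mul_left (pow_ne_zero (2 * a + 2) three_ne_zero) h
  have hn : ∀ w : ℤ, ¬ (3 : ℤ) ∣ 1 + 3 * w := fun w hw => by omega
  have hQ3 : ¬ (3 : ℤ) ∣ Q := by omega
  have hQ4 : ¬ (3 : ℤ) ∣ Q + 1 := by omega
  rcases h3.dvd_or_dvd h5 with h5 | h5
  · rcases h3.dvd_or_dvd h5 with h5 | h5
    · rcases h3.dvd_or_dvd h5 with h5 | h5
      · rcases h3.dvd_or_dvd h5 with h5 | h5
        · exact hQ3 (h3.dvd_of_dvd_pow h5)
        · exact hn _ h5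
      · exact hn _ h5
    · exact hQ4 (h3.dvd_of_dvd_pow h5)
  · exact hc3 (h3.dvd_of_dvd_pow h5)

open Cfsg.Agent.H720.TwFr Cfsg.Agent.H795.NotAbRows in
/-- **`³D₄(q)`, `p = 3`.** -/
theorem full_twD4 {K : Type u} [Field K] [Fintype K] {q : ℕ} (h3 : (3 : K) ≠ 0) (hq : IsPrimePow q)
    (hK : Fintype.card K = q ^ 3) : Exc.Full 3 ↥(twistedD4 K q) := by
  obtain ⟨r, n, hr, hrF, hrk, hn0, hn, hk⟩ := Cfsg.Agent.H795.Tw.exists_closure_q three_ne_zero hq hK
  have h3r : 3 ≠ r := by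
    rintro rfl
    exact h3 (by exact_mod_cast CharP.cast_eq_zero K 3)
  have h3' : Fact (Nat.Prime 3) := ⟨Nat.prime_three⟩
  let k := AlgebraicClosure K
  let f := em4 (algebraMap K k) (tw4_le hq hK)
  have hf : Function.Injective f := em4_injective _ _
  have hfix : ∀ x, sig4 k r n (f x) = f x := em4_fix _ r (tw4_le hq hK) hn0 hn hK
  have hsurj : ∀ y, sig4 k r n y = y → ∃ x, f x = y := fun y hy => desc4 _ r (tw4_le hq hK) hk hn0 hn hK hy
  have hσ : IsFrob r n (sig4 k r n) := isFrob_sig4 r n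
  have F := fr_sig4 hk r hp4 coxeterD4.toCoxeterSystem n
  have hB : InvC chevD4 4 2 ![![2, 2, 1, 1], ![2, 4, 2, 2], ![1, 2, 2, 1], ![1, 2, 1, 2]] := invC_D4
  have hq2 : 2 ≤ q := hq.two_le
  -- the sign
  obtain ⟨sg, hsg, hsq, hw1, hw2⟩ : ∃ sg : ℤ, (sg = 1 ∨ sg = -1) ∧ (3 : ℤ) ∣ sg * ((r ^ n : ℕ) : ℤ) - 1 ∧
      (∃ w : coxeterD4.Group, ∀ j, rep coxeterD4.toCoxeterSystem hp4.isCartan w (permE rho4 (sr j)) =
        fun m => sg * gpM j m) ∧
      ∃ n' z', n' = z'⁻¹ * sig4 k r n z' ∧ VP ↥(fixS (MulAut.conj n' * sig4 k r n)) := by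
    have hperm : ∀ j, permE rho4 (sr j) = triM j := perm4_mat
    rcases res3 (e := n) hr.out h3r with h | h
    · refine ⟨1, Or.inl rfl, ?_, ⟨wp, fun j => ?_⟩, ?_⟩
      · rw [one_mul]
        have h1 : (((r ^ n : ℕ) : ℤ) : ZMod 3) = ((1 : ℤ) : ZMod 3) := by rw [← h]; push_cast; rfl
        have h2 := (ZMod.intCast_eq_intCast_iff_dvd_sub _ _ _).1 h1.symm
        exact_mod_cast h2
      · rw [hperm]
        funext m
        rw [(is_wp hp4).apply]
        revert j m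
        decide +kernel
      · exact vp_of_cert hp4 hk hn0 hσ F h3r hB two_ne_zero hperm (is_vp hp4) (is_u1 hp4) (is_u2 hp4) h cert_p
    · refine ⟨-1, Or.inr rfl, ?_, ⟨wn, fun j => ?_⟩, ?_⟩
      · have h1 : (((r ^ n : ℕ) : ℤ) : ZMod 3) = ((-1 : ℤ) : ZMod 3) := by rw [← h]; push_cast; rfl
        have h2 := (ZMod.intCast_eq_intCast_iff_dvd_sub _ _ _).1 h1.symm
        have h4 : (-1 : ℤ) * ((r ^ n : ℕ) : ℤ) - 1 = -(((r ^ n : ℕ) : ℤ) - -1) := by ring
        rw [h4, dvd_neg]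
        exact_mod_cast h2
      · rw [hperm]
        funext m
        rw [(is_wn hp4).apply]
        revert j m
        decide +kernel
      · exact vp_of_cert hp4 hk hn0 hσ F h3r hB two_ne_zero hperm (is_vn hp4) (is_u1 hp4) (is_u2 hp4) h cert_n
  obtain ⟨w, hw⟩ := hw1
  obtain ⟨n1, z1, hn1, hz1, hτ, Fτ⟩ := exists_tau hp4 hk hn0 hσ F w
  obtain ⟨n2, z2, hz2, hVP⟩ := hw2
  obtain ⟨e1⟩ := iso_of hf hfix hsurj hz1
  obtain ⟨e2⟩ := iso_of hf hfix hsurj hz2
  have hVP1 : VP ↥(fixS (MulAut.conj n1 * sig4 k r n)) := hVP.congr (e2.symm.trans e1)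
  have hGfin : Finite ↥(twistedD4 K q) := inferInstance
  have hfin1 : Finite ↥(fixS (MulAut.conj n1 * sig4 k r n)) := Finite.of_equiv _ e1.toEquiv
  -- the exponent
  have hQ1 : sg * ((r ^ n : ℕ) : ℤ) ≠ 1 := by
    rw [← hn]
    rcases hsg with h | h <;> rw [h] <;> omega
  obtain ⟨a, c, hc3, hc⟩ : ∃ (a : ℕ) (c : ℤ), ¬ (3 : ℤ) ∣ c ∧ sg * ((r ^ n : ℕ) : ℤ) - 1 = 3 ^ a * c := by
    have hfm : FiniteMultiplicity (3 : ℤ) (sg * ((r ^ n : ℕ) : ℤ) - 1) :=
      Int.finiteMultiplicity_iff.2 ⟨by decide, sub_ne_zero.2 hQ1⟩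
    obtain ⟨c, h1, h2⟩ := hfm.exists_eq_pow_mul_and_not_dvd
    exact ⟨_, c, h2, h1⟩
  have ha : 0 < a := by
    rcases Nat.eq_zero_or_pos a with h | h
    · rw [h, pow_zero, one_mul] at hc
      rw [hc] at hsq
      exact absurd hsq hc3
    · exact h
  obtain ⟨x0, t0, z, HT, hT⟩ := triHyp hk hp4 hτ Fτ hsg (fun j => hw j) h3r ha ⟨c, by push_cast; rw [← hc]; push_cast; ring⟩
    hQ1 hVP1
  refine Exc.full_congr e1.symm (HT.full ?_)
  intro hdvd
  have hTp : IsPGroup 3 (TG hp4 (MulAut.conj n1 * sig4 k r n) 3) := HT.isPGroup.to_le HT.T_le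
  obtain ⟨m, hm⟩ := IsPGroup.iff_card.1 hTp
  rw [hm] at hT hdvd
  have hm' : 2 * a + 1 ≤ m := (Nat.pow_le_pow_iff_right (by norm_num)).1 hT
  have h5 : 3 ^ (2 * a + 3) ∣ Nat.card ↥(twistedD4 K q) := by
    have h6 : 3 ^ (2 * a + 3) ∣ 9 * 3 ^ m := by
      have : 9 * 3 ^ m = 3 ^ (m + 2) := by rw [pow_add]; ring
      rw [this]
      exact Nat.pow_dvd_pow 3 (by omega)
    have h7 : Nat.card ↥(twistedD4 K q) = Nat.card ↥(fixS (MulAut.conj n1 * sig4 k r n)) :=
      Nat.card_congr e1.toEquiv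
    rw [h7]
    exact h6.trans hdvd
  rw [Cfsg.Agent.S1067.result hq hK] at h5
  have hq1 : 1 ≤ q ^ 2 := Nat.one_le_pow _ _ (by omega)
  have hq6 : 1 ≤ q ^ 6 := Nat.one_le_pow _ _ (by omega)
  have h6 := Int.natCast_dvd_natCast.2 h5
  refine not_dvd_ord hc ha hc3 ?_
  rw [← hn]
  have h8 : (sg * (q : ℤ)) ^ 12 * ((sg * (q : ℤ)) ^ 2 - 1) * ((sg * (q : ℤ)) ^ 6 - 1) *
      ((sg * (q : ℤ)) ^ 8 + (sg * (q : ℤ)) ^ 4 + 1) = (q : ℤ) ^ 12 * ((q : ℤ) ^ 2 - 1) * ((q : ℤ) ^ 6 - 1) *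
      ((q : ℤ) ^ 8 + (q : ℤ) ^ 4 + 1) := by
    rcases hsg with h | h <;> rw [h] <;> ring
  rw [h8]
  push_cast [Nat.cast_sub hq1, Nat.cast_sub hq6] at h6
  exact h6

/-- **`³D₄(q)`, `p = 3`.** -/
theorem fullP_twD4 {K : Type u} [Field K] [Fintype K] {q : ℕ} (h3 : (3 : K) ≠ 0) (hq : IsPrimePow q)
    (hK : Fintype.card K = q ^ 3) : H749.FullP 3 ↥(twistedD4 K q) := by
  have h3' : Fact (Nat.Prime 3) := ⟨Nat.prime_three⟩
  have hGfin : Finite ↥(twistedD4 K q) := inferInstance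
  exact Exc.fullP_of_full (full_twD4 h3 hq hK)

end Cfsg.Agent.H790.TriMain

private theorem dce_b5e5e3f6e0b9 : _root_.True := by
  try have : _root_.True := by simp only [_root_.Cfsg.Agent.H790.TriMain.gpM.eq_1]
  try have : _root_.True := by simp only [_root_.Cfsg.Agent.H790.TriMain.cD.eq_1]
  try have : _root_.True := by simp only [_root_.Cfsg.Agent.H790.TriData.ccM.eq_1]
  exact _root_.True.intro
end

-- part: H790/TwPair
section
set_option linter.all false
open scoped Cfsg.Agent.FastGrp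

/-!
# Levi subgroups commuting with their image under a twisted Frobenius (helper790)

* `exists_x0_mem` : `exists_x0` with membership in the Levi subgroup;
* `exists_pair` : `R` the Levi subgroup, `R` commutes with `τ(R)`, `τ²` acts as `-q²`: a `τ`-fixed element `g0 τ(g0)`
  of order `n` conjugate by a `τ`-fixed element to a torus element.
-/

set_option autoImplicit false
set_option linter.unusedSectionVars false

namespace Cfsg.Agent.H790.TwPair

open CoxeterSystem Cfsg Cfsg.Lie Cfsg.Lie.ChevalleyDatum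
open Cfsg.Agent.ChevalleyStructure Cfsg.Agent.ChevalleyStructure.Elts Cfsg.Agent.ChevalleyStructure.CoxeterGeom
  Cfsg.Agent.ChevalleyStructure.CoxeterGeomTypes Cfsg.Agent.ChevalleyStructure.NPerm
open Cfsg.Agent.Tits.Roots Cfsg.Agent.Tits.Core Cfsg.Agent.Nodes Cfsg.Agent.Nodes.Reps Cfsg.Agent.Nodes.BNOf
  Cfsg.Agent.Nodes.RGDChev Cfsg.Agent.Nodes.Bruhat Cfsg.Agent.Nodes.SubComb Cfsg.Agent.Nodes.Coroot
open Cfsg.Agent.KFacts.RgdField Cfsg.Agent.KFacts.RgdChevCoord Cfsg.Agent.BpExc.TorCent Cfsg.Agent.BpExc.TorChev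
open Cfsg.Agent.GpExc.Field Cfsg.Agent.BpExc.Tow Cfsg.Agent.BpExc.TowChev Cfsg.Agent.BpExc.Fr
  Cfsg.Agent.BpExc.LangFr Cfsg.Agent.LangThm Cfsg.Agent.BpExc Cfsg.Agent.H129.TorusChar
open Cfsg.Agent.AGraded Cfsg.Agent.CTFrame Cfsg.Agent.TitsThree.KExcRT Cfsg.Agent.H629.ExcSL Cfsg.Agent.H629.ExcTor
  Cfsg.Agent.H629.ExcLevi Cfsg.Agent.H790.TwLevi

universe u

/-- the Levi subgroup of a table -/
def leviR (D : ChevalleyDatum) (l n : ℕ) (k : Type u) [Field k] (rt : Fin n → Fin n → ℕ) : Subgroup ↥(D.group k) :=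
  Subgroup.closure {y | ∃ i j : Fin n, i ≠ j ∧ y ∈ XX D l k (vec D l (rt i j))}

theorem exists_x0_mem {D : ChevalleyDatum} {l : ℕ} {M : CoxeterMatrix (Fin l)} {hp : IsType D l M} {k : Type u}
    [Field k] [IsAlgClosed k] {W : Type*} [Group W] {cs : CoxeterSystem M W} {hN : NSys M (TT D k) (nc hp k)}
    {n : ℕ} {rt : Fin n → Fin n → ℕ} {s : Fin n → Fin n → ℤ} {c : ℕ → Fin l} (h : LTab D n l rt s c)
    (hn : 3 ≤ n) (hodd : Odd n) {m : Fin l}
    (hm : IsCoprime (∑ j ∈ Finset.range (n - 1), ((j : ℤ) + 1) * cartanOf D l (c j) m) (n : ℤ))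
    {r e : ℕ} [Fact r.Prime] [CharP k r] {τ : MulAut ↥(D.group k)} {θ : (Fin l → ℤ) ≃+ (Fin l → ℤ)} {sg : ℤ}
    (L : LFr (k := k) cs hp n rt c r e τ θ sg) (hQ1 : sg * ((r ^ e : ℕ) : ℤ) ≠ 1)
    (hnQ : (n : ℤ) ∣ sg * ((r ^ e : ℕ) : ℤ) - 1) {ω : k} (hω : IsPrimitiveRoot ω n) :
    ∃ x0 y t0 : ↥(D.group k), x0 ∈ leviR D l n k rt ∧ y ∈ leviR D l n k rt ∧ t0 ∈ leviR D l n k rt ∧
      Rp cs hN (cw cs c (n - 1)) x0 ∧ τ x0 = x0 ∧ x0 ^ n = 1 ∧ τ y = y ∧
      y * x0 * y⁻¹ = t0 ∧ t0 ∈ TT D k ∧ t0 ^ n = 1 := by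
  have : NeZero n := ⟨by omega⟩
  obtain ⟨φ, h1, hker⟩ := exists_phi (k := k) hp h hn
  have hinj := phi_inj hp h h1 hker hm
  have hr := range_tau' h L h1
  have hQ : ∀ A ∈ DD n k, τ (φ A) = φ A ^ (sg * ((r ^ e : ℕ) : ℤ)) := fun A hA => tau_DD h L h1 hA
  have hQ0 : sg * ((r ^ e : ℕ) : ℤ) ≠ 0 := by
    have h2 : ((r ^ e : ℕ) : ℤ) ≠ 0 := by
      have := pow_pos (Fact.out : r.Prime).pos e
      exact_mod_cast this.ne'
    rcases L.sgn with h | h <;> rw [h] <;> simpa using h2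
  have hR : ∀ x, φ x ∈ leviR D l n k rt := by
    intro x
    have hx : x ∈ Subgroup.closure (Cfsg.Agent.LieClassical.SLGen.transvections (Fin n) k) := by
      rw [Cfsg.Agent.LieClassical.SLGen.closure_transvections]; exact Subgroup.mem_top x
    induction hx using Subgroup.closure_induction with
    | mem x hx =>
      obtain ⟨i, j, hij, a, rfl⟩ := hx
      rw [← xt_eq hij]
      exact Subgroup.subset_closure ⟨i, j, hij, (mem_XX_vec hp (h.ta i j hij)).2 ⟨_, h1 i j hij a⟩⟩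
    | one => rw [map_one]; exact one_mem _
    | mul x y _ _ hx hy => rw [map_mul]; exact mul_mem hx hy
    | inv x _ hx => rw [map_inv]; exact inv_mem hx
  obtain ⟨d, hd, e1⟩ := exists_DD_tau hodd hω hinj hr hQ hQ0
  obtain ⟨s', hs', e2⟩ := exists_fixed hQ hQ1 hd e1
  obtain ⟨y, hy, hy1, hy2⟩ := exists_conj hodd hω hinj hr hQ hQ1 hnQ hs' e2
  have hdn : φ (del hodd hω) ^ n = 1 := del_pow hodd hω
  have hX := cX_del (hp := hp) h h1 hodd hω
  refine ⟨φ (P0 k hodd * s'), y, φ (del hodd hω), hR _, ?_, hR _, ?_, e2, ?_, hy1, hy2, hX.1, hdn⟩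
  · obtain ⟨y', rfl⟩ := hy
    exact hR y'
  · rw [map_mul]
    exact (rp_P0 (cs := cs) (hN := hN) h h1 hodd).mul_mem_right (phi_DD_mem hp h h1 hs')
  · have h2 : (y * φ (P0 k hodd * s') * y⁻¹) ^ n = 1 := by rw [hy2]; exact hdn
    rw [conj_pow] at h2
    calc φ (P0 k hodd * s') ^ n = y⁻¹ * (y * φ (P0 k hodd * s') ^ n * y⁻¹) * y := by group
      _ = 1 := by rw [h2]; group

/-- **Commuting Levi subgroups.** -/
theorem comm_levi {D : ChevalleyDatum} {l : ℕ} {M : CoxeterMatrix (Fin l)} {hp : IsType D l M} {k : Type u}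
    [Field k] {n : ℕ} {rt im : Fin n → Fin n → ℕ}
    (hnil : ∀ i j i' j' : Fin n, i ≠ j → i' ≠ j' → Cfsg.Agent.TitsThree.KExcBase.NilTab D (rt i j) (im i' j'))
    {W : Type*} [Group W] {cs : CoxeterSystem M W} {τ : MulAut ↥(D.group k)} {θ : (Fin l → ℤ) ≃+ (Fin l → ℤ)}
    (F : Fr cs hp.isCartan (TT D k) (XX D l k) τ θ)
    (hrt : ∀ i j : Fin n, i ≠ j → θ (vec D l (rt i j)) = vec D l (im i j)) :
    ∀ y ∈ leviR D l n k rt, ∀ y' ∈ leviR D l n k rt, y * τ y' = τ y' * y := by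
  intro y hy y' hy'
  -- the generators
  have key : ∀ i j : Fin n, i ≠ j → ∀ y ∈ XX D l k (vec D l (rt i j)), ∀ i' j' : Fin n, i' ≠ j' →
      ∀ y' ∈ XX D l k (vec D l (rt i' j')), y * τ y' = τ y' * y := by
    intro i j hij y hy i' j' hij' y' hy'
    obtain ⟨g1, g2, g3, g4, g5⟩ := hnil i j i' j' hij hij'
    have g1' : rt i' j' < D.nroots := (hnil i' j' i j hij' hij).1
    have h1 := (F.map _ (isRoot_vec hp cs g1') y').2 hy'
    rw [hrt i' j' hij'] at h1
    obtain ⟨a, ha⟩ := (mem_XX_vec hp g1).1 hy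
    obtain ⟨b, hb⟩ := (mem_XX_vec hp g2).1 h1
    apply Subtype.ext
    rw [Subgroup.coe_mul, Subgroup.coe_mul, ha, hb]
    exact Cfsg.Agent.TitsThree.KExcBase.comm_nil hp.inList g1 g2 g3 g4 g5 a b
  have h1 : ∀ i j : Fin n, i ≠ j → ∀ z ∈ XX D l k (vec D l (rt i j)), ∀ y' ∈ leviR D l n k rt,
      z * τ y' = τ y' * z := by
    intro i j hij z hz y' hy'
    induction hy' using Subgroup.closure_induction with
    | mem x hx =>
      obtain ⟨i', j', hij', hx⟩ := hx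
      exact key i j hij z hz i' j' hij' x hx
    | one => rw [map_one, mul_one, one_mul]
    | mul x y _ _ hx hy =>
      rw [map_mul]
      exact ((show Commute z (τ x) from hx).mul_right (show Commute z (τ y) from hy))
    | inv x _ hx =>
      rw [map_inv]
      exact (show Commute z (τ x) from hx).inv_right
  induction hy using Subgroup.closure_induction with
  | mem x hx =>
    obtain ⟨i, j, hij, hx⟩ := hx
    exact h1 i j hij x hx y' hy'
  | one => rw [mul_one, one_mul]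
  | mul x y _ _ hx hy => exact ((show Commute x (τ y') from hx).mul_left (show Commute y (τ y') from hy))
  | inv x _ hx => exact (show Commute x (τ y') from hx).inv_left

/-- **The pair.** -/
theorem exists_pair {D : ChevalleyDatum} {l : ℕ} {M : CoxeterMatrix (Fin l)} {hp : IsType D l M} {k : Type u}
    [Field k] [IsAlgClosed k] {W : Type*} [Group W] {cs : CoxeterSystem M W} {hN : NSys M (TT D k) (nc hp k)}
    {n : ℕ} {rt : Fin n → Fin n → ℕ} {s : Fin n → Fin n → ℤ} {c : ℕ → Fin l} (h : LTab D n l rt s c)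
    (hn : 3 ≤ n) (hodd : Odd n) {m : Fin l}
    (hm : IsCoprime (∑ j ∈ Finset.range (n - 1), ((j : ℤ) + 1) * cartanOf D l (c j) m) (n : ℤ))
    {r e : ℕ} [Fact r.Prime] [CharP k r] {τ : MulAut ↥(D.group k)} {θ θ' : (Fin l → ℤ) ≃+ (Fin l → ℤ)} {sg : ℤ}
    (F : Fr cs hp.isCartan (TT D k) (XX D l k) τ θ')
    (L : LFr (k := k) cs hp n rt c r e (τ * τ) θ sg) (hQ1 : sg * ((r ^ e : ℕ) : ℤ) ≠ 1)
    (hnQ : (n : ℤ) ∣ sg * ((r ^ e : ℕ) : ℤ) - 1) {ω : k} (hω : IsPrimitiveRoot ω n)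
    (hcomm : ∀ y ∈ leviR D l n k rt, ∀ y' ∈ leviR D l n k rt, y * τ y' = τ y' * y) :
    ∃ g0 y t0 : ↥(D.group k), Rp cs hN (cw cs c (n - 1)) g0 ∧ τ (g0 * τ g0) = g0 * τ g0 ∧ (g0 * τ g0) ^ n = 1 ∧
      τ y = y ∧ y * (g0 * τ g0) * y⁻¹ = t0 ∧ t0 ∈ TT D k := by
  obtain ⟨g, y, t, hg, hy, ht, hgr, hτg, hgn, hτy, hyg, htT, -⟩ := exists_x0_mem (hN := hN) h hn hodd hm L hQ1 hnQ hω
  have hτg' : τ (τ g) = g := hτg
  have hτy' : τ (τ y) = y := hτy
  refine ⟨g, y * τ y, t * τ t, hgr, ?_, ?_, ?_, ?_, mul_mem htT ((F.tor t).2 htT)⟩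
  · rw [map_mul, hτg', hcomm g hg g hg]
  · have h1 : Commute g (τ g) := hcomm g hg g hg
    rw [h1.mul_pow, hgn, ← map_pow, hgn, map_one, mul_one]
  · rw [map_mul, hτy', hcomm y hy y hy]
  · have h1 := hcomm g hg y hy
    have h4 : τ y * τ g * (τ y)⁻¹ = τ t := by rw [← hyg]; simp only [map_mul, map_inv]
    calc y * τ y * (g * τ g) * (y * τ y)⁻¹ = y * (τ y * g) * τ g * (τ y)⁻¹ * y⁻¹ := by group
      _ = y * (g * τ y) * τ g * (τ y)⁻¹ * y⁻¹ := by rw [← h1]
      _ = y * g * (τ y * τ g * (τ y)⁻¹) * y⁻¹ := by group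
      _ = y * g * y⁻¹ * (y * τ t) * y⁻¹ := by rw [h4]; group
      _ = y * g * y⁻¹ * (τ t * y) * y⁻¹ := by rw [hcomm y hy t ht]
      _ = t * τ t := by rw [hyg]; group

end Cfsg.Agent.H790.TwPair
end

-- part: H790/E8Data
section
set_option linter.all false
open scoped Cfsg.Agent.FastGrp

/-!
# Weyl group data for `E₈(q)`, `p = 5`, `q² ≡ -1` (helper790)

`w² = -1`; `w` maps the subsystem `A₄` on the nodes `0, 2, 3, 1` to the orthogonal one; `dd`, `pp` commute with `w`,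
`dd` acts by signs on the roots `av j`, `pp` permutes them cyclically.
-/

set_option autoImplicit false
set_option linter.unusedSectionVars false
set_option linter.style.longLine false
set_option maxRecDepth 100000

namespace Cfsg.Agent.H790.E8Data

open CoxeterSystem Cfsg Cfsg.Lie Cfsg.Lie.ChevalleyDatum
open Cfsg.Agent.ChevalleyStructure.CoxeterGeomTypes Cfsg.Agent.Nodes.RGDChev
open Cfsg.Agent.H129.WData Cfsg.Agent.H795.NotAbCert Cfsg.Agent.H629.ExcLevi

abbrev Am : Mat 8 := Cfsg.Agent.H795.NotAbData.E8.Am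

theorem hA : ∀ i j, Am i j = cartanOf chevE8 8 i j := Cfsg.Agent.H795.NotAbData.E8.hA

/-- decoding of a matrix with entries between `-8` and `7` -/
def dec (p : Fin 8 × ℕ) : Fin 8 × Mat 8 :=
  (p.1, fun j m => (((p.2 >>> (4 * (8 * (j : ℕ) + (m : ℕ)))) % 16 : ℕ) : ℤ) - 8)

/-- the chain of `ww` -/
def wwL : List (Fin 8 × ℕ) := [
  (0, 61755898283216452241315409336345599929900378901875840865033075462705230940296),
  (1, 61755898256256505580441871278526767243707158202729109227847766838289819535496),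
  (2, 61755898687615652355285735736001874660099433060987125322674085332877215041672),
  (0, 61755891785869307171659992560236287925036072951040755674490523953145826543752),
  (3, 61755891785869307171659992558774786288045452399758009305237615540921662212232),
  (4, 61755781357927809944656803904059100691046815136924660483653285479205115037832),
  (3, 61755781357928221320796134205569639433342454474550904958693874259541777549448),
  (1, 61755891785869744258808031004129733701734569195985894059968241120029366130824),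
  (2, 61755891354510597584397794312841518506714925109050540622484461831687170005144),
  (3, 61755898256256944374961581373452961714141516431776442259404096981955679721880),
  (4, 61755787828315421436949684574892868839545976618505399352996394710162038434200),
  (5, 61755787828315010060810354273382352397995535811502293995822439348928532621720),
  (4, 61755787828315010060810354273382352397995535811502274653009330018461365741976),
  (3, 61755787828315421436949684574892868839545976618505378801257466046540673624472),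
  (1, 61755898256256944374961581373452961714141516431776421632107304610012177541528),
  (2, 61755898687616091049371818064741176909161160518711775069295935993243740318104),
  (3, 61755891785869744258808031004129733701734569195985873427653934361205097015704),
  (4, 61755781357928221320796134205569639433342454474550884250821703792395371063704),
  (5, 61755781357927809944656803904059100691046815136924638566855295678904510622104),
  (6, 61755781357927809944656803904058743879123638646954393338176051642786836556184),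
  (5, 61755781357927809944656803904058743879123638646954393338176123700380857706904),
  (4, 61755781357927809944656803904059100691046815136924638566855372240098158094744),
  (3, 61755781357928221320796134205569639433342454474550884250821780635063995181464),
  (1, 61755891785869744258808031004129733701734569195985873427654011221465907173784),
  (2, 61755891354510597584397794312841518506714925109050519990465379838303063873928),
  (0, 61755898256256944374961581373452961714141516431776421632107381471441218803848),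
  (3, 61755898283216891042112221168119976801161147105413566054629507208475414468744),
  (2, 61755787855275368104100324369559883926565607292142523223779668662596096592008),
  (4, 61755780953529022920474581193794297191502247182196153570873740801094574508168),
  (3, 61755780953528611544335250892283780749951806375193049422625605054490243270792),
  (1, 61755780953528585833326548734750078585936681878884483797715089332182437103752),
  (7, 61755780953528585833326548711366052394086753058360541889373406831485174450312),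
  (6, 61755780953528585833326548711274708541774839273905370241295100055721164179592),
  (5, 61755780953528585833326548711274708541776168501900845672158110460118698592392),
  (4, 61755780953528585833326548711274708541776251578650582229400162444460337694856),
  (3, 61755780953528585833326644492245990359084705637013494913907674883161122703496),
  (1, 61755780953528611544335346649779692523099830457840614046129189954388488652936),
  (2, 61755780953528611644768974415966584739027943359695911888581112748332733204616),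
  (0, 61755787855274956828394717591732171474091303489924691135693978069141727774856),
  (3, 61755787828315010161244077797065156387071672816366774875649223181557951924360),
  (2, 61755898256256533099255974595625249261667212954156371364925788493001104328840),
  (4, 61755891354510186308692187535013806054240621651712879326935457282710689056904),
  (3, 61757658201574964693021675051543244854702806931217416586397230966738197710984),
  (1, 61757547773633441755009778252983150586310692534300981067991727145900120246408),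
  (5, 61757547773633441654576150486796258364938061764245969010582269435903551768712),
  (4, 61785817326669895803849483246807788249268208093375431556848795415214611269768),
  (3, 61784050479605528795659230250817561772302826608778517412040618471484804401288),
  (2, 61784050479605503084650528093283858214491127528824559099574437474218238646408),
  (0, 61784050479605503084650527719139439057779980488963651523135288383377113717128),
  (6, 61784050479605503084650527719139439057439698122121941222186178113534594488713),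
  (5, 62236363328188769473023851879323917206722039388193651447460415127580237732233),
  (4, 62208093775158897341979803943480293575275935634643044473342697861970121038217),
  (3, 62208093775158485965840569422941036650288750355379712682809621520334243535241),
  (1, 62208093775158485965840563436630330142910397717605191535341099792790568077705),
  (2, 62208093775158485965840563436630330137465879848137826719860187570268346550665),
  (7, 62208093775158485965840563436630330050353593936659989681610324973453069289609),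
  (6, 69445099352490748179813749999673324291204235626190131827884590444307922061449),
  (5, 68992786504012794083108983026181055178837399408904343900869018772428840011913),
  (4, 68992786504006212064881230697553301190965611430661280481019041342372474030217),
  (3, 68992786504006212064881134916582019373657167756892082448315146453931021338761)]

theorem wwOK : ChainOK Am (wwL.map dec) :=
  H129.ChainF.ok H129.ChainF.i8 H129.ChainF.m8 rfl (by decide +kernel)

/-- the element `w`, `w² = -1` -/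
noncomputable def ww : CoxeterMatrix.E₈.Group :=
  CoxeterMatrix.E₈.toCoxeterSystem.wordProd ((wwL.map dec).map Prod.fst)

/-- the matrix -/
def wwM : Mat 8 := ![![0, 0, 0, 0, 0, 1, 1, 0], ![0, 0, 0, 0, 0, 0, 1, 1], ![2, 3, 4, 6, 5, 3, 2, 1], ![-2, -3, -4, -6, -5, -4, -3, -2], ![1, 1, 1, 2, 2, 2, 1, 1], ![0, 1, 1, 1, 0, 0, 0, 0], ![-1, -1, -1, -1, 0, 0, 0, 0], ![1, 0, 1, 1, 0, 0, 0, 0]]

theorem ww_hd : ∀ j m, hd (wwL.map dec) j m = wwM j m := by decide +kernel

theorem is_ww (hp : IsType chevE8 8 CoxeterMatrix.E₈) : IsMat hp ww wwM := by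
  intro j
  have h := isMat_chain hp hA wwOK j
  funext m
  rw [← ww_hd]
  exact congrFun h m

/-- the chain of `dd` -/
def ddL : List (Fin 8 × ℕ) := [
  (0, 61784050477808200732308753291746633521823540837438152491259387588828497217671),
  (1, 61784050477808200732308753291746633521823540837438152491240940844754787666057),
  (6, 61784050477808200732308753291746633521823540836170501891012711443395523414153),
  (5, 62236363326391467120706597380584965892838286426680832147351944476335840725129),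
  (7, 62208093773361594989664081940282208150250457943407638925175789461906641160329),
  (6, 69445099352378853869941864632030223286278822063162016553044277027191185246345)]

theorem ddOK : ChainOK Am (ddL.map dec) :=
  H129.ChainF.ok H129.ChainF.i8 H129.ChainF.m8 rfl (by decide +kernel)

/-- the sign change -/
noncomputable def dd : CoxeterMatrix.E₈.Group :=
  CoxeterMatrix.E₈.toCoxeterSystem.wordProd ((ddL.map dec).map Prod.fst)

/-- the matrix -/
def ddM : Mat 8 := ![![-1, 0, 0, 0, 0, 0, 0, 0], ![0, -1, 0, 0, 0, 0, 0, 0], ![1, 0, 1, 0, 0, 0, 0, 0], ![0, 1, 0, 1, 0, 0, 0, 0], ![0, 0, 0, 0, 1, 1, 1, 0], ![0, 0, 0, 0, 0, 0, 0, 1], ![0, 0, 0, 0, 0, -1, -1, -1], ![0, 0, 0, 0, 0, 1, 0, 0]]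

theorem dd_hd : ∀ j m, hd (ddL.map dec) j m = ddM j m := by decide +kernel

theorem is_dd (hp : IsType chevE8 8 CoxeterMatrix.E₈) : IsMat hp dd ddM := by
  intro j
  have h := isMat_chain hp hA ddOK j
  funext m
  rw [← dd_hd]
  exact congrFun h m

/-- the chain of `pp` -/
def ppL : List (Fin 8 × ℕ) := [
  (3, 54004277309666114522358603267762433003896442585284866595283448867439291050649),
  (4, 54004277309666114522358603267762433003896442260766313012414585810197593897625),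
  (3, 54006044156730892906688090784291894105103815686300275946865194977698101508761),
  (2, 54006154584672441555708683754074985423929276849914702213137221107908580387481),
  (0, 54006161486418788346272471188830847700954729280741264784594472330454709741977),
  (5, 54006161513378735013423110983497862787974359954378409207153491555627734575512),
  (4, 54034431066408607144467158919341129607497370294708488167020902935395023104408),
  (3, 54036197913472974152657411915331333783717563633275975427914425062497633085848),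
  (1, 54036308341414497090669308713891426658313103446547018258764263625969137002904),
  (2, 54036308772773643765079545405179641853332747533482371695952895009200699779480),
  (0, 54036315674519988948705288955089647657994968792094221476532680341165896804760),
  (3, 54036315674519988942428187221164468531149799920248529592179050902445861022105),
  (2, 54036426102461537591448780190947558456178686500217563170895411757697580312985),
  (4, 54036426102461537591448779816803139299467539460356655594456262666856455383705),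
  (3, 54038192949526315975778363114303859917238168413630390886621931239325416729241),
  (1, 54038192949526315975778363114303858523441593505466444540639539216395008653977),
  (5, 54038192949526315975778363114303858517997075635999079725453774898914700999337),
  (4, 54066462502562770125051695874315388402327221965128561614533414712292553702057),
  (3, 54066462502562770125051695874315366101582028626802277404716951261273178946217),
  (6, 54066462502562770125051695874315364707785454367675438300030149043556116511401),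
  (5, 54518775351040724221756462847807633820153619812957011142918552464901424200361),
  (4, 54518775351034142203527178023639013943423390410937080199456022649047657134761),
  (3, 54518775351033730827387847722128475201127756265607693050317242503103172491945),
  (1, 54518775351033705116379139578284067923530853390651445458182870961698704636585),
  (2, 54518775351033705015945511812097175707602740490063798215959177569182443813529),
  (0, 54518775351033703409007467927251319235239509277284266227223103798645322594969),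
  (3, 54518775351033703409007467925789817597908606359080581394525267523063099603609),
  (2, 54518775351033677697998765768256114040096907279126623157616950251710857259673),
  (4, 54518775351033677697998765394111694883385760239265715585900167643739377543577),
  (3, 54518775351033266321859530873572460259143763106031809470355926785576498997657),
  (1, 54518775351033266321859524887261755145561984727384127427574207275749885974937),
  (5, 54518775351033266321859524887261755140117466856649112012455361462089666894217),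
  (4, 54518775351026684303631772558634001152245595801656350720989555212225622940041),
  (3, 54518775351026684303631676777662719334937146935590296571309671022546190375305),
  (2, 54518775351026684303631676777662717941140572351944903959311869473501754198409),
  (7, 54518775351026684303631676777662717941140572331662494365104932015293793339529)]

theorem ppOK : ChainOK Am (ppL.map dec) :=
  H129.ChainF.ok H129.ChainF.i8 H129.ChainF.m8 rfl (by decide +kernel)

/-- the cyclic permutation -/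
noncomputable def pp : CoxeterMatrix.E₈.Group :=
  CoxeterMatrix.E₈.toCoxeterSystem.wordProd ((ppL.map dec).map Prod.fst)

/-- the matrix -/
def ppM : Mat 8 := ![![1, 1, 2, 2, 2, 1, 1, 0], ![1, 0, 0, 0, 0, 0, 0, 0], ![-1, -1, -2, -3, -2, -1, -1, 0], ![-1, -1, -1, -1, -1, -1, 0, 0], ![1, 1, 2, 2, 1, 1, 0, 0], ![0, 1, 0, 1, 1, 0, 0, 0], ![1, 1, 2, 3, 3, 3, 2, 1], ![-1, -1, -2, -3, -3, -2, -1, -1]]

theorem pp_hd : ∀ j m, hd (ppL.map dec) j m = ppM j m := by decide +kernel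

theorem is_pp (hp : IsType chevE8 8 CoxeterMatrix.E₈) : IsMat hp pp ppM := by
  intro j
  have h := isMat_chain hp hA ppOK j
  funext m
  rw [← pp_hd]
  exact congrFun h m

/-- the chain of `cc` -/
def ccL : List (Fin 8 × ℕ) := [
  (0, 68992786504006212064881134916582019461109736381359471812335010229252912613768),
  (2, 68992786504006212064881134916582019460769454014438533348871635621825439369609),
  (3, 68992786504006212064881134916582019373657168082678286706970102603261934078089),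
  (1, 68992786504006212064881134916582017979860593499032893943856573637573223155849)]

theorem ccOK : ChainOK Am (ccL.map dec) :=
  H129.ChainF.ok H129.ChainF.i8 H129.ChainF.m8 rfl (by decide +kernel)

/-- the Coxeter element of the Levi subgroup -/
noncomputable def cc : CoxeterMatrix.E₈.Group :=
  CoxeterMatrix.E₈.toCoxeterSystem.wordProd ((ccL.map dec).map Prod.fst)

/-- the matrix -/
def ccM : Mat 8 := ![![0, 0, 1, 0, 0, 0, 0, 0], ![-1, -1, -1, -1, 0, 0, 0, 0], ![0, 0, 0, 1, 0, 0, 0, 0], ![0, 1, 0, 0, 0, 0, 0, 0], ![1, 0, 1, 1, 1, 0, 0, 0], ![0, 0, 0, 0, 0, 1, 0, 0], ![0, 0, 0, 0, 0, 0, 1, 0], ![0, 0, 0, 0, 0, 0, 0, 1]]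

theorem cc_hd : ∀ j m, hd (ccL.map dec) j m = ccM j m := by decide +kernel

theorem is_cc (hp : IsType chevE8 8 CoxeterMatrix.E₈) : IsMat hp cc ccM := by
  intro j
  have h := isMat_chain hp hA ccOK j
  funext m
  rw [← cc_hd]
  exact congrFun h m

/-- the roots -/
def av : Fin 4 → Fin 8 → ℤ := ![![1, 1, 2, 2, 2, 2, 1, 1], ![1, 1, 2, 2, 2, 1, 1, 0], ![1, 0, 0, 0, 0, 0, 0, 0], ![0, 1, 0, 0, 0, 0, 0, 0]]

/-- the images under `w` -/
def wav : Fin 4 → Fin 8 → ℤ := ![![2, 3, 4, 6, 4, 3, 2, 1], ![1, 2, 2, 4, 4, 3, 2, 1], ![0, 0, 0, 0, 0, 1, 1, 0], ![0, 0, 0, 0, 0, 0, 1, 1]]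

/-- the products of the fundamental roots with `av j` -/
def AA : Fin 4 → Fin 8 → ℤ := ![![0, 0, 1, -1, 0, 1, -1, 1], ![0, 0, 1, -1, 1, -1, 1, -1], ![2, 0, -1, 0, 0, 0, 0, 0], ![0, 2, 0, -1, 0, 0, 0, 0]]

/-- the products of the fundamental roots with `w (av j)` -/
def BB : Fin 4 → Fin 8 → ℤ := ![![0, 0, 0, 1, -1, 0, 0, 0], ![0, 0, -1, 0, 1, 0, 0, 0], ![0, 0, 0, 0, -1, 1, 1, -1], ![0, 0, 0, 0, 0, -1, 1, 1]]

/-- a vector -/
def x1 : Fin 8 → ℤ := ![0, 1, 0, 1, 1, 0, 0, 0]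

/-- a vector -/
def y0 : Fin 8 → ℤ := ![-1, -2, -3, -4, -3, -2, -1, 0]

/-- a vector -/
def x2 : Fin 8 → ℤ := ![0, 0, 0, 0, 1, 0, 0, 0]

/-- a vector -/
def x3 : Fin 8 → ℤ := ![1, 1, 1, 2, 2, 2, 1, 1]

theorem ww_sq : ∀ j m, ∑ n, wwM j n * wwM n m = if j = m then -1 else 0 := by decide +kernel

theorem comm_dd : ∀ j m, ∑ n, wwM j n * ddM n m = ∑ n, ddM j n * wwM n m := by (open scoped Cfsg.Agent.ChevFast.Lin in decide +kernel)

theorem comm_pp : ∀ j m, ∑ n, wwM j n * ppM n m = ∑ n, ppM j n * wwM n m := by decide +kernel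

theorem id_ww : ∀ j m : Fin 8, ∑ n, (if j = n then 1 else 0) * wwM n m = wwM j m := by decide +kernel

theorem dd_av : ∀ j m, ∑ n, av j n * ddM n m = (![1, 1, -1, -1] : Fin 4 → ℤ) j * av j m := by decide +kernel

theorem pp_av : ∀ j m, ∑ n, av (j + 1) n * ppM n m = av j m := by decide +kernel

theorem ww_AA : ∀ j l, ∑ i, wwM l i * AA j i = -BB j l := by decide +kernel

theorem ww_BB : ∀ j l, ∑ i, wwM l i * BB j i = AA j l := by decide +kernel

theorem av_AA : ∀ l j, ∑ i, av l i * AA j i = if l = j then 2 else 0 := by decide +kernel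

theorem av_BB : ∀ l j, ∑ i, av l i * BB j i = 0 := by decide +kernel

theorem wav_eq : ∀ j m, ∑ n, av j n * wwM n m = wav j m := by decide +kernel

theorem two_sr : ∀ i m, ∑ j, (AA j i * av j m + BB j i * wav j m) = if i = m then 2 else 0 := by decide +kernel

theorem chk_y0 : ∀ m, ∑ n, x1 n * wwM n m = y0 m := by decide +kernel

theorem chk_x2 : ∀ m, ∑ n, x1 n * ccM n m = x2 m := by decide +kernel

theorem chk_x3 : ∀ m, ∑ n, x2 n * wwM n m = x3 m := by decide +kernel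

theorem chk_a0 : ∀ m, ∑ n, x3 n * ccM n m = av 0 m := by decide +kernel

theorem y0_AA : ∑ i, y0 i * AA 1 i = -1 := by decide +kernel

theorem y0_BB : ∑ i, y0 i * BB 1 i = 0 := by decide +kernel

/-! ### the Levi subgroup -/

/-- the roots -/
def rt8 : Fin 5 → Fin 5 → ℕ := ![![0, 162, 163, 164, 169], ![77, 0, 135, 136, 147], ![76, 104, 0, 130, 142],
  ![75, 103, 109, 0, 141], ![70, 92, 97, 98, 0]]
/-- the signs -/
def s8 : Fin 5 → Fin 5 → ℤ := ![![1, 1, -1, 1, -1], ![1, 1, 1, -1, 1], ![-1, 1, 1, 1, 1], ![1, -1, 1, 1, 1],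
  ![-1, 1, 1, 1, 1]]
/-- the nodes -/
def c8 : ℕ → Fin 8 := fun i => if i = 0 then 0 else if i = 1 then 2 else if i = 2 then 3 else 1

theorem ltab8 : LTab chevE8 5 8 rt8 s8 c8 where
  ta := by decide +kernel
  tb := by (refine of_decide_eq_true ?_; delta Cfsg.Agent.TitsThree.KExcRT.RTb Cfsg.Agent.TitsThree.KExcRT.instDecidableRTb; rewrite [Cfsg.Agent.ChevFast.E8.commTerms, Cfsg.Agent.ChevFast.E8.neg]; decide +kernel)
  tc := by (refine of_decide_eq_true ?_; delta Cfsg.Agent.TitsThree.KExcRT.RTc Cfsg.Agent.TitsThree.KExcRT.instDecidableRTc; rewrite [Cfsg.Agent.ChevFast.E8.commTerms, Cfsg.Agent.ChevFast.E8.neg]; decide +kernel)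
  td := by decide +kernel
  te := by (rewrite [Cfsg.Agent.ChevFast.E8.neg]; decide +kernel)
  tf := by decide +kernel

/-- the images of the roots under `w` -/
def im8 : Fin 5 → Fin 5 → ℕ := ![![0, 124, 238, 119, 121], ![115, 0, 236, 114, 116], ![1, 3, 0, 0, 2],
  ![120, 125, 239, 0, 122], ![118, 123, 237, 117, 0]]

theorem nil8 : ∀ i j i' j' : Fin 5, i ≠ j → i' ≠ j' →
    Cfsg.Agent.TitsThree.KExcBase.NilTab chevE8 (rt8 i j) (im8 i' j') := by
  (refine of_decide_eq_true ?_; delta Cfsg.Agent.TitsThree.KExcBase.NilTab Cfsg.Agent.TitsThree.KExcBase.instDecidableNilTab; rewrite [Cfsg.Agent.ChevFast.E8.commTerms, Cfsg.Agent.ChevFast.E8.neg]; decide +kernel)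

theorem im8_eq : ∀ i j : Fin 5, i ≠ j → ∀ m, ∑ n, vec chevE8 8 (rt8 i j) n * wwM n m = vec chevE8 8 (im8 i j) m := by
  decide +kernel

theorem cop8 : IsCoprime (∑ j ∈ Finset.range (5 - 1), ((j : ℤ) + 1) * cartanOf chevE8 8 (c8 j) 4) ((5 : ℕ) : ℤ) := by
  have h : (∑ j ∈ Finset.range (5 - 1), ((j : ℤ) + 1) * cartanOf chevE8 8 (c8 j) 4) = -3 := by decide +kernel
  rw [h]
  exact ⟨-2, -1, by norm_num⟩

end Cfsg.Agent.H790.E8Data
end

-- part: H790/E8Main
section
prune_inst 0x1030750404a20200000000000200040434000090000880003920034002023042000080200c801800802000000000000002000020400000000a000000000500001028040400400008400008000000000000000000000000000000000000041000000000000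
set_option linter.all false
open scoped Cfsg.Agent.FastGrp

/-!
# `Full 5` for `E₈(q)`, `q² ≡ -1 mod 5` (helper790)
-/

set_option autoImplicit false
set_option linter.unusedSectionVars false

namespace Cfsg.Agent.H790.E8Main

open CoxeterSystem Cfsg Cfsg.Lie Cfsg.Lie.ChevalleyDatum
open Cfsg.Agent.ChevalleyStructure Cfsg.Agent.ChevalleyStructure.Elts Cfsg.Agent.ChevalleyStructure.CoxeterGeom
  Cfsg.Agent.ChevalleyStructure.CoxeterGeomTypes Cfsg.Agent.ChevalleyStructure.NPerm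
open Cfsg.Agent.Tits.Roots Cfsg.Agent.Tits.Core Cfsg.Agent.Nodes Cfsg.Agent.Nodes.Reps Cfsg.Agent.Nodes.BNOf
  Cfsg.Agent.Nodes.RGDChev Cfsg.Agent.Nodes.Bruhat
open Cfsg.Agent.KFacts.RgdField Cfsg.Agent.KFacts.RgdChevCoord Cfsg.Agent.BpExc.TorCent Cfsg.Agent.BpExc.TorChev
open Cfsg.Agent.GpExc.Field Cfsg.Agent.BpExc.Tow Cfsg.Agent.BpExc.TowChev Cfsg.Agent.BpExc.Fr
  Cfsg.Agent.BpExc.LangFr Cfsg.Agent.H129.TorusChar Cfsg.Agent.H129.TorusMain Cfsg.Agent.H123.ExcZ
open Cfsg.Agent.BpExc Cfsg.Agent.H795.LangT Cfsg.Agent.H795.Core Cfsg.Agent.H129.WData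
  Cfsg.Agent.H795.NotAbT Cfsg.Agent.H795.NotAbCert Cfsg.Agent.H790.TwFix Cfsg.Agent.H629.ExcTor Cfsg.Agent.H790.TriV
  Cfsg.Agent.H790.E8Data Cfsg.Agent.H790.TwLevi Cfsg.Agent.H790.TwPair Cfsg.Agent.H629.ExcLevi
  Cfsg.Agent.H790.IrrCrit Cfsg.Agent.H790.IrrCoord Cfsg.Agent.H790.TriMain
  Cfsg.Agent.TitsThree.KExcRT Cfsg.Agent.H629

universe u v

/-! ### arithmetic -/

/-- the `5`-part of the order -/
theorem not_dvd_ord {x Q c : ℤ} {m : ℕ} (hx : Q = x ^ 2) (hc : Q + 1 = 5 ^ m * c) (hm : 0 < m) (hc5 : ¬ (5 : ℤ) ∣ c) :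
    ¬ (5 : ℤ) ^ (4 * m + 2) ∣ x ^ 120 * (x ^ 2 - 1) * (x ^ 8 - 1) * (x ^ 12 - 1) * (x ^ 14 - 1) * (x ^ 18 - 1) *
      (x ^ 20 - 1) * (x ^ 24 - 1) * (x ^ 30 - 1) := by
  intro h
  have h5 : Prime (5 : ℤ) := Int.prime_iff_natAbs_prime.2 (by norm_num)
  obtain ⟨b, hb⟩ : (5 : ℤ) ∣ Q + 1 := by rw [hc]; exact Dvd.dvd.mul_right (dvd_pow_self 5 hm.ne') c
  have hQ : Q = 5 * b - 1 := by linarith only [hb]
  have hQz : (Q : ZMod 5) = -1 := by
    rw [hQ]
    push_cast
    have : (5 : ZMod 5) = 0 := by decide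
    rw [this]; ring
  have hnd : ∀ X : ℤ, (X : ZMod 5) ≠ 0 → ¬ (5 : ℤ) ∣ X := fun X hX h => hX ((ZMod.intCast_zmod_eq_zero_iff_dvd X 5).2
    (by exact_mod_cast h))
  -- the factor `Φ₁₀`
  obtain ⟨v, hv⟩ : ∃ v, Q ^ 4 - Q ^ 3 + Q ^ 2 - Q + 1 = 5 * (1 + 5 * v) :=
    ⟨-(2 * b) + 10 * b ^ 2 - 25 * b ^ 3 + 25 * b ^ 4, by rw [hQ]; ring⟩
  have e : x ^ 120 * (x ^ 2 - 1) * (x ^ 8 - 1) * (x ^ 12 - 1) * (x ^ 14 - 1) * (x ^ 18 - 1) *
      (x ^ 20 - 1) * (x ^ 24 - 1) * (x ^ 30 - 1) =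
      5 ^ (4 * m + 1) * (Q ^ 60 * (Q - 1) * (c * (Q - 1) * (Q ^ 2 + 1)) *
        (c * ((Q - 1) * (Q ^ 2 + Q + 1) * (Q ^ 2 - Q + 1))) * (Q ^ 7 - 1) * (Q ^ 9 - 1) *
        (c * ((Q - 1) * (Q ^ 4 + Q ^ 3 + Q ^ 2 + Q + 1) * (1 + 5 * v))) *
        (c * ((Q - 1) * (Q ^ 2 + Q + 1) * (Q ^ 2 - Q + 1) * (Q ^ 6 + 1))) * (Q ^ 15 - 1)) := by
    have e8 : x ^ 8 - 1 = 5 ^ m * (c * (Q - 1) * (Q ^ 2 + 1)) := by
      have : x ^ 8 - 1 = (Q + 1) * ((Q - 1) * (Q ^ 2 + 1)) := by rw [hx]; ring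
      rw [this, hc]; ring
    have e12 : x ^ 12 - 1 = 5 ^ m * (c * ((Q - 1) * (Q ^ 2 + Q + 1) * (Q ^ 2 - Q + 1))) := by
      have : x ^ 12 - 1 = (Q + 1) * ((Q - 1) * (Q ^ 2 + Q + 1) * (Q ^ 2 - Q + 1)) := by rw [hx]; ring
      rw [this, hc]; ring
    have e20 : x ^ 20 - 1 = 5 ^ m * 5 * (c * ((Q - 1) * (Q ^ 4 + Q ^ 3 + Q ^ 2 + Q + 1) * (1 + 5 * v))) := by
      have : x ^ 20 - 1 = (Q + 1) * ((Q - 1) * (Q ^ 4 + Q ^ 3 + Q ^ 2 + Q + 1) *
          (Q ^ 4 - Q ^ 3 + Q ^ 2 - Q + 1)) := by rw [hx]; ring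
      rw [this, hv, hc]; ring
    have e24 : x ^ 24 - 1 = 5 ^ m * (c * ((Q - 1) * (Q ^ 2 + Q + 1) * (Q ^ 2 - Q + 1) * (Q ^ 6 + 1))) := by
      have : x ^ 24 - 1 = (Q + 1) * ((Q - 1) * (Q ^ 2 + Q + 1) * (Q ^ 2 - Q + 1) * (Q ^ 6 + 1)) := by rw [hx]; ring
      rw [this, hc]; ring
    have e2 : x ^ 2 - 1 = Q - 1 := by rw [hx]
    have e14 : x ^ 14 - 1 = Q ^ 7 - 1 := by rw [hx]; ring
    have e18 : x ^ 18 - 1 = Q ^ 9 - 1 := by rw [hx]; ring
    have e30 : x ^ 30 - 1 = Q ^ 15 - 1 := by rw [hx]; ring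
    have e120 : x ^ 120 = Q ^ 60 := by rw [hx]; ring
    have ep : (5 : ℤ) ^ (4 * m + 1) = 5 ^ m * 5 ^ m * (5 ^ m * 5) * 5 ^ m := by ring
    rw [e2, e8, e12, e14, e18, e20, e24, e30, e120, ep]
    generalize (5 : ℤ) ^ m = P
    generalize Q ^ 60 = Q60
    generalize Q ^ 15 - 1 = Q15
    generalize Q ^ 7 - 1 = Q7
    generalize Q ^ 9 - 1 = Q9
    generalize (Q - 1) * (Q ^ 2 + Q + 1) * (Q ^ 2 - Q + 1) * (Q ^ 6 + 1) = X1
    generalize (Q - 1) * (Q ^ 4 + Q ^ 3 + Q ^ 2 + Q + 1) * (1 + 5 * v) = X2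
    generalize (Q - 1) * (Q ^ 2 + Q + 1) * (Q ^ 2 - Q + 1) = X3
    generalize Q ^ 2 + 1 = X4
    ring
  rw [e, show 4 * m + 2 = (4 * m + 1) + 1 by ring, pow_succ] at h
  have h6 := Int.dvd_of_mul_dvd_mul_left (pow_ne_zero (4 * m + 1) (by norm_num : (5 : ℤ) ≠ 0)) h
  revert h6
  have hcz : ((c : ℤ) : ZMod 5) ≠ 0 := fun h => hc5 (by
    have := (ZMod.intCast_zmod_eq_zero_iff_dvd c 5).1 h
    exact_mod_cast this)
  refine hnd _ ?_
  push_cast
  rw [hQz]
  have h50 : (5 : ZMod 5) = 0 := by decide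
  rw [h50, zero_mul, add_zero]
  generalize ((c : ℤ) : ZMod 5) = y at hcz
  revert y
  decide

/-- the exponent `q² + 1` on a `5`-element -/
theorem pow_of_two {k : Type*} [Field k] {a : k} {P C N : ℕ} (hC : ¬ 5 ∣ C)
    (h : a ^ (P * C) = 1) (hN : a ^ 5 ^ N = 1) : a ^ P = 1 := by
  obtain ⟨s, hs, h1⟩ := (Nat.dvd_prime_pow Nat.prime_five).1 (orderOf_dvd_of_pow_eq_one hN)
  have h2 : orderOf a ∣ P * C := orderOf_dvd_of_pow_eq_one h
  rw [h1] at h2
  have h3 : 5 ^ s ∣ P := by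
    refine Nat.Coprime.dvd_of_dvd_mul_right ?_ h2
    exact Nat.Coprime.pow_left s ((Nat.Prime.coprime_iff_not_dvd Nat.prime_five).2 hC)
  rw [← h1] at h3
  exact orderOf_dvd_iff_pow_eq_one.1 h3

/-! ### the twisted action -/

section Theta

variable {θ : (Fin 8 → ℤ) ≃+ (Fin 8 → ℤ)} (hTh : ∀ j, θ (sr j) = wwM j)

include hTh

theorem theta_apply (x : Fin 8 → ℤ) (m : Fin 8) : θ x m = ∑ n, x n * wwM n m :=
  apply_of_sr (f := θ.toAddMonoidHom) (U := wwM) hTh x m

theorem theta_sq (x : Fin 8 → ℤ) : θ (θ x) = -x := by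
  refine addHom_ext (f := θ.toAddMonoidHom.comp θ.toAddMonoidHom) (f' := -AddMonoidHom.id _) (fun j => ?_) x
  show θ (θ (sr j)) = -(sr j)
  rw [hTh]
  funext m
  rw [theta_apply hTh, ww_sq, Pi.neg_apply, sr_apply']
  split <;> rfl

theorem theta_av (j : Fin 4) : θ (av j) = wav j := by
  funext m
  rw [theta_apply hTh, wav_eq]

theorem theta_x1 : θ x1 = y0 := by
  funext m
  rw [theta_apply hTh, chk_y0]

theorem theta_x2 : θ x2 = x3 := by
  funext m
  rw [theta_apply hTh, chk_x3]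

end Theta

section Main

variable {k : Type u} [Field k] [IsAlgClosed k] {r e : ℕ} [Fact r.Prime] [CharP k r] (hk : LocFin k)
  (hp : IsType chevE8 8 CoxeterMatrix.E₈)
  {τ : MulAut ↥(chevE8.group k)} {θ : (Fin 8 → ℤ) ≃+ (Fin 8 → ℤ)} (hτ : IsFrob r e τ)
  (F : Fr CoxeterMatrix.E₈.toCoxeterSystem hp.isCartan (TT chevE8 k) (XX chevE8 8 k) τ θ)
  (hTh : ∀ j, θ (sr j) = wwM j)

include hτ F hTh in
theorem lfr : LFr (k := k) CoxeterMatrix.E₈.toCoxeterSystem hp 5 rt8 c8 r (e + e) (τ * τ) (θ.trans θ) (-1) where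
  frob := hτ.mul hτ
  fr := F.mul F
  pair := by
    intro j _ x
    have h1 : (θ.trans θ) x = -x := theta_sq hTh x
    rw [h1, neg_one_mul]
    unfold pairing
    rw [← Finset.sum_neg_distrib]
    exact Finset.sum_congr rfl fun n _ => by rw [Pi.neg_apply]; ring
  root := by
    intro i j _
    have h1 : (θ.trans θ) (vec chevE8 8 (rt8 i j)) = -vec chevE8 8 (rt8 i j) := theta_sq hTh _
    rw [h1, neg_one_smul]
  sgn := Or.inr rfl

theorem cw_eq : cw CoxeterMatrix.E₈.toCoxeterSystem c8 (5 - 1) = cc := by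
  unfold cw cc ccL CoxeterSystem.wordProd
  simp only [c8, List.range_succ, _root_.Fin.isValue, _root_.CoxeterMatrix.toCoxeterSystem_simple, _root_.Nat.add_one_sub_one, _root_.List.range_zero, _root_.List.nil_append, _root_.List.cons_append, _root_.List.map_cons, ↓ _root_.reduceIte, _root_.one_ne_zero, _root_.OfNat.ofNat_ne_zero, _root_.OfNat.ofNat_ne_one, _root_.Nat.succ_ne_self, _root_.List.map_nil, _root_.List.prod_cons, _root_.List.prod_nil, _root_.mul_one]
  rfl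

include hτ F hTh in
/-- elements of the torus with given exponents -/
theorem mk_T {m : ℕ} {ζ : k} (hζ : ζ ^ 5 ^ m = 1) (hdvd : ((5 ^ m : ℕ) : ℤ) ∣ ((r ^ e : ℕ) : ℤ) ^ 2 + 1)
    (v : Fin 4 → ℤ) :
    ∃ t ∈ TG hp τ 5, ∀ x, cX hp (t : ↥(chevE8.group k)) x =
      ζ ^ (∑ i, x i * ∑ j, v j * (AA j i + ((r ^ e : ℕ) : ℤ) * BB j i)) := by
  obtain ⟨t, ht, hct, hτt⟩ := exists_tor_exp hp hτ F invC_E8 one_ne_zero hζ (pow_ne_zero m (by norm_num))
    (fun i => ∑ j, v j * (AA j i + ((r ^ e : ℕ) : ℤ) * BB j i)) (Th := wwM) hTh (by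
      intro l
      have h1 : ∑ i, wwM l i * ∑ j, v j * (AA j i + ((r ^ e : ℕ) : ℤ) * BB j i) =
          ∑ j, v j * (-BB j l + ((r ^ e : ℕ) : ℤ) * AA j l) := by
        simp only [Finset.mul_sum]
        rw [Finset.sum_comm]
        refine Finset.sum_congr rfl fun j _ => ?_
        rw [← ww_AA, ← ww_BB, Finset.mul_sum, ← Finset.sum_add_distrib, Finset.mul_sum]
        exact Finset.sum_congr rfl fun i _ => by ring
      rw [h1, Finset.mul_sum, ← Finset.sum_sub_distrib]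
      refine Finset.dvd_sum fun j _ => ?_
      have h2 : v j * (-BB j l + ((r ^ e : ℕ) : ℤ) * AA j l) -
          ((r ^ e : ℕ) : ℤ) * (v j * (AA j l + ((r ^ e : ℕ) : ℤ) * BB j l)) =
          (((r ^ e : ℕ) : ℤ) ^ 2 + 1) * (-(v j * BB j l)) := by ring
      rw [h2]
      exact hdvd.mul_right _)
  refine ⟨⟨t, hτt⟩, ⟨ht, m, Subtype.ext ?_⟩, hct⟩
  show t ^ 5 ^ m = 1
  refine cX_inj hp (pow_mem ht _) (one_mem _) fun i => ?_
  rw [cX_pow hp ht, hct, cX_one, ← zpow_natCast, ← zpow_mul, mul_comm, zpow_mul, zpow_natCast, hζ, one_zpow]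

/-- the exponents on the roots `av j` -/
theorem exp_av (Q : ℤ) (v : Fin 4 → ℤ) (l : Fin 4) :
    ∑ i, av l i * ∑ j, v j * (AA j i + Q * BB j i) = 2 * v l := by
  simp only [Finset.mul_sum]
  rw [Finset.sum_comm]
  have h1 : ∀ j, ∑ i, av l i * (v j * (AA j i + Q * BB j i)) = v j * (if l = j then 2 else 0) := by
    intro j
    have h2 := av_AA l j
    have h3 := av_BB l j
    calc ∑ i, av l i * (v j * (AA j i + Q * BB j i)) =
        v j * ∑ i, av l i * AA j i + v j * (Q * ∑ i, av l i * BB j i) := by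
          rw [Finset.mul_sum, Finset.mul_sum, Finset.mul_sum, ← Finset.sum_add_distrib]
          exact Finset.sum_congr rfl fun i _ => by ring
      _ = _ := by rw [h2, h3]; ring
  simp only [h1]
  simp [mul_comm]

/-- the exponent on `y0` -/
theorem exp_y0 (Q : ℤ) : ∑ i, y0 i * ∑ j, (Pi.single 1 1 : Fin 4 → ℤ) j * (AA j i + Q * BB j i) = -1 := by
  have h1 : ∀ i, ∑ j, (Pi.single 1 1 : Fin 4 → ℤ) j * (AA j i + Q * BB j i) = AA 1 i + Q * BB 1 i := by
    intro i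
    rw [Finset.sum_eq_single 1]
    · simp
    · intro j _ hj
      simp [hj]
    · simp only [_root_.Fin.isValue, _root_.Finset.mem_univ, _root_.not_true_eq_false, _root_.Pi.single_eq_same, _root_.one_mul, _root_.IsEmpty.forall_iff]
  simp only [h1]
  have h2 : ∑ i, y0 i * (AA 1 i + Q * BB 1 i) = ∑ i, y0 i * AA 1 i + Q * ∑ i, y0 i * BB 1 i := by
    rw [Finset.mul_sum, ← Finset.sum_add_distrib]
    exact Finset.sum_congr rfl fun i _ => by ring
  rw [h2, y0_AA, y0_BB]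
  ring

end Main

/-! ### the coordinates -/

section Final

variable {k : Type u} [Field k] [IsAlgClosed k] {r e : ℕ} [Fact r.Prime] [CharP k r] (hk : LocFin k)
  (hp : IsType chevE8 8 CoxeterMatrix.E₈)
  {τ : MulAut ↥(chevE8.group k)} {θ : (Fin 8 → ℤ) ≃+ (Fin 8 → ℤ)} (hτ : IsFrob r e τ)
  (F : Fr CoxeterMatrix.E₈.toCoxeterSystem hp.isCartan (TT chevE8 k) (XX chevE8 8 k) τ θ)
  (hTh : ∀ j, θ (sr j) = wwM j)

/-- the signs -/
def eps : Fin 4 → ℤ := ![1, 1, -1, -1]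

theorem eps_sq : ∀ j, eps j * eps j = 1 := by decide

theorem eps_two : ∀ j, eps (j + 1) * eps j = (![1, -1, 1, -1] : Fin 4 → ℤ) j := by decide

theorem rep_dd (j : Fin 4) : rep CoxeterMatrix.E₈.toCoxeterSystem hp.isCartan dd (av j) = eps j • av j := by
  funext m
  rw [(is_dd hp).apply, dd_av, Pi.smul_apply, smul_eq_mul]
  rfl

theorem rep_pp (j : Fin 4) : rep CoxeterMatrix.E₈.toCoxeterSystem hp.isCartan pp (av (j + 1)) = av j := by
  funext m
  rw [(is_pp hp).apply, pp_av]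

theorem rep_x1 : rep CoxeterMatrix.E₈.toCoxeterSystem hp.isCartan cc x1 = x2 := by
  funext m
  rw [(is_cc hp).apply, chk_x2]

theorem rep_x3 : rep CoxeterMatrix.E₈.toCoxeterSystem hp.isCartan cc x3 = av 0 := by
  funext m
  rw [(is_cc hp).apply, chk_a0]

theorem two_sr' (i : Fin 8) : (2 : ℤ) • (sr i : Fin 8 → ℤ) = ∑ j, (AA j i • av j + BB j i • wav j) := by
  funext m
  rw [Finset.sum_apply, Pi.smul_apply, sr_apply', smul_eq_mul]
  have h := two_sr i m
  simp only [Pi.add_apply, Pi.smul_apply, smul_eq_mul]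
  rw [h]
  split <;> rfl

/-- the coordinates -/
noncomputable def bb (hp : IsType chevE8 8 CoxeterMatrix.E₈) (τ : MulAut ↥(chevE8.group k)) (j : Fin 4)
    (t : ↥(fixS τ)) : k := cX hp (t : ↥(chevE8.group k)) (av j)

theorem conj_TG {v : CoxeterMatrix.E₈.Group} {n : ↥(fixS τ)}
    (hn : Rp CoxeterMatrix.E₈.toCoxeterSystem (tow hp CoxeterMatrix.E₈.toCoxeterSystem hk r).nsys v
      (n : ↥(chevE8.group k))) {t : ↥(fixS τ)} (ht : t ∈ TG hp τ 5) : n * t * n⁻¹ ∈ TG hp τ 5 := by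
  obtain ⟨ht, i, hi⟩ := ht
  exact ⟨rp_conj_mem hp hk hn ht, i, by rw [conj_pow, hi, mul_one, mul_inv_cancel]⟩

include hτ F hTh in
/-- the exponent `q² + 1` -/
theorem cX_exp {t : ↥(chevE8.group k)} (ht : t ∈ TT chevE8 k) (h : τ t = t) (x : Fin 8 → ℤ) :
    cX hp t x ^ (r ^ e * r ^ e + 1) = 1 := by
  have h1 := cX_of_fix hp hτ F ht h x
  have h2 := cX_of_fix hp hτ F ht h (θ x)
  rw [theta_sq hTh, h1, (isMC_cX hp ht).neg, ← pow_mul] at h2
  rw [pow_succ, ← h2, inv_mul_cancel₀ ((isMC_cX hp ht).ne_zero x)]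

include hk hτ F hTh in
/-- **The coordinates.** -/
theorem coord {m C : ℕ} (hC : ¬ 5 ∣ C) (hq : r ^ e * r ^ e + 1 = 5 ^ m * C) {n1 n3 : ↥(fixS τ)}
    (hn1 : Rp CoxeterMatrix.E₈.toCoxeterSystem (tow hp CoxeterMatrix.E₈.toCoxeterSystem hk r).nsys dd
      (n1 : ↥(chevE8.group k)))
    (hn3 : Rp CoxeterMatrix.E₈.toCoxeterSystem (tow hp CoxeterMatrix.E₈.toCoxeterSystem hk r).nsys pp
      (n3 : ↥(chevE8.group k))) :
    _root_.Cfsg.Agent.H790.IrrCoord.Coord 5 m (TG hp τ 5) (bb hp τ) n1 (n1 * (n3 * n1 * n3⁻¹)) n3 (fun _ => 1) := by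
  have hexp : ∀ t ∈ TG hp τ 5, ∀ x, cX hp (t : ↥(chevE8.group k)) x ^ 5 ^ m = 1 := by
    intro t ht x
    obtain ⟨N, hN⟩ := ht.2
    refine pow_of_two hC (N := N) ?_ ?_
    · rw [← hq]
      exact cX_exp hp hτ F hTh ht.1 t.2 x
    · rw [← cX_pow hp ht.1]
      have : (t : ↥(chevE8.group k)) ^ 5 ^ N = 1 := congrArg Subtype.val hN
      rw [this, cX_one]
  have h1 : ∀ t ∈ TG hp τ 5, ∀ j, bb hp τ j (n1 * t * n1⁻¹) = bb hp τ j t ^ eps j := by
    intro t ht j
    have h2 := cX_rp' hp hk hn1 ht.1 (av j)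
    rw [rep_dd hp, (isMC_cX hp (rp_conj_mem hp hk hn1 ht.1)).zsmul] at h2
    show cX hp ((n1 : ↥(chevE8.group k)) * (t : ↥(chevE8.group k)) * (n1 : ↥(chevE8.group k))⁻¹) (av j) =
      cX hp (t : ↥(chevE8.group k)) (av j) ^ eps j
    rw [← h2, ← zpow_mul, eps_sq, zpow_one]
  have h3 : ∀ t ∈ TG hp τ 5, ∀ j, bb hp τ j (n3 * t * n3⁻¹) = bb hp τ (j + 1) t := by
    intro t ht j
    have h2 := cX_rp' hp hk hn3 ht.1 (av (j + 1))
    rw [rep_pp hp] at h2
    exact h2
  have c1 : ∀ t ∈ TG hp τ 5, n1 * t * n1⁻¹ ∈ TG hp τ 5 := fun t ht => conj_TG hk hp hn1 ht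
  have c3 : ∀ t ∈ TG hp τ 5, n3 * t * n3⁻¹ ∈ TG hp τ 5 := fun t ht => conj_TG hk hp hn3 ht
  have c3' : ∀ t ∈ TG hp τ 5, n3⁻¹ * t * n3⁻¹⁻¹ ∈ TG hp τ 5 := fun t ht => conj_TG hk hp (n := n3⁻¹) hn3.inv ht
  have e2 : ∀ t, n1 * (n3 * n1 * n3⁻¹) * t * (n1 * (n3 * n1 * n3⁻¹))⁻¹ =
      n1 * (n3 * (n1 * (n3⁻¹ * t * n3⁻¹⁻¹) * n1⁻¹) * n3⁻¹) * n1⁻¹ := fun t => by group
  constructor
  · intro a ha b hb
    exact Subtype.ext (TT_comm hp _ ha.1 _ hb.1)
  · intro j s hs t ht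
    exact cX_mul hp hs.1 ht.1 _
  · -- inj
    intro t ht h
    have hmc := isMC_cX hp ht.1
    have hw : ∀ j, cX hp (t : ↥(chevE8.group k)) (wav j) = 1 := by
      intro j
      rw [← theta_av hTh, cX_of_fix hp hτ F ht.1 t.2]
      have : cX hp (t : ↥(chevE8.group k)) (av j) = 1 := h j
      rw [this, one_pow]
    apply Subtype.ext
    refine cX_inj hp ht.1 (one_mem _) fun i => ?_
    have h4 : cX hp (t : ↥(chevE8.group k)) (sr i) ^ (2 : ℤ) = 1 := by
      rw [← hmc.zsmul, two_sr', hmc.sum]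
      refine Finset.prod_eq_one fun j _ => ?_
      have : cX hp (t : ↥(chevE8.group k)) (av j) = 1 := h j
      rw [hmc.add, hmc.zsmul, hmc.zsmul, hw, this, one_zpow, one_zpow, one_mul]
    have h5 : cX hp (t : ↥(chevE8.group k)) (sr i) ^ 2 = 1 := by exact_mod_cast h4
    have h6 := hexp t ht (sr i)
    have h7 : orderOf (cX hp (t : ↥(chevE8.group k)) (sr i)) ∣ 1 := by
      have hcop : Nat.Coprime 2 (5 ^ m) := Nat.Coprime.pow_right m (by norm_num)
      rw [← Nat.Coprime.gcd_eq_one hcop]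
      exact Nat.dvd_gcd (orderOf_dvd_of_pow_eq_one h5) (orderOf_dvd_of_pow_eq_one h6)
    rw [Nat.dvd_one, orderOf_eq_one_iff] at h7
    rw [h7]
    exact (cX_one hp _).symm
  · intro t ht
    apply Subtype.ext
    show (t : ↥(chevE8.group k)) ^ 5 ^ m = 1
    refine cX_inj hp (pow_mem ht.1 _) (one_mem _) fun i => ?_
    rw [cX_pow hp ht.1, hexp t ht, cX_one]
  · intro n hn t ht
    rcases hn with rfl | rfl | rfl
    · exact c1 t ht
    · rw [e2]
      exact c1 _ (c3 _ (c1 _ (c3' _ ht)))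
    · exact c3 t ht
  · intro j t ht
    exact h1 t ht j
  · intro j t ht
    rw [e2, h1 _ (c3 _ (c1 _ (c3' _ ht))), h3 _ (c1 _ (c3' _ ht)), h1 _ (c3' _ ht), ← h3 _ (c3' _ ht), ← zpow_mul,
      eps_two]
    congr 2
    group
  · intro j t ht
    rw [zpow_one]
    exact h3 t ht j
  · intro j
    exact isCoprime_one_left

include hk hτ F hTh in
/-- **The hypotheses of the criterion.** -/
theorem irr [Finite ↥(fixS τ)] (h5r : 5 ≠ r) {m C : ℕ} (hm : 0 < m) (hC : ¬ 5 ∣ C)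
    (hq : r ^ e * r ^ e + 1 = 5 ^ m * C) {n1 n3 : ↥(fixS τ)}
    (hn1 : Rp CoxeterMatrix.E₈.toCoxeterSystem (tow hp CoxeterMatrix.E₈.toCoxeterSystem hk r).nsys dd
      (n1 : ↥(chevE8.group k)))
    (hn3 : Rp CoxeterMatrix.E₈.toCoxeterSystem (tow hp CoxeterMatrix.E₈.toCoxeterSystem hk r).nsys pp
      (n3 : ↥(chevE8.group k))) :
    ∃ (x0 t0 : ↥(fixS τ)) (N : Set ↥(fixS τ)), IrrHyp 5 (TG hp τ 5) x0 t0 N ∧ 5 ^ (4 * m) ≤ Nat.card (TG hp τ 5) := by
  have h5 : Fact (Nat.Prime 5) := ⟨Nat.prime_five⟩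
  have C0 := coord hk hp hτ F hTh hC hq hn1 hn3
  have hne : ∀ j, ∀ t ∈ TG hp τ 5, bb hp τ j t ≠ 0 := fun j t ht => (isMC_cX hp ht.1).ne_zero _
  -- roots of unity
  have h5k : ((5 : ℕ) : k) ≠ 0 := by
    rw [Ne, CharP.cast_eq_zero_iff k r]
    intro h
    exact h5r ((Nat.prime_dvd_prime_iff_eq Fact.out Nat.prime_five).1 h).symm
  have hroot : ∀ c : ℕ, ∃ ζ : k, IsPrimitiveRoot ζ (5 ^ c) := fun c => by
    have : NeZero ((5 ^ c : ℕ) : k) := ⟨by push_cast; exact pow_ne_zero _ (by exact_mod_cast h5k)⟩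
    exact HasEnoughRootsOfUnity.exists_primitiveRoot k (5 ^ c)
  obtain ⟨ω, hω⟩ := hroot 1
  rw [pow_one] at hω
  obtain ⟨ζ, hζ⟩ := hroot m
  have hdvd : ((5 ^ m : ℕ) : ℤ) ∣ ((r ^ e : ℕ) : ℤ) ^ 2 + 1 := by
    refine ⟨C, ?_⟩
    have h1 : ((r ^ e * r ^ e + 1 : ℕ) : ℤ) = ((5 ^ m * C : ℕ) : ℤ) := by rw [hq]
    push_cast at h1 ⊢
    linarith only [hq]
  have hdvd5 : (5 : ℤ) ∣ -1 * ((r ^ (e + e) : ℕ) : ℤ) - 1 := by
    have h1 : (5 : ℤ) ∣ ((5 ^ m : ℕ) : ℤ) := by exact_mod_cast dvd_pow_self 5 hm.ne'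
    have h2 := h1.trans hdvd
    have h3 : -1 * ((r ^ (e + e) : ℕ) : ℤ) - 1 = -(((r ^ e : ℕ) : ℤ) ^ 2 + 1) := by
      rw [pow_add]; push_cast; ring
    rw [h3]
    exact h2.neg_right
  have hQ1 : (-1 : ℤ) * ((r ^ (e + e) : ℕ) : ℤ) ≠ 1 := by
    have : (0 : ℤ) ≤ ((r ^ (e + e) : ℕ) : ℤ) := Int.natCast_nonneg _
    omega
  -- the element `x0`
  have hcomm := comm_levi (k := k) (n := 5) (hp := hp) (rt := rt8) (im := im8) nil8 F (fun i j hij => by
    funext m
    rw [theta_apply hTh, im8_eq i j hij])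
  obtain ⟨g0, y, t0, hg0', hτx0, hx05, hτy, hconj, ht0⟩ :=
    exists_pair (hN := nsysT hp hk r) ltab8 (by norm_num) (by decide) cop8 F (lfr hp hτ F hTh) hQ1
      (by exact_mod_cast hdvd5) hω hcomm
  have hg0 : Rp CoxeterMatrix.E₈.toCoxeterSystem (tow hp CoxeterMatrix.E₈.toCoxeterSystem hk r).nsys cc g0 := by
    rw [cw_eq] at hg0'
    exact rp_cast (TL_eq hp hk).symm hg0'
  -- conjugation by `x0`
  have hcx : ∀ t ∈ TG hp τ 5, τ ((g0 : ↥(chevE8.group k)) * (t : ↥(chevE8.group k)) * g0⁻¹) =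
      τ g0 * (t : ↥(chevE8.group k)) * (τ g0)⁻¹ := by
    intro t ht
    have : τ (t : ↥(chevE8.group k)) = t := t.2
    rw [map_mul, map_mul, map_inv, this]
  have hx0t : ∀ t ∈ TG hp τ 5, g0 * τ g0 * (t : ↥(chevE8.group k)) * (g0 * τ g0)⁻¹ =
      g0 * τ (g0 * (t : ↥(chevE8.group k)) * g0⁻¹) * g0⁻¹ := by
    intro t ht
    rw [hcx t ht]
    group
  have hmem1 : ∀ t ∈ TG hp τ 5, τ (g0 * (t : ↥(chevE8.group k)) * g0⁻¹) ∈ TT chevE8 k := fun t ht =>
    (F.tor _).2 (rp_conj_mem hp hk hg0 ht.1)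
  have hmem2 : ∀ t ∈ TG hp τ 5, g0 * τ g0 * (t : ↥(chevE8.group k)) * (g0 * τ g0)⁻¹ ∈ TT chevE8 k := by
    intro t ht
    rw [hx0t t ht]
    exact rp_conj_mem hp hk hg0 (hmem1 t ht)
  have hval : ∀ t ∈ TG hp τ 5, cX hp (g0 * τ g0 * (t : ↥(chevE8.group k)) * (g0 * τ g0)⁻¹) (av 0) =
      cX hp (t : ↥(chevE8.group k)) y0 := by
    intro t ht
    rw [hx0t t ht, ← rep_x3 hp, cX_rp' hp hk hg0 (hmem1 t ht), ← theta_x2 hTh,
      cX_sigma hp CoxeterMatrix.E₈.toCoxeterSystem hτ F (rp_conj_mem hp hk hg0 ht.1), ← rep_x1 hp,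
      cX_rp' hp hk hg0 ht.1, ← theta_x1 hTh, cX_of_fix hp hτ F ht.1 t.2]
  let x0 : ↥(fixS τ) := ⟨g0 * τ g0, hτx0⟩
  have hx0p : x0 ^ 5 = 1 := Subtype.ext hx05
  have hτt0 : τ t0 = t0 := by rw [← hconj, map_mul, map_mul, map_inv, hτy, hτx0]
  let t0' : ↥(fixS τ) := ⟨t0, hτt0⟩
  have hyx : (⟨y, hτy⟩ : ↥(fixS τ)) * x0 * (⟨y, hτy⟩ : ↥(fixS τ))⁻¹ = t0' := Subtype.ext hconj
  refine ⟨x0, t0', _, C0.irrHyp hne (by norm_num) hm ?_ hx0p ?_ ⟨_, hyx⟩ ?_, ?_⟩
  · rintro t ht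
    refine ⟨hmem2 t ht, ?_⟩
    obtain ⟨i, hi⟩ := ht.2
    exact ⟨i, by rw [conj_pow, hi, mul_one, mul_inv_cancel]⟩
  · refine ⟨ht0, 1, ?_⟩
    rw [← hyx, pow_one, conj_pow, hx0p, mul_one, mul_inv_cancel]
  · obtain ⟨t, ht, hct⟩ := mk_T hp hτ F hTh hζ.pow_eq_one hdvd (Pi.single 1 1)
    refine ⟨t, ht, 0, ?_⟩
    have h1 : cX hp (t : ↥(chevE8.group k)) (av 0) = 1 := by
      rw [hct, exp_av]
      simp
    have h2 : cX hp (t : ↥(chevE8.group k)) y0 = ζ⁻¹ := by
      rw [hct, exp_y0, zpow_neg_one]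
    have h3 : bb hp τ 0 (x0 * t * x0⁻¹ * t⁻¹) = ζ⁻¹ := by
      show cX hp (g0 * τ g0 * (t : ↥(chevE8.group k)) * (g0 * τ g0)⁻¹ * (t : ↥(chevE8.group k))⁻¹) (av 0) = ζ⁻¹
      rw [cX_mul hp (hmem2 t ht) (inv_mem ht.1), cX_inv hp ht.1, hval t ht, h1, h2, inv_one, mul_one]
    rw [h3]
    exact hζ.inv
  · -- the order
    have hex : ∀ v : Fin 4 → Fin (5 ^ m), ∃ t ∈ TG hp τ 5, ∀ l, cX hp (t : ↥(chevE8.group k)) (av l) =
        ζ ^ (2 * ((v l : ℕ) : ℤ)) := by
      intro v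
      obtain ⟨t, ht, hct⟩ := mk_T hp hτ F hTh hζ.pow_eq_one hdvd (fun j => ((v j : ℕ) : ℤ))
      exact ⟨t, ht, fun l => by rw [hct, exp_av]⟩
    choose f hf hfc using hex
    have hinj : Function.Injective (fun v : Fin 4 → Fin (5 ^ m) => (⟨f v, hf v⟩ : ↥(TG hp τ 5))) := by
      intro v v' h
      have h1 : f v = f v' := congrArg Subtype.val h
      funext l
      have h2 : ζ ^ (2 * ((v l : ℕ) : ℤ)) = ζ ^ (2 * ((v' l : ℕ) : ℤ)) := by rw [← hfc, ← hfc, h1]
      have h3 : (ζ ^ 2) ^ (v l : ℕ) = (ζ ^ 2) ^ (v' l : ℕ) := by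
        rw [← pow_mul, ← pow_mul]
        exact_mod_cast h2
      have hζ2 : IsPrimitiveRoot (ζ ^ 2) (5 ^ m) := hζ.pow_of_coprime 2 (Nat.Coprime.pow_right m (by norm_num))
      exact Fin.ext (hζ2.pow_inj (v l).2 (v' l).2 h3)
    have h9 := Nat.card_le_card_of_injective _ hinj
    rw [Nat.card_fun, Nat.card_fin, Nat.card_fin, ← pow_mul, mul_comm m 4] at h9
    exact h9

end Final

/-! ### the theorem -/

theorem refl_trans {D : ChevalleyDatum} {l : ℕ} {M : CoxeterMatrix (Fin l)} (hp : IsType D l M) (w : M.Group)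
    (x : Fin l → ℤ) : ((AddEquiv.refl (Fin l → ℤ)).trans (repAut M.toCoxeterSystem hp.isCartan w)) x =
      rep M.toCoxeterSystem hp.isCartan w x := rfl

open Cfsg.Agent.H795.NotAbRows Cfsg.Agent.BpExc.RowsUntw in
open Cfsg.Agent.H129.TorusUntw (phi isFrob_phi fr_phi phi_emb fix_range exists_closure) in
/-- **`E₈(q)`, `p = 5`, `q² ≡ -1 mod 5`.** -/
theorem full_e8 {K : Type u} [Field K] [Fintype K] (h : 5 ∣ Fintype.card K ^ 2 + 1) :
    Exc.Full 5 ↥(chevE8.group K) := by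
  obtain ⟨r, e, hr, hrK, hrk, he, hq, hk⟩ := _root_.Cfsg.Agent.H129.TorusUntw.exists_closure (F := K) rfl
  have h5 : Fact (Nat.Prime 5) := ⟨Nat.prime_five⟩
  rw [hq] at h
  have h5r : 5 ≠ r := by
    rintro rfl
    have h1 : 5 ∣ (5 ^ e) ^ 2 := (dvd_pow_self 5 he.ne').trans (dvd_pow_self _ two_ne_zero)
    have h2 := (Nat.dvd_add_right h1).1 h
    omega
  let k := AlgebraicClosure K
  let f := emb e8T.inList (algebraMap K k)
  have hf : Function.Injective f := emb_injective e8T.inList _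
  have hfix : ∀ x, phi chevE8 k r e (f x) = f x := fun x => phi_emb e8T (algebraMap K k) hq x
  have hsurj : ∀ y, phi chevE8 k r e y = y → ∃ x, f x = y := fun y hy =>
    fix_range e8T CoxeterMatrix.E₈.toCoxeterSystem (algebraMap K k) hq invC_E8 one_ne_zero (fun a => ⟨a, pow_one a⟩) hy
  have hσ : IsFrob r e (phi chevE8 k r e) := isFrob_phi
  have F := fr_phi (k := k) (p := r) (e := e) e8T CoxeterMatrix.E₈.toCoxeterSystem
  obtain ⟨n, z, hn, hz, hτ, Fτ⟩ := exists_tau e8T hk he hσ F ww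
  have hTh : ∀ j, ((AddEquiv.refl (Fin 8 → ℤ)).trans (repAut CoxeterMatrix.E₈.toCoxeterSystem e8T.isCartan ww)) (sr j) =
      wwM j := fun j => (refl_trans e8T ww _).trans (is_ww e8T j)
  obtain ⟨e1⟩ := iso_of hf hfix hsurj hz
  have hGfin : Finite ↥(chevE8.group K) := inferInstance
  have hfin1 : Finite ↥(fixS (MulAut.conj n * phi chevE8 k r e)) := Finite.of_equiv _ e1.toEquiv
  obtain ⟨m1, hm1, hτ1⟩ := exists_lift_tau e8T hk invC_E8 one_ne_zero he hσ F hτ Fτ
    (_root_.Cfsg.Agent.H795.NotAbCert.comm_of refl_mat (is_ww e8T) (is_dd e8T) id_ww comm_dd)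
  obtain ⟨m3, hm3, hτ3⟩ := exists_lift_tau e8T hk invC_E8 one_ne_zero he hσ F hτ Fτ
    (_root_.Cfsg.Agent.H795.NotAbCert.comm_of refl_mat (is_ww e8T) (is_pp e8T) id_ww comm_pp)
  -- the exponent
  have h0 : r ^ e * r ^ e + 1 ≠ 0 := by omega
  obtain ⟨m, C, hC, hmC⟩ := Nat.exists_eq_pow_mul_and_not_dvd h0 5 (by norm_num)
  have hm : 0 < m := by
    rcases Nat.eq_zero_or_pos m with h1 | h1
    · rw [h1, pow_zero, one_mul] at hmC
      rw [pow_two, hmC] at h
      exact absurd h hC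
    · exact h1
  obtain ⟨x0, t0, N, HI, hT⟩ := irr hk e8T hτ Fτ hTh h5r hm hC hmC (n1 := ⟨m1, hτ1⟩) (n3 := ⟨m3, hτ3⟩) hm1 hm3
  refine Exc.full_congr e1.symm (HI.full ?_)
  intro hdvd
  have hTp : IsPGroup 5 (TG e8T (MulAut.conj n * phi chevE8 k r e) 5) := by
    rintro ⟨t, ht⟩
    obtain ⟨i, hi⟩ := ht.2
    exact ⟨i, Subtype.ext hi⟩
  obtain ⟨s, hs⟩ := IsPGroup.iff_card.1 hTp
  rw [hs] at hT hdvd
  have hs' : 4 * m ≤ s := (Nat.pow_le_pow_iff_right (by norm_num)).1 hT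
  have h6 : 5 ^ (4 * m + 2) ∣ Nat.card ↥(chevE8.group K) := by
    have h7 : Nat.card ↥(chevE8.group K) = Nat.card ↥(fixS (MulAut.conj n * phi chevE8 k r e)) :=
      Nat.card_congr e1.toEquiv
    rw [h7]
    refine dvd_trans ?_ hdvd
    rw [← pow_add]
    exact Nat.pow_dvd_pow 5 (by omega)
  rw [Cfsg.Agent.S1065.result rfl, hq] at h6
  have hpos : ∀ i, 1 ≤ (r ^ e) ^ i := fun i => Nat.one_le_pow _ _ (pow_pos hr.out.pos e)
  have h7 := Int.natCast_dvd_natCast.2 h6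
  refine not_dvd_ord (x := ((r ^ e : ℕ) : ℤ)) (c := C) rfl ?_ hm ?_ ?_ (m := m)
  · have h8 : ((r ^ e * r ^ e + 1 : ℕ) : ℤ) = ((5 ^ m * C : ℕ) : ℤ) := by rw [hmC]
    push_cast at h8 ⊢
    linarith only [hmC]
  · intro h8
    exact hC (by exact_mod_cast h8)
  · push_cast [Nat.cast_sub (hpos _)] at h7 ⊢
    exact h7

/-- **`E₈(q)`, `p = 5`, `q² ≡ -1 mod 5`.** -/
theorem fullP_e8 {K : Type u} [Field K] [Fintype K] (h : 5 ∣ Fintype.card K ^ 2 + 1) :
    H749.FullP 5 ↥(chevE8.group K) := by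
  have h5' : Fact (Nat.Prime 5) := ⟨Nat.prime_five⟩
  have hGfin : Finite ↥(chevE8.group K) := inferInstance
  exact Exc.fullP_of_full (full_e8 h)

end Cfsg.Agent.H790.E8Main

private theorem dce_84292d6d18bd : _root_.True := by
  try have : _root_.True := by simp only [_root_.Cfsg.Agent.H790.TriMain.TG.congr_simp]
  try have : _root_.True := by simp only [_root_.Cfsg.Agent.H790.E8Data.c8.eq_1]
  exact _root_.True.intro
end

-- part: H790/ExcAbAll
section
set_option linter.all false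
open scoped Cfsg.Agent.FastGrp

/-!
# Exceptional groups, `p ≥ 5` in cross characteristic: abelian Sylow `p`-subgroups or an explicit list (helper790)

`exc_five` : `G` exceptional (or the Tits group), `p ≥ 5`, `NonAb p G` (explicit) or all `p`-subgroups are abelian or
the characteristic is `p`.
-/

set_option autoImplicit false

namespace Cfsg.Agent.H790.ExcAb

open Cfsg Cfsg.Lie

theorem abP_of_cyclic {p : ℕ} [Fact p.Prime] {G : Type*} [Group G] [Finite G]
    (h : ∀ P : Sylow p G, IsCyclic ↥(P : Subgroup G)) : AbP p G := by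
  refine AbP.of_sylow fun P a ha b hb => ?_
  have := h P
  obtain ⟨g, hg⟩ := IsCyclic.exists_generator (α := ↥(P : Subgroup G))
  obtain ⟨i, hi⟩ := hg ⟨a, ha⟩
  obtain ⟨j, hj⟩ := hg ⟨b, hb⟩
  have h1 : (⟨a, ha⟩ : ↥(P : Subgroup G)) * ⟨b, hb⟩ = ⟨b, hb⟩ * ⟨a, ha⟩ := by
    rw [← hi, ← hj]
    exact (zpow_mul_comm g i j)
  exact congrArg Subtype.val h1

/-- `p ^ 3` does not divide the order -/
theorem abP_of_not_dvd {p : ℕ} [hp : Fact p.Prime] {G : Type*} [Group G] [Finite G] (h : ¬ p ^ 3 ∣ Nat.card G) :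
    AbP p G := by
  refine AbP.of_sylow fun P a ha b hb => ?_
  have hc := P.card_eq_multiplicity
  have hG : Nat.card G ≠ 0 := Nat.card_pos.ne'
  have h2 : (Nat.card G).factorization p ≤ 2 := by
    by_contra h3
    exact h ((hp.out.pow_dvd_iff_le_factorization hG).2 (by omega))
  have h3 : ∀ x y : ↥(P : Subgroup G), x * y = y * x := by
    interval_cases h4 : (Nat.card G).factorization p
    · rw [pow_zero] at hc
      have := (Nat.card_eq_one_iff_unique.1 hc).1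
      exact fun x y => Subsingleton.elim _ _
    · rw [pow_one] at hc
      have hcyc : IsCyclic ↥(P : Subgroup G) := isCyclic_of_prime_card hc
      exact fun x y => (IsCyclic.isMulCommutative (α := ↥(P : Subgroup G))).is_comm.comm x y
    · exact fun x y => (IsPGroup.isMulCommutative_of_card_eq_prime_sq hc).is_comm.comm x y
  exact congrArg Subtype.val (h3 ⟨a, ha⟩ ⟨b, hb⟩)


/-- the exceptional groups of characteristic `p` -/
inductive ExcChar (p : ℕ) (G : Type*) [Group G] : Prop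
  | untw (F : Type) [Field F] [Fintype F] [CharP F p]
      (h : (3 ≤ Fintype.card F ∧ Nonempty (G ≃* chevG2.group F)) ∨ Nonempty (G ≃* chevF4.group F) ∨
        Nonempty (G ≃* chevE6.group F) ∨ Nonempty (G ≃* chevE7.group F) ∨ Nonempty (G ≃* chevE8.group F))
  | tw (K : Type) [Field K] [Fintype K] [CharP K p] (q : ℕ) (hq : IsPrimePow q)
      (h : (Fintype.card K = q ^ 2 ∧ Nonempty (G ≃* twistedE6 K q)) ∨
        (Fintype.card K = q ^ 3 ∧ Nonempty (G ≃* twistedD4 K q)))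

/-- the exceptional groups with nonabelian Sylow `p`-subgroups for `p ≥ 5` not the characteristic -/
inductive ExcNonab (p : ℕ) (G : Type*) [Group G] : Prop
  | e6 (F : Type) [Field F] [Fintype F] (hp : p = 5) (hq : Fintype.card F % 5 = 1)
      (e : Nonempty (G ≃* chevE6.group F))
  | te6 (K : Type) [Field K] [Fintype K] (q : ℕ) (hp : p = 5) (hq : IsPrimePow q) (hK : Fintype.card K = q ^ 2)
      (hq5 : q % 5 = 4) (e : Nonempty (G ≃* twistedE6 K q))
  | e7 (F : Type) [Field F] [Fintype F] (hp : p = 5 ∨ p = 7) (h0 : ¬ p ∣ Fintype.card F)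
      (hq : p ∣ Fintype.card F ^ 2 - 1) (e : Nonempty (G ≃* chevE7.group F))
  | e8 (F : Type) [Field F] [Fintype F] (hp : p = 5) (h0 : ¬ p ∣ Fintype.card F) (e : Nonempty (G ≃* chevE8.group F))
  | e8' (F : Type) [Field F] [Fintype F] (hp : p = 7) (h0 : ¬ p ∣ Fintype.card F)
      (hq : p ∣ Fintype.card F ^ 2 - 1) (e : Nonempty (G ≃* chevE8.group F))

theorem charP_of_dvd {F : Type*} [Field F] [Fintype F] {p : ℕ} (hp : p.Prime) (h : p ∣ Fintype.card F) :
    CharP F p := by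
  obtain ⟨c, hc⟩ := CharP.exists F
  obtain ⟨m, hcp, hm⟩ := FiniteField.card F c
  rw [hm] at h
  rwa [(Nat.prime_dvd_prime_iff_eq hp hcp).1 (hp.dvd_of_dvd_pow h)]

theorem dvd_sq_sub {p q : ℕ} (h : q % p = 1 ∨ q % p = p - 1) (hp : 2 ≤ p) : p ∣ q ^ 2 - 1 := by
  have hq : 1 ≤ q := by
    rcases Nat.eq_zero_or_pos q with rfl | h0
    · rw [Nat.zero_mod] at h
      omega
    · exact h0
  have h1 : q ^ 2 - 1 = (q - 1) * (q + 1) := by
    obtain ⟨k, rfl⟩ := Nat.exists_eq_add_of_le hq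
    have : (1 + k) ^ 2 = k * (k + 2) + 1 := by ring
    rw [this]
    simp only [Nat.add_sub_cancel, Nat.add_sub_cancel_left]
    ring
  rw [h1]
  rcases h with h | h
  · refine Dvd.dvd.mul_right ?_ _
    have h2 := Nat.div_add_mod q p
    exact ⟨q / p, by omega⟩
  · refine Dvd.dvd.mul_left ?_ _
    have h2 := Nat.div_add_mod q p
    refine ⟨q / p + 1, ?_⟩
    rw [mul_add, mul_one]
    omega

/-- **Exceptional groups, `p ≥ 5`.** -/
theorem exc_five {G : Type*} [Group G] [Finite G] (hG : IsExceptionalLieType G) {p : ℕ} [hp : Fact p.Prime]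
    (h5 : 5 ≤ p) : AbP p G ∨ ExcChar p G ∨ ExcNonab p G := by
  have hp2 : p ≠ 2 := by omega
  rcases hG with ⟨F, _, _, h3, ⟨e⟩⟩ | ⟨F, _, _, ⟨e⟩⟩ | ⟨F, _, _, ⟨e⟩⟩ | ⟨F, _, _, ⟨e⟩⟩ | ⟨F, _, _, ⟨e⟩⟩ |
    ⟨K, _, _, q, hq, hK, ⟨e⟩⟩ | ⟨K, _, _, q, hq, hK, ⟨e⟩⟩ | hS | ⟨K, _, _, m, hm, hK, ⟨e⟩⟩ |
    ⟨K, _, _, m, hm, hK, ⟨e⟩⟩ | ⟨⟨e⟩⟩
  · by_cases h : p ∣ Fintype.card F
    · have := charP_of_dvd hp.out h
      exact Or.inr (Or.inl (.untw F (Or.inl ⟨h3, ⟨e⟩⟩)))
    · exact Or.inl ((G2 rfl h h5).congr e)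
  · by_cases h : p ∣ Fintype.card F
    · have := charP_of_dvd hp.out h
      exact Or.inr (Or.inl (.untw F (Or.inr (Or.inl ⟨e⟩))))
    · exact Or.inl ((F4 rfl h h5).congr e)
  · by_cases h : p ∣ Fintype.card F
    · have := charP_of_dvd hp.out h
      exact Or.inr (Or.inl (.untw F (Or.inr (Or.inr (Or.inl ⟨e⟩)))))
    · by_cases h1 : p = 5 ∧ Fintype.card F % 5 = 1
      · exact Or.inr (Or.inr (.e6 F h1.1 h1.2 ⟨e⟩))
      · exact Or.inl ((E6 rfl h h5 fun h2 h3 => h1 ⟨h2, h3⟩).congr e)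
  · by_cases h : p ∣ Fintype.card F
    · have := charP_of_dvd hp.out h
      exact Or.inr (Or.inl (.untw F (Or.inr (Or.inr (Or.inr (Or.inl ⟨e⟩))))))
    · by_cases h1 : (p = 5 ∨ p = 7) ∧ p ∣ Fintype.card F ^ 2 - 1
      · exact Or.inr (Or.inr (.e7 F h1.1 h h1.2 ⟨e⟩))
      · refine Or.inl ((E7 rfl h h5 (fun h2 => ?_) fun h2 => ?_).congr e)
        · refine ⟨fun h3 => h1 ⟨Or.inl h2, ?_⟩, fun h3 => h1 ⟨Or.inl h2, ?_⟩⟩
          · rw [h2]; exact dvd_sq_sub (Or.inl h3) (by norm_num)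
          · rw [h2]; exact dvd_sq_sub (Or.inr h3) (by norm_num)
        · refine ⟨fun h3 => h1 ⟨Or.inr h2, ?_⟩, fun h3 => h1 ⟨Or.inr h2, ?_⟩⟩
          · rw [h2]; exact dvd_sq_sub (Or.inl h3) (by norm_num)
          · rw [h2]; exact dvd_sq_sub (Or.inr h3) (by norm_num)
  · by_cases h : p ∣ Fintype.card F
    · have := charP_of_dvd hp.out h
      exact Or.inr (Or.inl (.untw F (Or.inr (Or.inr (Or.inr (Or.inr ⟨e⟩))))))
    · by_cases h1 : p = 5
      · exact Or.inr (Or.inr (.e8 F h1 h ⟨e⟩))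
      by_cases h2 : p = 7 ∧ p ∣ Fintype.card F ^ 2 - 1
      · exact Or.inr (Or.inr (.e8' F h2.1 h h2.2 ⟨e⟩))
      · have h7 : 7 ≤ p := by
          rcases Nat.lt_or_ge p 7 with h8 | h8
          · interval_cases p
            · exact absurd rfl h1
            · exact absurd hp.out (by norm_num)
          · exact h8
        refine Or.inl ((E8 rfl h h7 fun h3 => ⟨fun h4 => h2 ⟨h3, ?_⟩, fun h4 => h2 ⟨h3, ?_⟩⟩).congr e)
        · rw [h3]; exact dvd_sq_sub (Or.inl h4) (by norm_num)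
        · rw [h3]; exact dvd_sq_sub (Or.inr h4) (by norm_num)
  · by_cases h : p ∣ q
    · have := charP_of_dvd (F := K) hp.out (by rw [hK]; exact h.trans (dvd_pow_self q two_ne_zero))
      exact Or.inr (Or.inl (.tw K q hq (Or.inl ⟨hK, ⟨e⟩⟩)))
    · by_cases h1 : p = 5 ∧ q % 5 = 4
      · exact Or.inr (Or.inr (.te6 K q h1.1 hq hK h1.2 ⟨e⟩))
      · exact Or.inl ((tw2E6 hq hK h h5 fun h2 h3 => h1 ⟨h2, h3⟩).congr e)
  · by_cases h : p ∣ q
    · have := charP_of_dvd (F := K) hp.out (by rw [hK]; exact h.trans (dvd_pow_self q three_ne_zero))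
      exact Or.inr (Or.inl (.tw K q hq (Or.inr ⟨hK, ⟨e⟩⟩)))
    · exact Or.inl ((tw3D4 hK h h5).congr e)
  · exact Or.inl (abP_of_cyclic fun P => Cfsg.Agent.OddRank.SzTits.isCyclic_of_isPGroup hS hp2 P P.isPGroup')
  · exact Or.inl ((abP_of_cyclic fun P => Cfsg.Agent.S1156.result hm hK (by omega) P).congr e)
  · refine Or.inl ((tw2F4 hK (not_dvd_of_pow fun h => ?_) h5).congr e)
    exact hp2 ((Nat.prime_dvd_prime_iff_eq hp.out Nat.prime_two).1 h)
  · refine Or.inl ((abP_of_not_dvd (G := TitsGroup) ?_).congr e)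
    rw [show Nat.card TitsGroup = 17971200 from Cfsg.Agent.S1074.result.2.2.2.trans (by norm_num)]
    intro h
    have h1 : p ∣ 2 ^ 11 * 3 ^ 3 * 5 ^ 2 * 13 := by
      have : (17971200 : ℕ) = 2 ^ 11 * 3 ^ 3 * 5 ^ 2 * 13 := by norm_num
      rw [← this]
      exact (dvd_pow_self p three_ne_zero).trans h
    rcases (Nat.Prime.dvd_mul hp.out).1 h1 with h3 | h3
    · rcases (Nat.Prime.dvd_mul hp.out).1 h3 with h3 | h3
      · rcases (Nat.Prime.dvd_mul hp.out).1 h3 with h3 | h3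
        · have := Nat.le_of_dvd (by norm_num) (hp.out.dvd_of_dvd_pow h3); omega
        · have := Nat.le_of_dvd (by norm_num) (hp.out.dvd_of_dvd_pow h3); omega
      · have h4 := (Nat.prime_dvd_prime_iff_eq hp.out (by norm_num)).1 (hp.out.dvd_of_dvd_pow h3)
        subst h4
        revert h
        norm_num
    · have h4 := (Nat.prime_dvd_prime_iff_eq hp.out (by norm_num)).1 h3
      subst h4
      revert h
      norm_num

end Cfsg.Agent.H790.ExcAb
end
end
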