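import Cfsg.Agent.H91.E6F4Rel
import Cfsg.Agent.H629.ExcFullP_mg_m3
import Cfsg.Agent.TitsThree.KExcGen
import Cfsg.Agent.H129.TorusUntw
import Cfsg.Agent.H720.TwFr
import Cfsg.Agent.BpExc.EmbInst
import Cfsg.Agent.S1062
import Cfsg.Agent.S1063
import Cfsg.Agent.S1064
import Cfsg.Agent.S1065
import Cfsg.Agent.S1066
import Cfsg.Agent.H79.SimpleGen
import Cfsg.Agent.GpExc.Field
import Cfsg.Agent.H792.SpHeis_m3
import Cfsg.Agent.ClassicalGeometry.PSL2Basic
import Cfsg.Agent.Transfer.FusionBasic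
import Cfsg.Agent.Lib.FinFast
import Cfsg.Agent.Lib.NodupNat
import Cfsg.Agent.FastGrp
import Cfsg.Agent.Prune
set_option linter.all false

section
prune_inst 0x7ffcfdfb2ff8afffffff7e7ffed5dffdd9f8bfffe6dff9fbffe8e1ff2bdf230889c5fb856de012ff1ed7629410b87b53ffffffffea63fc7ffffd5ff41ffbee4fe5f6b508119084240fb40fff83f07f8e7f3fffffffffffffffffffffffffffbeffffffffffff

-- part: H629/ExcFour
section
set_option linter.all false
open scoped Cfsg.Agent.FastGrp

namespace Cfsg.Agent.H90F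

private noncomputable def frc {α : Type} (x : ℕ) (f : ℕ → α) : α := Nat.rec (f 0) (fun k _ => f (Nat.succ k)) x

private theorem frc_eq {α : Type} (x : ℕ) (f : ℕ → α) : frc x f = f x := by cases x <;> rfl

private noncomputable def nth {α : Type} (d : α) (l : List α) : ℕ → α :=
  List.rec (fun _ => d) (fun a _ ih n => Nat.rec a (fun k _ => ih k) n) l

private theorem nth_eq {α : Type} (d : α) (l : List α) (n : ℕ) : nth d l n = l.getD n d := by
  induction l generalizing n with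
  | nil => rfl
  | cons a l ih => cases n with
    | zero => rfl
    | succ k => exact ih k

private theorem nth_arr {α : Type} (d : α) (a : Array α) (n : ℕ) : a.getD n d = nth d a.toList n := by
  rw [nth_eq, List.getD_eq_getElem?_getD, Array.getD_eq_getD_getElem?, Array.getElem?_toList]

private noncomputable def row (D : Cfsg.Lie.ChevalleyDatum) (r : ℕ) : List (ℕ × Array (ℕ × ℤ)) := (nth #[] D.chain.toList r).toList

private noncomputable def fnd (s : ℕ) (l : List (ℕ × Array (ℕ × ℤ))) : List (ℕ × ℤ) :=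
  List.rec [] (fun e _ ih => Bool.rec ih e.2.toList (Nat.beq e.1 s)) l

private theorem ce_eq0 (D : Cfsg.Lie.ChevalleyDatum) (r s : ℕ) : D.chainEntry r s = fnd s (row D r) := by
  unfold Cfsg.Lie.ChevalleyDatum.chainEntry row
  rw [nth_arr]
  generalize (nth #[] D.chain.toList r).toList = l
  induction l with
  | nil => rfl
  | cons e l ih =>
    show _ = (Bool.rec (fnd s l) e.2.toList (Nat.beq e.1 s) : List (ℕ × ℤ))
    by_cases h : e.1 = s
    · rw [List.find?_cons_of_pos (by simpa using h), Nat.beq_eq.mpr h]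
    · rw [List.find?_cons_of_neg (by simpa using h), ih, Bool.eq_false_iff.2 fun h1 => h (Nat.eq_of_beq_eq_true h1)]

private noncomputable def fce (D : Cfsg.Lie.ChevalleyDatum) (r s : ℕ) : List (ℕ × ℤ) := frc r fun r => frc s fun s => fnd s (row D r)

private theorem ce_eq (D : Cfsg.Lie.ChevalleyDatum) : D.chainEntry = fce D := by
  funext r s
  rw [fce, frc_eq, frc_eq, ce_eq0]

private noncomputable def fcr (D : Cfsg.Lie.ChevalleyDatum) (r s i : ℕ) : Option ℕ := ((fce D r s)[i - 1]?).map Prod.fst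

private theorem cr_eq (D : Cfsg.Lie.ChevalleyDatum) : D.chainRoot = fcr D := by
  funext r s i
  rw [fcr, ← ce_eq]; rfl

private noncomputable def fcm (D : Cfsg.Lie.ChevalleyDatum) (r s i : ℕ) : ℤ := (((fce D r s)[i - 1]?).map Prod.snd).getD 0

private theorem cm_eq (D : Cfsg.Lie.ChevalleyDatum) : D.chainM = fcm D := by
  funext r s i
  rw [fcm, ← ce_eq]; rfl

private noncomputable def gct (cr : ℕ → ℕ → ℕ → Option ℕ) (cm : ℕ → ℕ → ℕ → ℤ) (r s : ℕ) : List (ℕ × ℤ × ℕ × ℕ) :=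
  ([(cr r s 1, cm r s 1, 1, 1), (cr r s 2, cm r s 2, 2, 1), (cr s r 2, cm s r 2, 1, 2), (cr r s 3, cm r s 3, 3, 1),
      (cr s r 3, - cm s r 3, 1, 3),
      ((cr r s 3).bind fun k => cr k s 1, ((cr r s 1).map fun k => cm k r 2 / 3).getD 0, 3, 2),
      ((cr s r 3).bind fun k => cr k r 1, ((cr r s 1).map fun k => -2 * cm k s 2 / 3).getD 0, 2, 3)] :
    List (Option ℕ × ℤ × ℕ × ℕ)).filterMap fun c => c.1.map fun k => (k, c.2)

private theorem gct_eq (D : Cfsg.Lie.ChevalleyDatum) (r s : ℕ) : D.commTerms r s = gct (fcr D) (fcm D) r s := by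
  rw [← cr_eq, ← cm_eq]; rfl

private noncomputable def msk (l : List (ℕ × Array (ℕ × ℤ))) : ℕ := List.rec 0 (fun e _ ih => Nat.lor ih (Nat.shiftLeft 1 e.1)) l

private theorem fnd_nil {s : ℕ} {l : List (ℕ × Array (ℕ × ℤ))} (h : (msk l).testBit s = false) : fnd s l = [] := by
  induction l with
  | nil => rfl
  | cons e l ih =>
    have h1 : (msk l ||| 1 <<< e.1).testBit s = false := h
    rw [Nat.testBit_or, Bool.or_eq_false_iff, Nat.one_shiftLeft, Nat.testBit_two_pow] at h1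
    show (Bool.rec (fnd s l) e.2.toList (Nat.beq e.1 s) : List (ℕ × ℤ)) = []
    rw [Bool.eq_false_iff.2 fun h2 => of_decide_eq_false h1.2 (Nat.eq_of_beq_eq_true h2)]
    exact ih h1.1

private noncomputable def fc2 (D : Cfsg.Lie.ChevalleyDatum) (r s : ℕ) : List (ℕ × ℤ) → List (ℕ × ℤ) → List (ℕ × ℤ × ℕ × ℕ)
  | [x], [_] => [(x.1, x.2, 1, 1)]
  | _, _ => gct (fcr D) (fcm D) r s

private noncomputable def fct (D : Cfsg.Lie.ChevalleyDatum) (r s : ℕ) : List (ℕ × ℤ × ℕ × ℕ) :=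
  frc r fun r => frc s fun s =>
    Bool.rec (fc2 D r s (fnd s (row D r)) (fnd r (row D s))) []
      (Nat.beq (Nat.land (Nat.lor (Nat.shiftRight (msk (row D r)) s) (Nat.shiftRight (msk (row D s)) r)) 1) 0)

private theorem ct_eq (D : Cfsg.Lie.ChevalleyDatum) : D.commTerms = fct D := by
  funext r s
  rw [fct, frc_eq, frc_eq]
  cases h : Nat.beq (Nat.land (Nat.lor (Nat.shiftRight (msk (row D r)) s) (Nat.shiftRight (msk (row D s)) r)) 1) 0
  · show _ = fc2 D r s _ _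
    rw [← ce_eq0, ← ce_eq0]
    unfold fc2
    split
    · rename_i h1 h2
      unfold Cfsg.Lie.ChevalleyDatum.commTerms Cfsg.Lie.ChevalleyDatum.chainRoot Cfsg.Lie.ChevalleyDatum.chainM
      rw [h1, h2]; rfl
    · exact gct_eq D r s
  · have h1 : ((msk (row D r) >>> s ||| msk (row D s) >>> r)).testBit 0 = false := by
      have h2 : (msk (row D r) >>> s ||| msk (row D s) >>> r) &&& 1 = 0 := Nat.eq_of_beq_eq_true h
      rw [Nat.and_one_is_mod] at h2
      rw [Nat.testBit_zero, h2]; rfl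
    rw [Nat.testBit_or, Bool.or_eq_false_iff, Nat.testBit_shiftRight, Nat.testBit_shiftRight, Nat.add_zero, Nat.add_zero] at h1
    show _ = []
    unfold Cfsg.Lie.ChevalleyDatum.commTerms Cfsg.Lie.ChevalleyDatum.chainRoot Cfsg.Lie.ChevalleyDatum.chainM
    rw [ce_eq0 D r s, ce_eq0 D s r, fnd_nil h1.1, fnd_nil h1.2]; rfl

private theorem ct_fun : Cfsg.Lie.ChevalleyDatum.commTerms = fct := funext ct_eq

private noncomputable def fng (D : Cfsg.Lie.ChevalleyDatum) (r : ℕ) : ℕ := frc r (nth 0 D.negIdx.toList)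

private theorem ng_eq (D : Cfsg.Lie.ChevalleyDatum) : D.neg = fng D := by
  funext r
  rw [fng, frc_eq]
  exact nth_arr _ _ _

private theorem ng_fun : Cfsg.Lie.ChevalleyDatum.neg = fng := funext ng_eq

private noncomputable def fsi (D : Cfsg.Lie.ChevalleyDatum) (i : ℕ) : ℕ := frc i (nth 0 D.simpleIdx.toList)

private theorem si_eq (D : Cfsg.Lie.ChevalleyDatum) : D.simple = fsi D := by
  funext r
  rw [fsi, frc_eq]
  exact nth_arr _ _ _

private theorem si_fun : Cfsg.Lie.ChevalleyDatum.simple = fsi := funext si_eq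

private noncomputable def fca (D : Cfsg.Lie.ChevalleyDatum) (i s : ℕ) : ℤ :=
  frc i fun i => frc s (nth 0 (nth #[] D.cartanSR.toList i).toList)

private theorem ca_eq (D : Cfsg.Lie.ChevalleyDatum) : D.cartan = fca D := by
  funext i s
  rw [fca, frc_eq, frc_eq, ← nth_arr, ← nth_arr]
  rfl

private theorem ca_fun : Cfsg.Lie.ChevalleyDatum.cartan = fca := funext ca_eq

private noncomputable def fld {α : Type} (l : List α) (n : ℕ) (d : α) : α := frc n (nth d l)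

private theorem ld_eq {α : Type} (l : List α) (n : ℕ) (d : α) : l.getD n d = fld l n d := by
  rw [fld, frc_eq, nth_eq]

private theorem ld_fun : @List.getD.{0} = @fld := by
  funext α a n d; exact ld_eq a n d

end Cfsg.Agent.H90F

-- part: H629/ExcFourRel
section
/-!
# The Lie algebra of type `F₄` inside the Lie algebra of type `E₆`, all characteristics (helper629)

`J v` : the image of `v`, with signs. `Rel g g'` : `g` and `g'` act compatibly. `rel_gen` : `x_r(t)`, `x_r(t) x_s(t)`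
are related to the root elements of `F₄` for simple roots and their negatives.
-/

set_option autoImplicit false

namespace Cfsg.Agent.H629.ExcFourRel

open Cfsg.Lie Cfsg.Agent.ChevalleyStructure Cfsg.Agent.ChevalleyStructure.Elts
  Cfsg.Agent.ChevalleyStructure.SparseEng
open Cfsg.Agent.H91.E6F4Rel (cI pl plL cc orb nod cI_surjective mem_pl pl_nodup nod_lt orb_lt hF4 hE6 ltr evW_map)

universe u

/-- the signs -/
def sg (k : ℕ) : ℤ := if k ∈ [22, 23, 25, 32, 28, 39, 37, 30, 53, 46, 44, 55, 51, 58, 60, 61] then -1 else 1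

theorem sg_sq (k : ℕ) : sg k * sg k = 1 := by
  unfold sg
  split <;> norm_num

/-- the code of an index -/
def code : chevE6.Idx → ℕ
  | Sum.inl i => i.val
  | Sum.inr r => 6 + r.val

theorem code_lt (i : chevE6.Idx) : code i < 78 := by
  rcases i with i | r
  · have : i.val < 6 := i.isLt
    show i.val < 78
    omega
  · have : r.val < 72 := r.isLt
    show 6 + r.val < 78
    omega

variable {K : Type u} [Field K]

theorem bvec_E6 (k : ℕ) (i : chevE6.Idx) : bvec chevE6 K k i = if code i = k then 1 else 0 := by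
  rcases i with i | r <;> rfl

theorem bvec_F4 {k : ℕ} (i : chevE6.Idx) : bvec chevF4 K k (cI i) = if cc (code i) = k then 1 else 0 := by
  rcases i with i | r
  · have hi : i.val < 6 := i.isLt
    have h4 : cc i.val = nod i.val := by unfold cc; rw [if_pos hi]
    show (if nod i.val = k then (1 : K) else 0) = if cc i.val = k then 1 else 0
    rw [h4]
  · have h4 : cc (6 + r.val) = 4 + orb r.val := by
      unfold cc
      rw [if_neg (by omega), Nat.add_sub_cancel_left]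
    show (if 4 + orb r.val = k then (1 : K) else 0) = if cc (6 + r.val) = k then 1 else 0
    rw [h4]

/-- the embedding of the `F₄`-module into the `E₆`-module -/
def J : (chevF4.Idx → K) →ₗ[K] (chevE6.Idx → K) where
  toFun v := fun i => ((sg (code i) : ℤ) : K) * v (cI i)
  map_add' v w := by
    funext i
    exact mul_add _ _ _
  map_smul' c v := by
    funext i
    show _ * (c * v (cI i)) = c * _
    ring

theorem J_apply (v : chevF4.Idx → K) (i : chevE6.Idx) : J v i = ((sg (code i) : ℤ) : K) * v (cI i) := rfl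

theorem J_injective : Function.Injective (J (K := K)) := by
  intro v w h
  funext j
  obtain ⟨i, rfl⟩ := cI_surjective j
  have h1 := congrFun h i
  rw [J_apply, J_apply] at h1
  have h2 : ((sg (code i) : ℤ) : K) * ((sg (code i) : ℤ) : K) = 1 := by
    rw [← Int.cast_mul, sg_sq, Int.cast_one]
  calc v (cI i) = (((sg (code i) : ℤ) : K) * ((sg (code i) : ℤ) : K)) * v (cI i) := by rw [h2, one_mul]
    _ = (((sg (code i) : ℤ) : K) * ((sg (code i) : ℤ) : K)) * w (cI i) := by rw [mul_assoc, h1, mul_assoc]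
    _ = w (cI i) := by rw [h2, one_mul]

theorem sum_ite_eq' (a : ℕ) (c : ℕ → K) (L : List ℕ) (h : L.Nodup) :
    (L.map fun k' => c k' * if a = k' then (1 : K) else 0).sum = if a ∈ L then c a else 0 := by
  induction L with
  | nil => simp
  | cons b L ih =>
    rw [List.map_cons, List.sum_cons, ih (List.nodup_cons.1 h).2]
    by_cases hab : a = b
    · subst hab
      simp [(List.nodup_cons.1 h).1]
    · simp [hab]

theorem J_bvec (k : ℕ) : J (bvec chevF4 K k) = ((pl k).map fun k' => ((sg k' : ℤ) : K) • bvec chevE6 K k').sum := by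
  by_cases hk : k < 52
  · ext i
    rw [sum_apply_list, J_apply, bvec_F4]
    have h2 : ((pl k).map fun a => (((sg a : ℤ) : K) • bvec chevE6 K a) i) =
        (pl k).map fun k' => ((sg k' : ℤ) : K) * if code i = k' then (1 : K) else 0 := by
      apply List.map_congr_left
      intro a _
      show ((sg a : ℤ) : K) * bvec chevE6 K a i = _
      rw [bvec_E6]
    rw [h2, sum_ite_eq' _ _ _ (pl_nodup k hk)]
    simp only [mem_pl k hk (code i) (code_lt i)]
    split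
    · rw [mul_one]
    · rw [mul_zero]
  · have h1 : pl k = [] := List.getD_eq_default _ _ (by
      have : plL.length = 52 := by decide
      omega)
    rw [h1, bvec_out (D := chevF4) k (by
      show 4 + 48 ≤ k
      omega), map_zero]
    rfl

/-- The image of a sparse vector. -/
def plS (l : List Term) : List Term := l.flatMap fun a => (pl a.k).map fun k' => ⟨k', sg k' * a.c, a.i, a.j⟩

/-- The negative of a sparse vector. -/
def ngT (l : List Term) : List Term := l.map fun a => ⟨a.k, -a.c, a.i, a.j⟩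

theorem ev_ngT (D : ChevalleyDatum) (l : List Term) (t s : K) : ev D K (ngT l) t s = - ev D K l t s := by
  induction l with
  | nil => exact neg_zero.symm
  | cons a l ih =>
    show ev D K (⟨a.k, -a.c, a.i, a.j⟩ :: ngT l) t s = _
    rw [ev_cons, ev_cons, ih, neg_add]
    congr 1
    unfold Term.ev
    push_cast
    rw [neg_mul, neg_mul, neg_smul]

theorem J_ev (l : List Term) (t s : K) : J (ev chevF4 K l t s) = ev chevE6 K (plS l) t s := by
  induction l with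
  | nil => exact map_zero _
  | cons a l ih =>
    have h1 : plS (a :: l) = ((pl a.k).map fun k' => (⟨k', sg k' * a.c, a.i, a.j⟩ : Term)) ++ plS l := rfl
    rw [h1, ev_append, ← ih, ev_cons, map_add]
    congr 1
    have h3 : a.ev chevF4 K t s = (((a.c : ℤ) : K) * t ^ a.i * s ^ a.j) • bvec chevF4 K a.k := rfl
    rw [h3, map_smul, J_bvec]
    generalize pl a.k = L
    induction L with
    | nil => simp [ev]
    | cons b L ihL =>
      rw [List.map_cons, List.sum_cons, smul_add, ihL, List.map_cons, ev_cons]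
      congr 1
      show _ = (((sg b * a.c : ℤ) : K) * t ^ a.i * s ^ a.j) • bvec chevE6 K b
      rw [smul_smul]
      congr 1
      push_cast
      ring

/-- The kernel-checked comparison of a word in `E₆` with a word in `F₄`. -/
def chk (w6 w4 : List (ℕ × Mon)) : Bool :=
  (List.range 52).all fun k =>
    (norm (actW chevE6 false w6 (plS [⟨k, 1, 0, 0⟩]) ++ ngT (plS (actW chevF4 false w4 [⟨k, 1, 0, 0⟩])))).isEmpty

/-- The intertwining relation. -/
def Rel (g : GL chevE6.Idx K) (g' : GL chevF4.Idx K) : Prop :=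
  ∀ v : chevF4.Idx → K, (g : Matrix chevE6.Idx chevE6.Idx K).mulVec (J v) =
    J ((g' : Matrix chevF4.Idx chevF4.Idx K).mulVec v)

theorem mulVec_ext (A : Matrix chevE6.Idx chevE6.Idx K) (B : Matrix chevF4.Idx chevF4.Idx K)
    (h : ∀ k < 52, A.mulVec (J (bvec chevF4 K k)) = J (B.mulVec (bvec chevF4 K k))) (v : chevF4.Idx → K) :
    A.mulVec (J v) = J (B.mulVec v) := by
  let f : (chevF4.Idx → K) →ₗ[K] (chevE6.Idx → K) := (Matrix.mulVecLin A).comp J
  let g : (chevF4.Idx → K) →ₗ[K] (chevE6.Idx → K) := J.comp (Matrix.mulVecLin B)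
  have hfg : f = g := by
    apply LinearMap.pi_ext'
    intro col
    apply LinearMap.ext_ring
    show A.mulVec (J (Pi.single col 1)) = J (B.mulVec (Pi.single col 1))
    rcases col with i | s
    · have hi : i.val < 4 := i.isLt
      have e : (Pi.single (Sum.inl i) 1 : chevF4.Idx → K) = bvec chevF4 K i.val := by
        ext row
        rcases row with j | s
        · simp only [bvec, Pi.single_apply, Sum.inl.injEq, Fin.ext_iff]
        · have h1 : chevF4.rank + s.val ≠ i.val := by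
            have : chevF4.rank = 4 := rfl
            omega
          simp [bvec, h1]
      rw [e]
      exact h _ (by omega)
    · have hs : s.val < 48 := s.isLt
      have hr : chevF4.rank = 4 := rfl
      have e : (Pi.single (Sum.inr s) 1 : chevF4.Idx → K) = bvec chevF4 K (4 + s.val) := by
        ext row
        rcases row with j | r
        · have h1 : j.val ≠ 4 + s.val := by
            have : j.val < 4 := j.isLt
            omega
          simp [bvec, h1]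
        · have h1 : chevF4.rank + r.val = 4 + s.val ↔ r.val = s.val := by omega
          simp only [bvec, Pi.single_apply, Sum.inr.injEq, Fin.ext_iff, h1]
      rw [e]
      exact h _ (by omega)
  exact congrArg (fun f : (chevF4.Idx → K) →ₗ[K] (chevE6.Idx → K) => f v) hfg

theorem rel_of_chk {w6 w4 : List (ℕ × Mon)} (h : chk w6 w4 = true) (t : K) (v : chevF4.Idx → K) :
    (chevE6.wordMat K (evW K w6 t 0)).mulVec (J v) = J ((chevF4.wordMat K (evW K w4 t 0)).mulVec v) := by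
  refine mulVec_ext _ _ (fun k hk => ?_) v
  unfold chk at h
  rw [List.all_eq_true] at h
  have h1 := List.isEmpty_iff.1 (h k (List.mem_range.2 hk))
  have h2 : ev chevE6 K _ t 0 = ev chevE6 K _ t 0 := congrArg (fun l => ev chevE6 K l t 0) h1
  rw [ev_norm, ev_append, ev_ngT, ← J_ev, ev_actW _ _ _ _ _ (by simp), ev_actW _ _ _ _ _ (by simp), ev_single,
    ← J_ev, ev_single, ev_nil] at h2
  exact sub_eq_zero.1 (by rw [sub_eq_add_neg]; exact h2)

/-- The fundamental roots of `F₄` and their negatives with the orbits in `E₆`. -/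
def gens : List (ℕ × List ℕ) :=
  [(24, [46]), (25, [39]), (27, [42, 37]), (33, [56, 36]), (23, [25]), (22, [32]), (20, [29, 34]), (14, [15, 35])]

private noncomputable def _root_.Cfsg.Agent.LsF.fa110d9_0 : {f // @Cfsg.Agent.ChevalleyStructure.SparseEng.ins = f} := ⟨_, by first | (delta Cfsg.Agent.ChevalleyStructure.SparseEng.ins List.brecOn List.brecOn.go Cfsg.Agent.ChevalleyStructure.SparseEng.ins._f; rewrite [Cfsg.Agent.LsF.iadd_pat, Cfsg.Agent.LsF.instDecEq_eq, Cfsg.Agent.LsF.instIDecEq_eq, Cfsg.Agent.LsF.dAnd_eq, Cfsg.Agent.LsF.ite_eq]; (try delta Cfsg.Agent.ChevalleyStructure.SparseEng.ins.match_1); (try delta List.casesOn); first | dsimp -zeta only | exact rfl) | exact rfl⟩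
private noncomputable def _root_.Cfsg.Agent.LsF.fa110d9_1 : {f // @Cfsg.Agent.ChevalleyStructure.SparseEng.norm = f} := ⟨_, by first | (delta Cfsg.Agent.ChevalleyStructure.SparseEng.norm; rewrite [Cfsg.Agent.LsF.fa110d9_0.2, Cfsg.Agent.LsF.foldr_eq]; exact rfl) | exact rfl⟩
private noncomputable def _root_.Cfsg.Agent.LsF.fa110d9_2 : {f // @Cfsg.Agent.ChevalleyStructure.SparseEng.red = f} := ⟨_, by first | (delta Cfsg.Agent.ChevalleyStructure.SparseEng.red; rewrite [Cfsg.Agent.LsF.nsub_pat, Cfsg.Agent.LsF.dBoolEq_eq, Cfsg.Agent.LsF.ite_eq]; exact rfl) | exact rfl⟩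
private noncomputable def _root_.Cfsg.Agent.LsF.fa110d9_3 : {f // @Cfsg.Agent.ChevalleyStructure.SparseEng.act = f} := ⟨_, by first | (delta Cfsg.Agent.ChevalleyStructure.SparseEng.act; rewrite [Cfsg.Agent.LsF.nadd_pat, Cfsg.Agent.LsF.nsub_pat, Cfsg.Agent.LsF.ineg_pat, Cfsg.Agent.LsF.instDecEq_eq, Cfsg.Agent.LsF.decLt_eq, Cfsg.Agent.LsF.map_eq, Cfsg.Agent.LsF.flatMap_eq, Cfsg.Agent.LsF.filter_eq, Cfsg.Agent.LsF.range_eq, Cfsg.Agent.LsF.agetD_eq, Cfsg.Agent.LsF.zipIdx_eq, Cfsg.Agent.LsF.ite_eq, Cfsg.Agent.LsF.decide_eq]; exact rfl) | exact rfl⟩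
private noncomputable def _root_.Cfsg.Agent.LsF.fa110d9_4 : {f // @Cfsg.Agent.ChevalleyStructure.SparseEng.actTerm = f} := ⟨_, by first | (delta Cfsg.Agent.ChevalleyStructure.SparseEng.actTerm; rewrite [Cfsg.Agent.LsF.fa110d9_2.2, Cfsg.Agent.LsF.fa110d9_3.2, Cfsg.Agent.LsF.nadd_pat, Cfsg.Agent.LsF.nmul_pat, Cfsg.Agent.LsF.imul_pat, Cfsg.Agent.LsF.map_eq]; exact rfl) | exact rfl⟩
private noncomputable def _root_.Cfsg.Agent.LsF.fa110d9_5 : {f // @Cfsg.Agent.ChevalleyStructure.SparseEng.actX = f} := ⟨_, by first | (delta Cfsg.Agent.ChevalleyStructure.SparseEng.actX; rewrite [Cfsg.Agent.LsF.fa110d9_1.2, Cfsg.Agent.LsF.fa110d9_4.2, Cfsg.Agent.LsF.flatMap_eq]; exact rfl) | exact rfl⟩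
private noncomputable def _root_.Cfsg.Agent.LsF.fa110d9_6 : {f // @Cfsg.Agent.ChevalleyStructure.SparseEng.actW = f} := ⟨_, by first | (delta Cfsg.Agent.ChevalleyStructure.SparseEng.actW; rewrite [Cfsg.Agent.LsF.fa110d9_5.2, Cfsg.Agent.LsF.foldr_eq]; exact rfl) | exact rfl⟩
private noncomputable def _root_.Cfsg.Agent.LsF.fa110d9_7 : {f // @Cfsg.Agent.H629.ExcFourRel.sg = f} := ⟨_, by first | (delta Cfsg.Agent.H629.ExcFourRel.sg; rewrite [Cfsg.Agent.LsF.ineg_pat, Cfsg.Agent.LsF.dMem_eq, Cfsg.Agent.LsF.ite_eq]; exact rfl) | exact rfl⟩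
private noncomputable def _root_.Cfsg.Agent.LsF.fa110d9_8 : {f // @Cfsg.Agent.H91.E6F4Rel.plL = f} := ⟨_, by first | (delta Cfsg.Agent.H91.E6F4Rel.plL; rewrite [Cfsg.Agent.LsF.lappend_pat]; exact rfl) | exact rfl⟩
private noncomputable def _root_.Cfsg.Agent.LsF.fa110d9_9 : {f // @Cfsg.Agent.H91.E6F4Rel.pl = f} := ⟨_, by first | (delta Cfsg.Agent.H91.E6F4Rel.pl; rewrite [Cfsg.Agent.LsF.fa110d9_8.2, Cfsg.Agent.LsF.getD_eq]; exact rfl) | exact rfl⟩
private noncomputable def _root_.Cfsg.Agent.LsF.fa110d9_10 : {f // @Cfsg.Agent.H629.ExcFourRel.plS = f} := ⟨_, by first | (delta Cfsg.Agent.H629.ExcFourRel.plS; rewrite [Cfsg.Agent.LsF.fa110d9_7.2, Cfsg.Agent.LsF.fa110d9_9.2, Cfsg.Agent.LsF.imul_pat, Cfsg.Agent.LsF.map_eq, Cfsg.Agent.LsF.flatMap_eq]; exact rfl) | exact rfl⟩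
private noncomputable def _root_.Cfsg.Agent.LsF.fa110d9_11 : {f // @Cfsg.Agent.H629.ExcFourRel.ngT = f} := ⟨_, by first | (delta Cfsg.Agent.H629.ExcFourRel.ngT; rewrite [Cfsg.Agent.LsF.ineg_pat, Cfsg.Agent.LsF.map_eq]; exact rfl) | exact rfl⟩
private noncomputable def _root_.Cfsg.Agent.LsF.fa110d9_12 : {f // @Cfsg.Agent.H629.ExcFourRel.chk = f} := ⟨_, by first | (delta Cfsg.Agent.H629.ExcFourRel.chk; rewrite [Cfsg.Agent.LsF.fa110d9_1.2, Cfsg.Agent.LsF.fa110d9_6.2, Cfsg.Agent.LsF.fa110d9_10.2, Cfsg.Agent.LsF.fa110d9_11.2, Cfsg.Agent.LsF.lappend_pat, Cfsg.Agent.LsF.all_eq, Cfsg.Agent.LsF.range_eq, Cfsg.Agent.LsF.isEmpty_eq]; exact rfl) | exact rfl⟩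
set_option maxRecDepth 100000 in
theorem chk_all : (gens.all fun g => chk (g.2.map ltr) [ltr g.1]) = true := by
  ((try (rewrite [Cfsg.Agent.LsF.fa110d9_12.2, Cfsg.Agent.LsF.all_eq, Cfsg.Agent.LsF.map_eq])); decide +kernel)

theorem rel_gen {g : ℕ × List ℕ} (hg : g ∈ gens) (t : K) :
    Rel (wordG hE6 (g.2.map fun r => (r, t))) (xG hF4 g.1 t) := by
  have h := List.all_eq_true.1 chk_all g hg
  intro v
  have h1 := rel_of_chk (K := K) h t v
  rw [evW_map, show ([ltr g.1] : List (ℕ × Mon)) = [g.1].map ltr from rfl, evW_map] at h1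
  rw [coe_wordG]
  have h2 : ((xG hF4 g.1 t : GL chevF4.Idx K) : Matrix chevF4.Idx chevF4.Idx K) =
      chevF4.wordMat K ([g.1].map fun r => (r, t)) := by
    rw [List.map_cons, List.map_nil, wordMat_cons, wordMat_nil, mul_one]
    rfl
  rw [h2]
  exact h1

/-! ### The relation as a subgroup -/

theorem Rel.one : Rel (1 : GL chevE6.Idx K) (1 : GL chevF4.Idx K) := by
  intro v
  rw [Units.val_one, Units.val_one, Matrix.one_mulVec, Matrix.one_mulVec]

theorem Rel.mul {g h : GL chevE6.Idx K} {g' h' : GL chevF4.Idx K} (h1 : Rel g g') (h2 : Rel h h') :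
    Rel (g * h) (g' * h') := by
  intro v
  rw [Units.val_mul, Units.val_mul, ← Matrix.mulVec_mulVec, ← Matrix.mulVec_mulVec, h2, h1]

theorem Rel.inv {g : GL chevE6.Idx K} {g' : GL chevF4.Idx K} (h : Rel g g') : Rel g⁻¹ g'⁻¹ := by
  intro v
  have h1 := h ((g'⁻¹ : GL chevF4.Idx K).1.mulVec v)
  have h2 : (g' : Matrix chevF4.Idx chevF4.Idx K).mulVec ((g'⁻¹ : GL chevF4.Idx K).1.mulVec v) = v := by
    rw [Matrix.mulVec_mulVec, ← Units.val_mul, mul_inv_cancel, Units.val_one, Matrix.one_mulVec]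
  rw [h2] at h1
  rw [← h1, Matrix.mulVec_mulVec, ← Units.val_mul, inv_mul_cancel, Units.val_one, Matrix.one_mulVec]

theorem Rel.unique {g : GL chevE6.Idx K} {g' h' : GL chevF4.Idx K} (h1 : Rel g g') (h2 : Rel g h') : g' = h' := by
  apply Units.ext
  apply Matrix.ext_of_mulVec_single
  intro i
  exact J_injective ((h1 (Pi.single i 1)).symm.trans (h2 (Pi.single i 1)))

/-- The relation as a subgroup of the product. -/
def relG (K : Type u) [Field K] : Subgroup (GL chevE6.Idx K × GL chevF4.Idx K) where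
  carrier := {x | Rel x.1 x.2}
  mul_mem' := fun h1 h2 => Rel.mul h1 h2
  one_mem' := Rel.one
  inv_mem' := fun h1 => Rel.inv h1

end Cfsg.Agent.H629.ExcFourRel
end

-- part: H629/ExcChk
section
/-!
# Checks for faithfulness and coprimality (helper629)
-/

set_option autoImplicit false
set_option linter.unusedSectionVars false

namespace Cfsg.Agent.H629.ExcChk

open CoxeterSystem Cfsg Cfsg.Lie Cfsg.Lie.ChevalleyDatum
open Cfsg.Agent.ChevalleyStructure Cfsg.Agent.ChevalleyStructure.CoxeterGeom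
  Cfsg.Agent.ChevalleyStructure.CoxeterGeomTypes Cfsg.Agent.ChevalleyStructure.RootVec
open Cfsg.Agent.Tits.Roots Cfsg.Agent.Tits.Core Cfsg.Agent.Nodes Cfsg.Agent.Nodes.Reps
  Cfsg.Agent.Nodes.RGDChev Cfsg.Agent.H629.ExcWeyl Cfsg.Agent.H629.ExcTor
open Cfsg.Agent.ChevalleyStructure.CoxeterElement (step dot unitL length_step length_unitL vec_unitL getD_subAt dot_eq mat)

/-- the vector of a root -/
def rv (D : ChevalleyDatum) (l r : ℕ) : List ℤ := (List.range l).map fun i => rt D r i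

theorem length_rv (D : ChevalleyDatum) (l r : ℕ) : (rv D l r).length = l := by simp [rv]

theorem lv_rv (D : ChevalleyDatum) (l r : ℕ) : lv l (rv D l r) = vec D l r := by
  funext i
  show (rv D l r).getD i 0 = rt D r i
  rw [rv, List.getD_eq_getElem _ _ (by simp)]
  simp

/-- one vector -/
def chk1 (rows : List (List ℤ)) (l p : ℕ) (v : List ℤ) : Bool :=
  (List.range l).all fun j => (v == unitL l j) ||
    !((List.range l).all fun i => (dot (rows.getD i []) v - (rows.getD i []).getD j 0) % (p : ℤ) == 0)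

/-- all roots -/
def faithOK (D : ChevalleyDatum) (l : ℕ) (rows : List (List ℤ)) (p : ℕ) : Bool :=
  (List.range D.nroots).all fun r => chk1 rows l p (rv D l r)

theorem faith_of {D : ChevalleyDatum} {l : ℕ} {M : CoxeterMatrix (Fin l)} (hp : IsType D l M)
    {W : Type*} [Group W] (cs : CoxeterSystem M W) {rows : List (List ℤ)} (hr : Rows D l rows) {p : ℕ}
    (h : faithOK D l rows p = true) (w : W)
    (hw : ∀ i j, (p : ℤ) ∣ pairing (cartanOf D l) i (rep cs hp.isCartan w (sr j)) - cartanOf D l i j) : w = 1 := by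
  refine rep_ext hp cs fun j => ?_
  rw [map_one, Module.End.one_apply]
  obtain ⟨s, hs, e⟩ := (isRoot_iff hp cs _).1 ((isRoot_sr cs hp.isCartan j).act w)
  rw [faithOK, List.all_eq_true] at h
  have h1 := h s (List.mem_range.2 hs)
  rw [chk1, List.all_eq_true] at h1
  have h2 := h1 j (List.mem_range.2 j.2)
  rw [Bool.or_eq_true, beq_iff_eq, Bool.not_eq_true', List.all_eq_false] at h2
  rw [← e]
  rcases h2 with h2 | ⟨i, hi, h2⟩
  · rw [← lv_rv, h2, lv, vec_unitL]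
    rfl
  · exfalso
    rw [List.mem_range] at hi
    apply h2
    rw [beq_iff_eq]
    apply Int.emod_eq_zero_of_dvd
    have h3 := hw ⟨i, hi⟩ j
    rw [← e, ← lv_rv, pairing_lv hr ⟨i, hi⟩ (length_rv D l s), ← hr.eq ⟨i, hi⟩ j] at h3
    exact h3

theorem cop_of {D : ChevalleyDatum} {l p : ℕ} (hp : p.Prime) (h2 : p ≠ 2)
    (h : ∀ i j : Fin l, cartanOf D l i j = 0 ∨ cartanOf D l i j = -1 ∨ cartanOf D l i j = 2 ∨ cartanOf D l i j = -2) :
    Cop D l p := by
  intro i j hij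
  have h3 : IsCoprime (2 : ℤ) (p : ℤ) := by
    have : Nat.Coprime 2 p := (Nat.coprime_primes Nat.prime_two hp).2 (Ne.symm h2)
    exact_mod_cast Nat.isCoprime_iff_coprime.2 this
  rcases h i j with h4 | h4 | h4 | h4
  · exact absurd h4 hij
  · rw [h4]; exact isCoprime_one_left.neg_left
  · rw [h4]; exact h3
  · rw [h4]; exact h3.neg_left

end Cfsg.Agent.H629.ExcChk
end

-- part: H629/ExcTab
section
/-!
# Tables of Levi subgroups of type A (helper629)
-/

set_option autoImplicit false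
set_option linter.unusedSectionVars false

namespace Cfsg.Agent.H629.ExcTab

open CoxeterSystem Cfsg Cfsg.Lie Cfsg.Lie.ChevalleyDatum
open Cfsg.Agent.ChevalleyStructure Cfsg.Agent.ChevalleyStructure.CoxeterGeom
  Cfsg.Agent.ChevalleyStructure.CoxeterGeomTypes
open Cfsg.Agent.TitsThree.KExcRT Cfsg.Agent.H629.ExcLevi Cfsg.Agent.H629.ExcWeyl

/-- the function of a list -/
def ch {l : ℕ} [NeZero l] (L : List (Fin l)) (j : ℕ) : Fin l := L.getD j 0

theorem cw_ch {l : ℕ} [NeZero l] {M : CoxeterMatrix (Fin l)} {W : Type*} [Group W] (cs : CoxeterSystem M W)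
    (L : List (Fin l)) : cw cs (ch L) L.length = cs.wordProd L := by
  unfold cw CoxeterSystem.wordProd
  congr 1
  refine List.ext_getElem (by simp) fun n h1 h2 => ?_
  simp only [List.length_map, List.length_range] at h1
  rw [List.getElem_map, List.getElem_map, List.getElem_range, ch, List.getD_eq_getElem _ _ h1]


/-- roots -/
def rF4c01 : Fin 3 → Fin 3 → ℕ := ![![0, 33, 34], ![14, 0, 27], ![13, 20, 0]]
/-- signs -/
def sF4c01 : Fin 3 → Fin 3 → ℤ := ![![1, 1, -1], ![1, 1, 1], ![-1, 1, 1]]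

theorem tabF4c01 : LTab chevF4 3 4 rF4c01 sF4c01 (ch [0, 1]) where
  ta := by unfold RTa; decide +kernel
  tb := by unfold RTb; decide +kernel
  tc := by unfold RTc; decide +kernel
  td := by unfold RTd; decide +kernel
  te := by decide +kernel
  tf := by decide +kernel

/-- roots -/
def rF4c23 : Fin 3 → Fin 3 → ℕ := ![![0, 25, 26], ![22, 0, 24], ![21, 23, 0]]
/-- signs -/
def sF4c23 : Fin 3 → Fin 3 → ℤ := ![![1, 1, -1], ![1, 1, 1], ![-1, 1, 1]]

theorem tabF4c23 : LTab chevF4 3 4 rF4c23 sF4c23 (ch [2, 3]) where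
  ta := by unfold RTa; decide +kernel
  tb := by unfold RTb; decide +kernel
  tc := by unfold RTc; decide +kernel
  td := by unfold RTd; decide +kernel
  te := by decide +kernel
  tf := by decide +kernel

/-- roots -/
def rE6c02 : Fin 3 → Fin 3 → ℕ := ![![0, 56, 57], ![15, 0, 42], ![14, 29, 0]]
/-- signs -/
def sE6c02 : Fin 3 → Fin 3 → ℤ := ![![1, 1, -1], ![1, 1, 1], ![-1, 1, 1]]

theorem tabE6c02 : LTab chevE6 3 6 rE6c02 sE6c02 (ch [0, 2]) where
  ta := by unfold RTa; decide +kernel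
  tb := by unfold RTb; decide +kernel
  tc := by unfold RTc; decide +kernel
  td := by unfold RTd; decide +kernel
  te := by decide +kernel
  tf := by decide +kernel

/-- roots -/
def rE6c45 : Fin 3 → Fin 3 → ℕ := ![![0, 37, 38], ![34, 0, 36], ![33, 35, 0]]
/-- signs -/
def sE6c45 : Fin 3 → Fin 3 → ℤ := ![![1, 1, -1], ![1, 1, 1], ![-1, 1, 1]]

theorem tabE6c45 : LTab chevE6 3 6 rE6c45 sE6c45 (ch [4, 5]) where
  ta := by unfold RTa; decide +kernel
  tb := by unfold RTb; decide +kernel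
  tc := by unfold RTc; decide +kernel
  td := by unfold RTd; decide +kernel
  te := by decide +kernel
  tf := by decide +kernel

/-- roots -/
def rE6c0231 : Fin 5 → Fin 5 → ℕ := ![![0, 56, 57, 58, 61], ![15, 0, 42, 43, 50], ![14, 29, 0, 39, 47], ![13, 28, 32, 0, 46], ![10, 21, 24, 25, 0]]
/-- signs -/
def sE6c0231 : Fin 5 → Fin 5 → ℤ := ![![1, 1, -1, 1, -1], ![1, 1, 1, -1, 1], ![-1, 1, 1, 1, 1], ![1, -1, 1, 1, 1], ![-1, 1, 1, 1, 1]]

private noncomputable def _root_.Cfsg.Agent.LsF.fa110d9_13 : {f // @Cfsg.Agent.H629.ExcTab.rE6c0231 = f} := ⟨_, by first | (delta Cfsg.Agent.H629.ExcTab.rE6c0231; rewrite [Cfsg.Agent.LsF.vecCons_eq]; exact rfl) | exact rfl⟩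
private noncomputable def _root_.Cfsg.Agent.LsF.fa110d9_14 : {f // @Cfsg.Lie.ChevalleyDatum.neg = f} := ⟨_, by first | (delta Cfsg.Lie.ChevalleyDatum.neg; rewrite [Cfsg.Agent.LsF.agetD_eq]; exact rfl) | exact rfl⟩
private noncomputable def _root_.Cfsg.Agent.LsF.fa110d9_15 : {f // @Cfsg.Lie.ChevalleyDatum.chainEntry = f} := ⟨_, by first | (delta Cfsg.Lie.ChevalleyDatum.chainEntry; rewrite [Cfsg.Agent.LsF.instDecEq_eq, Cfsg.Agent.LsF.find?_eq, Cfsg.Agent.LsF.agetD_eq, Cfsg.Agent.LsF.decide_eq]; (try delta Cfsg.Lie.ChevalleyDatum.chainEntry.match_1); (try delta Option.casesOn); exact rfl) | exact rfl⟩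
private noncomputable def _root_.Cfsg.Agent.LsF.fa110d9_16 : {f // @Cfsg.Lie.ChevalleyDatum.chainRoot = f} := ⟨_, by first | (delta Cfsg.Lie.ChevalleyDatum.chainRoot; rewrite [Cfsg.Agent.LsF.fa110d9_15.2, Cfsg.Agent.LsF.nsub_pat, Cfsg.Agent.LsF.instGetElem?_eq]; exact rfl) | exact rfl⟩
private noncomputable def _root_.Cfsg.Agent.LsF.fa110d9_17 : {f // @Cfsg.Lie.ChevalleyDatum.chainM = f} := ⟨_, by first | (delta Cfsg.Lie.ChevalleyDatum.chainM; rewrite [Cfsg.Agent.LsF.fa110d9_15.2, Cfsg.Agent.LsF.nsub_pat, Cfsg.Agent.LsF.instGetElem?_eq, Cfsg.Agent.LsF.ogetD_eq]; exact rfl) | exact rfl⟩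
private noncomputable def _root_.Cfsg.Agent.LsF.fa110d9_18 : {f // @Cfsg.Lie.ChevalleyDatum.commTerms = f} := ⟨_, by first | (delta Cfsg.Lie.ChevalleyDatum.commTerms; rewrite [Cfsg.Agent.LsF.fa110d9_16.2, Cfsg.Agent.LsF.fa110d9_17.2, Cfsg.Agent.LsF.imul_pat, Cfsg.Agent.LsF.ineg_pat, Cfsg.Agent.LsF.filterMap_eq, Cfsg.Agent.LsF.ogetD_eq]; exact rfl) | exact rfl⟩
private noncomputable def _root_.Cfsg.Agent.LsF.fa110d9_19 : {f // @Cfsg.Agent.H629.ExcTab.sE6c0231 = f} := ⟨_, by first | (delta Cfsg.Agent.H629.ExcTab.sE6c0231; rewrite [Cfsg.Agent.LsF.ineg_pat, Cfsg.Agent.LsF.vecCons_eq]; exact rfl) | exact rfl⟩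
theorem tabE6c0231 : LTab chevE6 5 6 rE6c0231 sE6c0231 (ch [0, 2, 3, 1]) where
  ta := by unfold RTa; decide +kernel
  tb := by unfold RTb; (refine of_decide_eq_true ?_; (try (rewrite [Cfsg.Agent.LsF.fa110d9_13.2, Cfsg.Agent.LsF.fa110d9_14.2, Cfsg.Agent.LsF.fa110d9_18.2, Cfsg.Agent.LsF.fa110d9_19.2, Cfsg.Agent.LsF.imul_pat, Cfsg.Agent.LsF.dProdEq_eq, Cfsg.Agent.LsF.instDecEq_eq, Cfsg.Agent.LsF.instIDecEq_eq, Cfsg.Agent.LsF.dAnd_eq, Cfsg.Agent.LsF.dNot_eq, Cfsg.Agent.LsF.dFinEq_eq, Cfsg.Agent.LsF.dListEq_eq, Cfsg.Agent.LsF.dForallFin_eq, Cfsg.Agent.LsF.decide_eq])); decide +kernel)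
  tc := by unfold RTc; (rewrite [H90F.ct_fun, H90F.ng_fun]; decide +kernel)
  td := by unfold RTd; decide +kernel
  te := by decide +kernel
  tf := by decide +kernel

/-- roots -/
def rE7c02 : Fin 3 → Fin 3 → ℕ := ![![0, 93, 94], ![32, 0, 73], ![31, 52, 0]]
/-- signs -/
def sE7c02 : Fin 3 → Fin 3 → ℤ := ![![1, 1, -1], ![1, 1, 1], ![-1, 1, 1]]

theorem tabE7c02 : LTab chevE7 3 7 rE7c02 sE7c02 (ch [0, 2]) where
  ta := by unfold RTa; decide +kernel
  tb := by unfold RTb; decide +kernel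
  tc := by unfold RTc; decide +kernel
  td := by unfold RTd; decide +kernel
  te := by decide +kernel
  tf := by decide +kernel

/-- roots -/
def rE7c45 : Fin 3 → Fin 3 → ℕ := ![![0, 66, 67], ![59, 0, 64], ![58, 61, 0]]
/-- signs -/
def sE7c45 : Fin 3 → Fin 3 → ℤ := ![![1, 1, -1], ![1, 1, 1], ![-1, 1, 1]]

theorem tabE7c45 : LTab chevE7 3 7 rE7c45 sE7c45 (ch [4, 5]) where
  ta := by unfold RTa; decide +kernel
  tb := by unfold RTb; decide +kernel
  tc := by unfold RTc; decide +kernel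
  td := by unfold RTd; decide +kernel
  te := by decide +kernel
  tf := by decide +kernel

/-- roots -/
def rE7c0231 : Fin 5 → Fin 5 → ℕ := ![![0, 93, 94, 95, 99], ![32, 0, 73, 74, 83], ![31, 52, 0, 69, 79], ![30, 51, 56, 0, 78], ![26, 42, 46, 47, 0]]
/-- signs -/
def sE7c0231 : Fin 5 → Fin 5 → ℤ := ![![1, 1, -1, 1, -1], ![1, 1, 1, -1, 1], ![-1, 1, 1, 1, 1], ![1, -1, 1, 1, 1], ![-1, 1, 1, 1, 1]]

theorem tabE7c0231 : LTab chevE7 5 7 rE7c0231 sE7c0231 (ch [0, 2, 3, 1]) where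
  ta := by unfold RTa; decide +kernel
  tb := by unfold RTb; (rewrite [H90F.ct_fun, H90F.ng_fun]; decide +kernel)
  tc := by unfold RTc; (rewrite [H90F.ct_fun, H90F.ng_fun]; decide +kernel)
  td := by unfold RTd; decide +kernel
  te := by decide +kernel
  tf := by decide +kernel

/-- roots -/
def rE7c023456 : Fin 7 → Fin 7 → ℕ := ![![0, 93, 94, 95, 96, 97, 98], ![32, 0, 73, 74, 75, 76, 77], ![31, 52, 0, 69, 70, 71, 72], ![30, 51, 56, 0, 66, 67, 68], ![29, 50, 55, 59, 0, 64, 65], ![28, 49, 54, 58, 61, 0, 63], ![27, 48, 53, 57, 60, 62, 0]]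
/-- signs -/
def sE7c023456 : Fin 7 → Fin 7 → ℤ := ![![1, 1, -1, 1, -1, 1, -1], ![1, 1, 1, -1, 1, -1, 1], ![-1, 1, 1, 1, -1, 1, -1], ![1, -1, 1, 1, 1, -1, 1], ![-1, 1, -1, 1, 1, 1, -1], ![1, -1, 1, -1, 1, 1, 1], ![-1, 1, -1, 1, -1, 1, 1]]

private noncomputable def _root_.Cfsg.Agent.LsF.fa110d9_20 : {f // @Cfsg.Agent.H629.ExcTab.rE7c023456 = f} := ⟨_, by first | (delta Cfsg.Agent.H629.ExcTab.rE7c023456; rewrite [Cfsg.Agent.LsF.vecCons_eq]; exact rfl) | exact rfl⟩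
private noncomputable def _root_.Cfsg.Agent.LsF.fa110d9_21 : {f // @Cfsg.Agent.H90F.gct = f} := ⟨_, by first | (delta Cfsg.Agent.H90F.gct; rewrite [Cfsg.Agent.LsF.imul_pat, Cfsg.Agent.LsF.ineg_pat, Cfsg.Agent.LsF.filterMap_eq, Cfsg.Agent.LsF.ogetD_eq]; exact rfl) | exact rfl⟩
private noncomputable def _root_.Cfsg.Agent.LsF.fa110d9_22 : {f // @Cfsg.Agent.H90F.fcr = f} := ⟨_, by first | (delta Cfsg.Agent.H90F.fcr; rewrite [Cfsg.Agent.LsF.nsub_pat, Cfsg.Agent.LsF.instGetElem?_eq]; exact rfl) | exact rfl⟩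
private noncomputable def _root_.Cfsg.Agent.LsF.fa110d9_23 : {f // @Cfsg.Agent.H90F.fcm = f} := ⟨_, by first | (delta Cfsg.Agent.H90F.fcm; rewrite [Cfsg.Agent.LsF.nsub_pat, Cfsg.Agent.LsF.instGetElem?_eq, Cfsg.Agent.LsF.ogetD_eq]; exact rfl) | exact rfl⟩
private noncomputable def _root_.Cfsg.Agent.LsF.fa110d9_24 : {f // @Cfsg.Agent.H90F.fc2 = f} := ⟨_, by first | (delta Cfsg.Agent.H90F.fc2; rewrite [Cfsg.Agent.LsF.fa110d9_21.2, Cfsg.Agent.LsF.fa110d9_22.2, Cfsg.Agent.LsF.fa110d9_23.2]; (try delta Cfsg.Agent.H90F.fc2.match_1); (try delta Cfsg.Agent.H90F.fc2._sparseCasesOn_1); (try delta Cfsg.Agent.H90F.fc2._sparseCasesOn_2); exact rfl) | exact rfl⟩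
private noncomputable def _root_.Cfsg.Agent.LsF.fa110d9_25 : {f // @Cfsg.Agent.H90F.fct = f} := ⟨_, by first | (delta Cfsg.Agent.H90F.fct; rewrite [Cfsg.Agent.LsF.fa110d9_24.2]; exact rfl) | exact rfl⟩
private noncomputable def _root_.Cfsg.Agent.LsF.fa110d9_26 : {f // @Cfsg.Agent.H629.ExcTab.sE7c023456 = f} := ⟨_, by first | (delta Cfsg.Agent.H629.ExcTab.sE7c023456; rewrite [Cfsg.Agent.LsF.ineg_pat, Cfsg.Agent.LsF.vecCons_eq]; exact rfl) | exact rfl⟩
theorem tabE7c023456 : LTab chevE7 7 7 rE7c023456 sE7c023456 (ch [0, 2, 3, 4, 5, 6]) where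
  ta := by unfold RTa; decide +kernel
  tb := by unfold RTb; (rewrite [H90F.ct_fun, H90F.ng_fun]; (refine of_decide_eq_true ?_; (try (rewrite [Cfsg.Agent.LsF.fa110d9_20.2, Cfsg.Agent.LsF.fa110d9_25.2, Cfsg.Agent.LsF.fa110d9_26.2, Cfsg.Agent.LsF.imul_pat, Cfsg.Agent.LsF.dProdEq_eq, Cfsg.Agent.LsF.instDecEq_eq, Cfsg.Agent.LsF.instIDecEq_eq, Cfsg.Agent.LsF.dAnd_eq, Cfsg.Agent.LsF.dNot_eq, Cfsg.Agent.LsF.dFinEq_eq, Cfsg.Agent.LsF.dListEq_eq, Cfsg.Agent.LsF.dForallFin_eq, Cfsg.Agent.LsF.decide_eq])); decide +kernel))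
  tc := by unfold RTc; (rewrite [H90F.ct_fun, H90F.ng_fun]; (refine of_decide_eq_true ?_; (try (rewrite [Cfsg.Agent.LsF.fa110d9_20.2, Cfsg.Agent.LsF.fa110d9_25.2, Cfsg.Agent.LsF.instDecEq_eq, Cfsg.Agent.LsF.dAnd_eq, Cfsg.Agent.LsF.dNot_eq, Cfsg.Agent.LsF.dFinEq_eq, Cfsg.Agent.LsF.dForallFin_eq, Cfsg.Agent.LsF.decide_eq])); decide +kernel))
  td := by unfold RTd; decide +kernel
  te := by decide +kernel
  tf := by decide +kernel

/-- roots -/
def rE8c02 : Fin 3 → Fin 3 → ℕ := ![![0, 162, 163], ![77, 0, 135], ![76, 104, 0]]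
/-- signs -/
def sE8c02 : Fin 3 → Fin 3 → ℤ := ![![1, 1, -1], ![1, 1, 1], ![-1, 1, 1]]

theorem tabE8c02 : LTab chevE8 3 8 rE8c02 sE8c02 (ch [0, 2]) where
  ta := by unfold RTa; decide +kernel
  tb := by unfold RTb; decide +kernel
  tc := by unfold RTc; decide +kernel
  td := by unfold RTd; decide +kernel
  te := by decide +kernel
  tf := by decide +kernel

/-- roots -/
def rE8c45 : Fin 3 → Fin 3 → ℕ := ![![0, 126, 127], ![113, 0, 123], ![112, 116, 0]]
/-- signs -/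
def sE8c45 : Fin 3 → Fin 3 → ℤ := ![![1, 1, -1], ![1, 1, 1], ![-1, 1, 1]]

theorem tabE8c45 : LTab chevE8 3 8 rE8c45 sE8c45 (ch [4, 5]) where
  ta := by unfold RTa; decide +kernel
  tb := by unfold RTb; decide +kernel
  tc := by unfold RTc; decide +kernel
  td := by unfold RTd; decide +kernel
  te := by decide +kernel
  tf := by decide +kernel

/-- roots -/
def rE8c0231 : Fin 5 → Fin 5 → ℕ := ![![0, 162, 163, 164, 169], ![77, 0, 135, 136, 147], ![76, 104, 0, 130, 142], ![75, 103, 109, 0, 141], ![70, 92, 97, 98, 0]]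
/-- signs -/
def sE8c0231 : Fin 5 → Fin 5 → ℤ := ![![1, 1, -1, 1, -1], ![1, 1, 1, -1, 1], ![-1, 1, 1, 1, 1], ![1, -1, 1, 1, 1], ![-1, 1, 1, 1, 1]]

private noncomputable def _root_.Cfsg.Agent.LsF.fa110d9_27 : {f // @Cfsg.Agent.H629.ExcTab.rE8c0231 = f} := ⟨_, by first | (delta Cfsg.Agent.H629.ExcTab.rE8c0231; rewrite [Cfsg.Agent.LsF.vecCons_eq]; exact rfl) | exact rfl⟩
theorem tabE8c0231 : LTab chevE8 5 8 rE8c0231 sE8c0231 (ch [0, 2, 3, 1]) where
  ta := by unfold RTa; decide +kernel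
  tb := by unfold RTb; (rewrite [H90F.ct_fun, H90F.ng_fun]; decide +kernel)
  tc := by unfold RTc; (rewrite [H90F.ct_fun, H90F.ng_fun]; (refine of_decide_eq_true ?_; (try (rewrite [Cfsg.Agent.LsF.fa110d9_27.2, Cfsg.Agent.LsF.fa110d9_25.2, Cfsg.Agent.LsF.instDecEq_eq, Cfsg.Agent.LsF.dAnd_eq, Cfsg.Agent.LsF.dNot_eq, Cfsg.Agent.LsF.dFinEq_eq, Cfsg.Agent.LsF.dForallFin_eq, Cfsg.Agent.LsF.decide_eq])); decide +kernel))
  td := by unfold RTd; decide +kernel
  te := by decide +kernel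
  tf := by decide +kernel

/-- roots -/
def rE8c023456 : Fin 7 → Fin 7 → ℕ := ![![0, 162, 163, 164, 165, 166, 167], ![77, 0, 135, 136, 137, 138, 139], ![76, 104, 0, 130, 131, 132, 133], ![75, 103, 109, 0, 126, 127, 128], ![74, 102, 108, 113, 0, 123, 124], ![73, 101, 107, 112, 116, 0, 121], ![72, 100, 106, 111, 115, 118, 0]]
/-- signs -/
def sE8c023456 : Fin 7 → Fin 7 → ℤ := ![![1, 1, -1, 1, -1, 1, -1], ![1, 1, 1, -1, 1, -1, 1], ![-1, 1, 1, 1, -1, 1, -1], ![1, -1, 1, 1, 1, -1, 1], ![-1, 1, -1, 1, 1, 1, -1], ![1, -1, 1, -1, 1, 1, 1], ![-1, 1, -1, 1, -1, 1, 1]]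

private noncomputable def _root_.Cfsg.Agent.LsF.fa110d9_28 : {f // @Cfsg.Agent.H629.ExcTab.rE8c023456 = f} := ⟨_, by first | (delta Cfsg.Agent.H629.ExcTab.rE8c023456; rewrite [Cfsg.Agent.LsF.vecCons_eq]; exact rfl) | exact rfl⟩
private noncomputable def _root_.Cfsg.Agent.LsF.fa110d9_29 : {f // @Cfsg.Agent.H629.ExcTab.sE8c023456 = f} := ⟨_, by first | (delta Cfsg.Agent.H629.ExcTab.sE8c023456; rewrite [Cfsg.Agent.LsF.ineg_pat, Cfsg.Agent.LsF.vecCons_eq]; exact rfl) | exact rfl⟩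
theorem tabE8c023456 : LTab chevE8 7 8 rE8c023456 sE8c023456 (ch [0, 2, 3, 4, 5, 6]) where
  ta := by unfold RTa; decide +kernel
  tb := by unfold RTb; (rewrite [H90F.ct_fun, H90F.ng_fun]; (refine of_decide_eq_true ?_; (try (rewrite [Cfsg.Agent.LsF.fa110d9_28.2, Cfsg.Agent.LsF.fa110d9_25.2, Cfsg.Agent.LsF.fa110d9_29.2, Cfsg.Agent.LsF.imul_pat, Cfsg.Agent.LsF.dProdEq_eq, Cfsg.Agent.LsF.instDecEq_eq, Cfsg.Agent.LsF.instIDecEq_eq, Cfsg.Agent.LsF.dAnd_eq, Cfsg.Agent.LsF.dNot_eq, Cfsg.Agent.LsF.dFinEq_eq, Cfsg.Agent.LsF.dListEq_eq, Cfsg.Agent.LsF.dForallFin_eq, Cfsg.Agent.LsF.decide_eq])); decide +kernel))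
  tc := by unfold RTc; (rewrite [H90F.ct_fun, H90F.ng_fun]; (refine of_decide_eq_true ?_; (try (rewrite [Cfsg.Agent.LsF.fa110d9_28.2, Cfsg.Agent.LsF.fa110d9_25.2, Cfsg.Agent.LsF.instDecEq_eq, Cfsg.Agent.LsF.dAnd_eq, Cfsg.Agent.LsF.dNot_eq, Cfsg.Agent.LsF.dFinEq_eq, Cfsg.Agent.LsF.dForallFin_eq, Cfsg.Agent.LsF.decide_eq])); decide +kernel))
  td := by unfold RTd; decide +kernel
  te := by (rewrite [H90F.ng_fun]; decide +kernel)
  tf := by decide +kernel

end Cfsg.Agent.H629.ExcTab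
end

-- part: H629/ExcGood
section
/-!
# Good elements of the Weyl group (helper629)

* `exists_x` : an element of `Γ` over the Coxeter element of a Levi subgroup of type `A_{p-1}`;
* `good_one`, `good_two` : Coxeter elements of one or of two commuting Levi subgroups;
* `good_word` : conjugates.
-/

set_option autoImplicit false
set_option linter.unusedSectionVars false

namespace Cfsg.Agent.H629.ExcGood

open CoxeterSystem Cfsg Cfsg.Lie Cfsg.Lie.ChevalleyDatum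
open Cfsg.Agent.ChevalleyStructure Cfsg.Agent.ChevalleyStructure.Elts Cfsg.Agent.ChevalleyStructure.CoxeterGeom
  Cfsg.Agent.ChevalleyStructure.CoxeterGeomTypes Cfsg.Agent.ChevalleyStructure.NPerm
open Cfsg.Agent.Tits.Roots Cfsg.Agent.Tits.Core Cfsg.Agent.Nodes Cfsg.Agent.Nodes.Reps Cfsg.Agent.Nodes.BNOf
  Cfsg.Agent.Nodes.RGDChev Cfsg.Agent.Nodes.Bruhat Cfsg.Agent.Nodes.SubComb Cfsg.Agent.Nodes.Coroot
open Cfsg.Agent.KFacts.RgdField Cfsg.Agent.KFacts.RgdChevCoord Cfsg.Agent.BpExc.TorCent Cfsg.Agent.BpExc.TorChev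
open Cfsg.Agent.GpExc.Field Cfsg.Agent.BpExc.Tow Cfsg.Agent.BpExc.TowChev Cfsg.Agent.BpExc.Fr
  Cfsg.Agent.BpExc.LangFr Cfsg.Agent.LangThm Cfsg.Agent.BpExc Cfsg.Agent.H129.TorusChar
open Cfsg.Agent.H629.ExcTor Cfsg.Agent.H629.ExcLevi Cfsg.Agent.H629.ExcMain Cfsg.Agent.H629.ExcWeyl
  Cfsg.Agent.H629.ExcTab

universe u

variable {D : ChevalleyDatum} {l : ℕ} {M : CoxeterMatrix (Fin l)} {hp : IsType D l M} {k : Type u} [Field k]
  [IsAlgClosed k] {W : Type*} [Group W] {cs : CoxeterSystem M W} {hN : NSys M (TT D k) (nc hp k)}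
  {τ : MulAut ↥(D.group k)} {e Q : ℤ} {Γ : Subgroup ↥(D.group k)} {p d : ℕ}

/-- The context. -/
structure GCtx (cs : CoxeterSystem M W) (hN : NSys M (TT D k) (nc hp k)) (τ : MulAut ↥(D.group k)) (e Q : ℤ)
    (Γ : Subgroup ↥(D.group k)) (p d : ℕ) : Prop where
  ctx : Ctx hp cs hN τ e Q
  fixg : FixGrp τ Γ
  prime : p.Prime
  odd : p ≠ 2
  char : (p : k) ≠ 0
  dvd : (p : ℤ) ∣ Q - 1
  one : Q ≠ 1
  pow : ∀ y, τ y = y → y ^ d ∈ Γ
  cop : ¬ p ∣ d ∨ (p = 3 ∧ d = 3)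

variable (H : GCtx cs hN τ e Q Γ p d)
  {r : Fin p → Fin p → ℕ} {s : Fin p → Fin p → ℤ} {c : ℕ → Fin l} (h : LTab D p l r s c) {m : Fin l}
  (hm : IsCoprime (∑ j ∈ Finset.range (p - 1), ((j : ℤ) + 1) * cartanOf D l (c j) m) (p : ℤ))

theorem GCtx.three_le (H : GCtx cs hN τ e Q Γ p d) : 3 ≤ p := by
  have := H.prime.two_le
  have := H.odd
  omega

include H h hm in
theorem exists_x : ∃ L : Subgroup ↥(D.group k),
      (L = Subgroup.closure {y | ∃ i j : Fin p, i ≠ j ∧ y ∈ XX D l k (vec D l (r i j))}) ∧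
      ∃ x ∈ L, x ∈ Γ ∧ Rp cs hN (cw cs c (p - 1)) x ∧ x ^ p = 1 ∧ ∃ y ∈ L, τ y = y ∧ y * x * y⁻¹ ∈ Hc hp (k := k) p := by
  obtain ⟨L, hL, h1, ⟨y, hy, hyw, hτy⟩, h3⟩ := exists_levi h H.three_le (H.prime.odd_of_ne_two H.odd) H.char hm
    H.ctx H.one H.dvd
  refine ⟨L, hL, ?_⟩
  suffices ∃ x ∈ L, x ∈ Γ ∧ Rp cs hN (cw cs c (p - 1)) x ∧ τ x = x by
    obtain ⟨x, hx, hxΓ, hxw, hτ⟩ := this
    obtain ⟨h4, h5⟩ := h3 x hx hxw hτ
    exact ⟨x, hx, hxΓ, hxw, h4, h5⟩
  rcases H.cop with hpd | ⟨hp3, hd3⟩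
  · refine ⟨y, hy, ?_, hyw, hτy⟩
    have h4 := (h3 y hy hyw hτy).1
    have h5 := H.pow y hτy
    have hco : IsCoprime (d : ℤ) (p : ℤ) :=
      Nat.isCoprime_iff_coprime.2 ((H.prime.coprime_iff_not_dvd.2 hpd).symm)
    obtain ⟨a, b, hab⟩ := hco
    have h6 : y = (y ^ d) ^ a := by
      calc y = y ^ (a * (d : ℤ) + b * (p : ℤ)) := by rw [hab, zpow_one]
        _ = _ := by
          rw [_root_.zpow_add, mul_comm a, zpow_mul, zpow_natCast, mul_comm b, zpow_mul y, zpow_natCast, h4, one_zpow,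
            mul_one]
    rw [h6]
    exact zpow_mem h5 a
  · subst hp3
    obtain ⟨y0, hy0, hw0, hτ0⟩ := h1 0 (by norm_num)
    obtain ⟨y1, hy1, hw1, hτ1⟩ := h1 1 (by norm_num)
    have hcube : ∀ i, cs.simple i ^ 3 = cs.simple i := fun i => by
      rw [pow_succ, pow_two, cs.simple_mul_simple_self, one_mul]
    have hpow : ∀ (w : W) (y : ↥(D.group k)), Rp cs hN w y → Rp cs hN (w ^ 3) (y ^ 3) := by
      intro w y hy
      rw [pow_succ, pow_two, pow_succ, pow_two]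
      exact (hy.mul hy).mul hy
    refine ⟨y0 ^ 3 * y1 ^ 3, mul_mem (pow_mem hy0 3) (pow_mem hy1 3), ?_, ?_, ?_⟩
    · have e0 := H.pow y0 hτ0
      have e1 := H.pow y1 hτ1
      rw [hd3] at e0 e1
      exact mul_mem e0 e1
    · have e0 := hpow _ _ hw0
      have e1 := hpow _ _ hw1
      rw [hcube] at e0 e1
      have e2 : cw cs c (3 - 1) = cs.simple (c 0) * cs.simple (c 1) := by
        show cw cs c (1 + 1) = _
        rw [cw_succ]
        congr 1
        show cw cs c (0 + 1) = _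
        rw [cw_succ]
        show (1 : W) * _ = _
        rw [one_mul]
      rw [e2]
      exact e0.mul e1
    · rw [map_mul, map_pow, map_pow, hτ0, hτ1]

include H h hm in
/-- **One Levi subgroup.** -/
theorem good_one : Good cs hN τ Γ p (cw cs c (p - 1)) := by
  obtain ⟨L, -, x, -, hxΓ, hxw, hxp, y, -, hτy, hy⟩ := exists_x H h hm
  exact ⟨x, hxΓ, hxw, ⟨1, by rw [pow_one]; exact hxp⟩, y, hτy, hy⟩

/-- the root subgroups of the two tables commute -/
def CommTab (D : ChevalleyDatum) {p : ℕ} (r r' : Fin p → Fin p → ℕ) : Prop :=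
  ∀ i j i' j', i ≠ j → i' ≠ j' → r' i' j' ≠ r i j ∧ r' i' j' ≠ D.neg (r i j) ∧ D.commTerms (r i j) (r' i' j') = []

instance decCommTab (D : ChevalleyDatum) {p : ℕ} (r r' : Fin p → Fin p → ℕ) : Decidable (CommTab D r r') := by
  unfold CommTab; infer_instance

include H h hm in
/-- **Two commuting Levi subgroups.** -/
theorem good_two {r' : Fin p → Fin p → ℕ} {s' : Fin p → Fin p → ℤ} {c' : ℕ → Fin l} (h' : LTab D p l r' s' c')
    {m' : Fin l} (hm' : IsCoprime (∑ j ∈ Finset.range (p - 1), ((j : ℤ) + 1) * cartanOf D l (c' j) m') (p : ℤ))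
    (hc : CommTab D r r') : Good cs hN τ Γ p (cw cs c (p - 1) * cw cs c' (p - 1)) := by
  obtain ⟨L, hL, x, hxL, hxΓ, hxw, hxp, y, hyL, hτy, hy⟩ := exists_x H h hm
  obtain ⟨L', hL', x', hxL', hxΓ', hxw', hxp', y', hyL', hτy', hy'⟩ := exists_x H h' hm'
  have hcomm : ∀ a ∈ L, ∀ b ∈ L', a * b = b * a := by
    have h1 : L ≤ Subgroup.centralizer (L' : Set ↥(D.group k)) := by
      rw [hL, hL', Subgroup.centralizer_closure, Subgroup.closure_le]
      rintro a ⟨i, j, hij, ha⟩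
      rw [SetLike.mem_coe, Subgroup.mem_centralizer_iff]
      rintro b ⟨i', j', hij', hb⟩
      obtain ⟨t, ht⟩ := (mem_XX_vec hp (h.ta i j hij)).1 ha
      obtain ⟨t', ht'⟩ := (mem_XX_vec hp (h'.ta i' j' hij')).1 hb
      obtain ⟨h2, h3, h4⟩ := hc i j i' j' hij hij'
      apply Subtype.ext
      rw [Subgroup.coe_mul, Subgroup.coe_mul, ht, ht']
      exact (Cfsg.Agent.TitsThree.KExcBase.comm_nil hp.inList (h.ta i j hij) (h'.ta i' j' hij') h2 h3 h4 t t').symm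
    intro a ha b hb
    exact ((Subgroup.mem_centralizer_iff.1 (h1 ha)) b hb).symm
  refine ⟨x * x', mul_mem hxΓ hxΓ', hxw.mul hxw', ⟨1, ?_⟩, y * y', ?_, ?_⟩
  · rw [pow_one, (show Commute x x' from hcomm x hxL x' hxL').mul_pow, hxp, hxp', one_mul]
  · rw [map_mul, hτy, hτy']
  · have e1 : y * y' * (x * x') * (y * y')⁻¹ = (y * x * y⁻¹) * (y' * x' * y'⁻¹) := by
      calc y * y' * (x * x') * (y * y')⁻¹ = y * (y' * x) * x' * y'⁻¹ * y⁻¹ := by group
        _ = y * (x * y') * x' * y'⁻¹ * y⁻¹ := by rw [hcomm x hxL y' hyL']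
        _ = y * x * (y' * x' * y'⁻¹ * y⁻¹) := by group
        _ = y * x * (y⁻¹ * (y' * x' * y'⁻¹)) := by
          rw [hcomm y⁻¹ (inv_mem hyL) _ (mul_mem (mul_mem hyL' hxL') (inv_mem hyL'))]
        _ = _ := by group
    rw [e1]
    exact mul_mem hy hy'

include H in
/-- **Conjugates.** -/
theorem good_word {d' : ℕ} {B : Fin l → Fin l → ℤ} (hB : InvC D l d' B) (hd' : d' ≠ 0) {w : List (Fin l)}
    (hw : Good cs hN τ Γ p (cs.wordProd w)) (u : List (Fin l)) :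
    Good cs hN τ Γ p (cs.wordProd (u ++ w ++ u.reverse)) := by
  rw [wordProd_append, wordProd_append, wordProd_reverse]
  exact good_conj H.ctx H.one H.fixg hB hd' hw _

end Cfsg.Agent.H629.ExcGood
end

-- part: H629/ExcCtx
section
/-!
# The context of the main theorem from a Steinberg endomorphism (helper629)

* `Src` : the finite group `G` as a group of fixed points of `σ`;
* `exists_ctx` : after conjugation, `σ` acts on the torus as a power `± r ^ n`;
* `src_untw`, `src_six` : the instances.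
-/

set_option autoImplicit false
set_option linter.unusedSectionVars false

namespace Cfsg.Agent.H629.ExcCtx

open CoxeterSystem Cfsg Cfsg.Lie Cfsg.Lie.ChevalleyDatum
open Cfsg.Agent.ChevalleyStructure Cfsg.Agent.ChevalleyStructure.Elts Cfsg.Agent.ChevalleyStructure.CoxeterGeom
  Cfsg.Agent.ChevalleyStructure.CoxeterGeomTypes Cfsg.Agent.ChevalleyStructure.NPerm
open Cfsg.Agent.Tits.Roots Cfsg.Agent.Tits.Core Cfsg.Agent.Nodes Cfsg.Agent.Nodes.Reps Cfsg.Agent.Nodes.BNOf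
  Cfsg.Agent.Nodes.RGDChev Cfsg.Agent.Nodes.Bruhat Cfsg.Agent.Nodes.SubComb Cfsg.Agent.Nodes.Coroot
open Cfsg.Agent.KFacts.RgdField Cfsg.Agent.KFacts.RgdChevCoord Cfsg.Agent.BpExc.TorCent Cfsg.Agent.BpExc.TorChev
open Cfsg.Agent.GpExc.Field Cfsg.Agent.BpExc.Tow Cfsg.Agent.BpExc.TowChev Cfsg.Agent.BpExc.Fr
  Cfsg.Agent.BpExc.LangFr Cfsg.Agent.LangThm Cfsg.Agent.BpExc Cfsg.Agent.H129.TorusChar
open Cfsg.Agent.H629.ExcTor Cfsg.Agent.H629.ExcLevi Cfsg.Agent.H629.ExcMain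

universe u v

variable {D : ChevalleyDatum} {l : ℕ} {M : CoxeterMatrix (Fin l)} {hp : IsType D l M} {k : Type u} [Field k]
  {W : Type*} [Group W] {cs : CoxeterSystem M W} {hN : NSys M (TT D k) (nc hp k)}

/-- `G` as a subgroup of the fixed points of `σ`. -/
structure Src {G : Type v} [Group G] (hp : IsType D l M) (r n : ℕ) [Fact r.Prime] [CharP k r]
    (f : G →* ↥(D.group k)) (σ : MulAut ↥(D.group k)) (g : (Fin l → ℤ) ≃+ (Fin l → ℤ)) (d : ℕ) : Prop where
  inj : Function.Injective f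
  e_pos : 0 < n
  frob : IsFrob r n σ
  fr : ∀ {W : Type} [Group W] (cs : CoxeterSystem M W), Fr cs hp.isCartan (TT D k) (XX D l k) σ g
  fix : ∀ x, σ (f x) = f x
  norm : ∀ y, σ y = y → ∀ x, ∃ x', f x' = y * f x * y⁻¹
  split : ∀ y, σ y = y → ∃ x t, t ∈ TT D k ∧ y = f x * t
  pow : ∀ y, σ y = y → y ^ d ∈ f.range
  ncm : ∀ i, ∃ j, σ (nc hp k i) = nc hp k j

section

variable {G : Type v} [Group G] {r n : ℕ} [Fact r.Prime] [CharP k r] {f : G →* ↥(D.group k)}
  {σ : MulAut ↥(D.group k)} {g : (Fin l → ℤ) ≃+ (Fin l → ℤ)} {d : ℕ} (S : Src hp r n f σ g d)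

include S

theorem comm_mem {y z : ↥(D.group k)} (hy : σ y = y) (hz : σ z = z) : y * z * y⁻¹ * z⁻¹ ∈ f.range := by
  obtain ⟨x, t, ht, rfl⟩ := S.split y hy
  obtain ⟨x', t', ht', rfl⟩ := S.split z hz
  have hst : σ t = t := by
    rw [map_mul, S.fix] at hy
    exact mul_left_cancel hy
  have hst' : σ t' = t' := by
    rw [map_mul, S.fix] at hz
    exact mul_left_cancel hz
  have hc := TT_comm hp t ht t' ht'
  -- `a = t * x' * t⁻¹`, `b = t' * x⁻¹ * t'⁻¹`
  obtain ⟨a, ha⟩ := S.norm t hst x'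
  obtain ⟨b, hb⟩ := S.norm t' hst' x⁻¹
  refine ⟨x * a * b * x'⁻¹, ?_⟩
  rw [map_mul, map_mul, map_mul, ha, hb, map_inv, map_inv]
  have e : f x * t * (f x' * t') * (f x * t)⁻¹ * (f x' * t')⁻¹ =
      f x * (t * f x' * t⁻¹) * (t * t' * t⁻¹ * (f x)⁻¹ * t'⁻¹) * (f x')⁻¹ := by group
  rw [e, hc]
  group

omit S in
theorem rp_sigma (hnc : ∀ i, ∃ j, σ (nc hp k i) = nc hp k j) (hT : ∀ t ∈ TT D k, σ t ∈ TT D k) (w : W)
    {y : ↥(D.group k)} (hy : Rp cs hN w y) : ∃ w', Rp cs hN w' (σ y) := by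
  obtain ⟨ω, rfl⟩ := cs.wordProd_surjective w
  induction ω generalizing y with
  | nil =>
    rw [wordProd_nil] at hy
    exact ⟨1, rp_of_mem (hT _ hy.mem_of_one)⟩
  | cons i ω ih =>
    rw [wordProd_cons] at hy
    have hi := rp_simple cs hN i
    have h1 : Rp cs hN (cs.wordProd ω) ((nc hp k i)⁻¹ * y) := by
      have := hi.inv.mul hy
      rwa [inv_mul_cancel_left] at this
    obtain ⟨w', hw'⟩ := ih h1
    obtain ⟨j, hj⟩ := hnc i
    refine ⟨cs.simple j * w', ?_⟩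
    have h2 := (rp_simple cs hN j).mul hw'
    rw [← hj, ← map_mul, mul_inv_cancel_left] at h2
    exact h2

omit S in
/-- **The context.** -/
theorem ctx_of [IsAlgClosed k] (hk : LocFin k) (hfr : IsFrob r n σ)
    (F : Fr cs hp.isCartan (TT D k) (XX D l k) σ g) (hnc : ∀ i, ∃ j, σ (nc hp k i) = nc hp k j)
    {d' : ℕ} {B : Fin l → Fin l → ℤ} (hB : InvC D l d' B) (hd' : d' ≠ 0)
    {e : ℤ} (he : e = 1 ∨ e = -1) {w0 : W} (hw0 : ∀ x, rep cs hp.isCartan w0 (g x) = e • x) {n0 : ↥(D.group k)}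
    (hn0 : Rp cs hN w0 n0) : Ctx hp cs hN (MulAut.conj n0 * σ) e (e * (r ^ n : ℕ)) := by
  have hee : e * e = 1 := by rcases he with rfl | rfl <;> rfl
  have hσT : ∀ t ∈ TT D k, σ t ∈ TT D k := fun t ht => (F.tor t).2 ht
  have hmem : ∀ t ∈ TT D k, (MulAut.conj n0 * σ) t ∈ TT D k := fun t ht => by
    show n0 * σ t * n0⁻¹ ∈ TT D k
    exact conj_mem hp cs hk hn0 (hσT t ht)
  have hch : ∀ t ∈ TT D k, ∀ x, cX hp ((MulAut.conj n0 * σ) t) x = cX hp t x ^ (e * (r ^ n : ℕ)) := by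
    intro t ht x
    have h1 : cX hp (n0 * σ t * n0⁻¹) (rep cs hp.isCartan w0 (g x)) = cX hp t x ^ r ^ n := by
      rw [cX_rp hp cs hk r hn0 (hσT t ht), cX_sigma hp cs hfr F ht]
    rw [hw0] at h1
    have h2 : cX hp (n0 * σ t * n0⁻¹) x = (cX hp (n0 * σ t * n0⁻¹) (e • x)) ^ e := by
      rcases he with rfl | rfl
      · rw [one_smul, zpow_one]
      · have hm' : n0 * σ t * n0⁻¹ ∈ TT D k := hmem t ht
        rw [neg_one_smul, (isMC_cX hp hm').neg, zpow_neg, zpow_one, inv_inv]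
    show cX hp (n0 * σ t * n0⁻¹) x = _
    rw [h2, h1, mul_comm e, zpow_mul, zpow_natCast]
  refine ⟨hmem, hch, ?_, ?_, he⟩
  · intro a ha y hy
    have h1 : σ y ∈ XX D l k (g a) := (F.map a ha y).2 hy
    have hga : IsRoot cs hp.isCartan (g a) := (F.root a).2 ha
    have H := tow (k := k) hp cs hk r
    have hn0' : Rp cs H.nsys w0 n0 := by
      have e1 : TL (Tj hp (k := k)) = TT D k := TL_eq hp hk
      convert hn0
    have h2 := H.conj_rp hn0' hga
    rw [XL_eq hp hk, hw0] at h2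
    show n0 * σ y * n0⁻¹ ∈ XX D l k (e • a)
    rw [← h2]
    exact conj_mem_cj.2 h1
  · intro w x hx
    obtain ⟨w1, hw1⟩ := rp_sigma (cs := cs) (hN := hN) hnc hσT w hx
    have h1 : Rp cs hN (w0 * w1 * w0⁻¹) ((MulAut.conj n0 * σ) x) := (hn0.mul hw1).mul hn0.inv
    have h2 : w0 * w1 * w0⁻¹ = w := by
      have key : ∀ z, rep cs hp.isCartan (w0 * w1 * w0⁻¹)⁻¹ z = rep cs hp.isCartan w⁻¹ z := by
        intro z
        rw [← sub_eq_zero]
        refine eq_zero_of_cX (hp := hp) hk r hB hd' fun t ht => ?_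
        -- `t = τ s`
        obtain ⟨s, hs, rfl⟩ : ∃ s ∈ TT D k, (MulAut.conj n0 * σ) s = t := by
          refine ⟨σ⁻¹ (n0⁻¹ * t * n0), ?_, ?_⟩
          · rw [← F.tor, MulAut.apply_inv_self]
            have := conj_mem hp cs hk hn0.inv ht
            rwa [inv_inv] at this
          · show n0 * σ (σ⁻¹ (n0⁻¹ * t * n0)) * n0⁻¹ = t
            rw [MulAut.apply_inv_self]
            group
        have h3 : (MulAut.conj n0 * σ) x * (MulAut.conj n0 * σ) s * ((MulAut.conj n0 * σ) x)⁻¹ =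
            (MulAut.conj n0 * σ) (x * s * x⁻¹) := by rw [map_mul, map_mul, map_inv]
        have h4 := cX_conj hp cs hk r h1 (hmem s hs) z
        rw [h3, hch _ (conj_mem hp cs hk hx hs), cX_conj hp cs hk r hx hs, ← hch _ hs] at h4
        rw [(isMC_cX hp (hmem s hs)).sub, ← h4, div_self ((isMC_cX hp (hmem s hs)).ne_zero _)]
      have h3 : (w0 * w1 * w0⁻¹)⁻¹ = w⁻¹ := rep_injective cs hp.isCartan (LinearMap.ext key)
      exact inv_injective h3
    rwa [h2] at h1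

/-- **The context and the group of fixed points.** -/
theorem exists_ctx {W : Type} [Group W] {cs : CoxeterSystem M W} {hN : NSys M (TT D k) (nc hp k)}
    [IsAlgClosed k] (hk : LocFin k) {d' : ℕ} {B : Fin l → Fin l → ℤ} (hB : InvC D l d' B)
    (hd' : d' ≠ 0) {e : ℤ} (he : e = 1 ∨ e = -1) {w0 : W} (hw0 : ∀ x, rep cs hp.isCartan w0 (g x) = e • x) :
    ∃ (τ : MulAut ↥(D.group k)) (Γ : Subgroup ↥(D.group k)), Ctx hp cs hN τ e (e * (r ^ n : ℕ)) ∧ FixGrp τ Γ ∧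
      Nonempty (G ≃* ↥Γ) ∧ ∀ y, τ y = y → y ^ d ∈ Γ := by
  obtain ⟨n0, hn0⟩ := exists_rp cs hN w0
  obtain ⟨z, hz⟩ := lang_all hp cs S.e_pos S.frob (S.fr cs) 1 n0
  rw [map_one, one_mul] at hz
  have hσz : σ z = z * n0 := by rw [hz]; group
  have key : ∀ y, (MulAut.conj n0 * σ) y = y ↔ σ (z * y * z⁻¹) = z * y * z⁻¹ := by
    intro y
    have e1 : σ (z * y * z⁻¹) = z * (n0 * σ y * n0⁻¹) * z⁻¹ := by
      rw [map_mul, map_mul, map_inv, hσz]; group
    rw [e1]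
    show n0 * σ y * n0⁻¹ = y ↔ _
    constructor
    · intro h; rw [h]
    · intro h
      exact mul_left_cancel (mul_right_cancel h)
  have hin : ∀ y, y ∈ (f.range).map (MulAut.conj z⁻¹).toMonoidHom ↔ z * y * z⁻¹ ∈ f.range := by
    intro y
    constructor
    · rintro ⟨x, hx, rfl⟩
      have : z * (MulAut.conj z⁻¹).toMonoidHom x * z⁻¹ = x := by
        show z * (z⁻¹ * x * z⁻¹⁻¹) * z⁻¹ = x
        group
      rw [this]; exact hx
    · intro h
      refine ⟨_, h, ?_⟩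
      show z⁻¹ * (z * y * z⁻¹) * z⁻¹⁻¹ = y
      group
  have hcz : ∀ a b : ↥(D.group k), z * (a * b) * z⁻¹ = (z * a * z⁻¹) * (z * b * z⁻¹) := fun a b => by group
  have hci : ∀ a : ↥(D.group k), z * a⁻¹ * z⁻¹ = (z * a * z⁻¹)⁻¹ := fun a => by group
  refine ⟨MulAut.conj n0 * σ, (f.range).map (MulAut.conj z⁻¹).toMonoidHom,
    ctx_of hk S.frob (S.fr cs) S.ncm hB hd' he hw0 hn0, ⟨?_, ?_, ?_⟩, ?_, ?_⟩
  · intro x hx
    obtain ⟨y, hy⟩ := (hin x).1 hx
    rw [key, ← hy, S.fix]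
  · intro y hy x hx
    obtain ⟨a, ha⟩ := (hin x).1 hx
    rw [hin, hcz, hcz, hci, ← ha]
    obtain ⟨b, hb⟩ := S.norm _ ((key y).1 hy) a
    exact ⟨b, hb⟩
  · intro y y' hy hy'
    rw [hin, hcz, hcz, hcz, hci, hci]
    exact comm_mem S ((key y).1 hy) ((key y').1 hy')
  · have e1 : G ≃* ↥f.range := MonoidHom.ofInjective S.inj
    exact ⟨e1.trans (Subgroup.equivMapOfInjective _ _ (MulAut.conj z⁻¹).injective)⟩
  · intro y hy
    rw [hin]
    have e1 : z * y ^ d * z⁻¹ = (z * y * z⁻¹) ^ d := conj_pow.symm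
    rw [e1]
    exact S.pow _ ((key y).1 hy)

end

/-! ### the untwisted groups -/

section Untw

variable {F : Type u} [Field F] [Fintype F] (fF : F →+* k) [IsAlgClosed k] {r n : ℕ} [Fact r.Prime] [CharP k r]

omit [Fintype F] [IsAlgClosed k] in
theorem pow_split {G Y : Type*} [Group G] [Group Y] {σ : MulAut Y} {f : G →* Y}
    (hn : ∀ y, σ y = y → ∀ x, ∃ x', f x' = y * f x * y⁻¹) {x : G} {t : Y} (ht : σ t = t) (m : ℕ) :
    ∃ x', (f x * t) ^ m = f x' * t ^ m := by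
  induction m with
  | zero => exact ⟨1, by rw [pow_zero, pow_zero, map_one, mul_one]⟩
  | succ m ih =>
    obtain ⟨a, ha⟩ := ih
    obtain ⟨b, hb⟩ := hn (t ^ m) (by rw [map_pow, ht]) x
    refine ⟨a * b, ?_⟩
    rw [pow_succ, ha, map_mul, hb, pow_succ]
    group

theorem src_untw (hn0 : 0 < n) (hq : Fintype.card F = r ^ n) {d : ℕ} {B : Fin l → Fin l → ℤ}
    (hB : InvC D l d B) (hd : d ≠ 0) :
    Src hp r n (emb hp.inList fF) (H129.TorusUntw.phi D k r n) (AddEquiv.refl (Fin l → ℤ)) d where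
  inj := emb_injective hp.inList fF
  e_pos := hn0
  frob := H129.TorusUntw.isFrob_phi
  fr := fun cs => H129.TorusUntw.fr_phi hp cs
  fix := H129.TorusUntw.phi_emb hp fF hq
  norm := by
    intro y hy x
    obtain ⟨b, hb⟩ := Emb.conj_mem_range (F := F) (hD := hp.inList) (f := fF) (φ := iterateFrobenius k r n)
        (fun t => by rw [iterateFrobenius_def, hq]) (σ := H129.TorusUntw.phi D k r n) H129.TorusUntw.coe_phi hy
        (n := emb hp.inList fF x) ⟨x, rfl⟩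
    exact ⟨b, hb⟩
  split := fun y hy => by
    obtain ⟨x, t, ht, e⟩ := H129.TorusUntw.fix_split hp fF hq hy
    exact ⟨x, t, ht, e⟩
  pow := by
    intro y hy
    obtain ⟨x, t, ht, rfl⟩ := H129.TorusUntw.fix_split hp fF hq hy
    have hf : H129.TorusUntw.phi D k r n t = t := by
      rw [map_mul, H129.TorusUntw.phi_emb hp fF hq] at hy
      exact mul_left_cancel hy
    obtain ⟨x', hx'⟩ := pow_split (fun y hy x => by
      obtain ⟨b, hb⟩ := Emb.conj_mem_range (F := F) (hD := hp.inList) (f := fF) (φ := iterateFrobenius k r n)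
        (fun t => by rw [iterateFrobenius_def, hq]) (σ := H129.TorusUntw.phi D k r n) H129.TorusUntw.coe_phi hy
        (n := emb hp.inList fF x) ⟨x, rfl⟩
      exact ⟨b, hb⟩) hf d (x := x)
    rw [hx']
    exact mul_mem ⟨x', rfl⟩ (H129.TorusUntw.fix_pow hp M.toCoxeterSystem fF hq hB hd ht hf)
  ncm := fun i => ⟨i, by rw [H129.TorusUntw.phi_eq hp, emb_nc]⟩

end Untw

/-! ### type ²E₆ -/

section Six

open Cfsg.Agent.H720.TwFr Cfsg.Agent.BpExc.FamTw.Gr
open Cfsg.Agent.ChevalleyStructure.GraphSymm (symmE6)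

variable {K : Type u} [Field K] [Fintype K] {q : ℕ} {k : Type u} [Field k] [IsAlgClosed k] (f : K →+* k)
  {r : ℕ} [Fact r.Prime] [CharP k r]

theorem src_six {n : ℕ} (hk : LocFin k) (hn0 : 0 < n) (hn : q = r ^ n) (hK : Fintype.card K = q ^ 2) :
    Src hp6 r n (em6 q f) (sig6 k r n) (permE rho6) (Nat.gcd 3 (q + 1)) where
  inj := FamTw.Six.em_injective f
  e_pos := hn0
  frob := isFrob_sig6 r n
  fr := fun cs => fr_sig6 hk r hp6 cs n
  fix := em6_fix f r hn0 hn hK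
  norm := by
    intro y hy x
    have hrp : r.Prime := Fact.out
    have hq : IsPrimePow q := (isPrimePow_nat_iff _).2 ⟨r, n, hrp, hn0, hn.symm⟩
    have hφ : ∀ t : k, iterateFrobenius k r n t = t ^ q := fun t => by rw [iterateFrobenius_def, hn]
    have h1 := EmbInst.twE6_normalizer (f := f) hq hK hφ y.2 (by rw [← coe_sig6, hy])
    obtain ⟨b, hb, e⟩ := (Subgroup.mem_normalizer_iff.1 h1 (glMap chevE6 f x)).1 ⟨x, x.2, rfl⟩
    exact ⟨⟨b, hb⟩, Subtype.ext e⟩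
  split := by
    intro y hy
    have hrp : r.Prime := Fact.out
    have hq : IsPrimePow q := (isPrimePow_nat_iff _).2 ⟨r, n, hrp, hn0, hn.symm⟩
    have hφ : ∀ t : k, iterateFrobenius k r n t = t ^ q := fun t => by rw [iterateFrobenius_def, hn]
    obtain ⟨x, hx, t, ht, e⟩ := EmbInst.twE6_split (f := f) hq hK hφ y.2 (by rw [← coe_sig6, hy])
    exact ⟨⟨x, hx⟩, ⟨t, diagonal_le_group hp6.inList k ht⟩, ht, Subtype.ext e⟩
  pow := fun y hy => desc6 f r hk hn0 hn hK hy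
  ncm := by
    intro i
    have h3 : H720.TwFr.sig6 k r n (nc hp6 k i) = gr inListE6 symmE6 (nc hp6 k i) := by
      show gr inListE6 symmE6 (BpExc.FamUntw.phi chevE6 k r n (nc hp6 k i)) = _
      congr 1
      have h5 : BpExc.FamUntw.phi chevE6 k r n (nc hp6 k i) =
          emb hp6.inList ((BpExc.FamField.frb k r n : k ≃+* k) : k →+* k) (nc hp6 k i) := by
        apply Subtype.ext
        rw [coe_emb]
        rfl
      rw [h5, emb_nc]
    refine ⟨(![5, 1, 4, 3, 2, 0] : Fin 6 → Fin 6) i, ?_⟩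
    rw [h3]
    apply Subtype.ext
    rw [coe_gr]
    have h4 := P_nG (L := k) inListE6 symmE6 (r := ⟨chevE6.simple i, H720.TwFr.simple_lt6 i⟩) (H720.TwFr.simple_eps6 i) 1
    rw [H720.TwFr.simple_map6] at h4
    exact h4

end Six

end Cfsg.Agent.H629.ExcCtx
end

-- part: H629/ExcOrd
section
/-!
# Orders (helper629)

* `lte_list` : the `p`-part of `∏ (Q ^ d - 1)`;
* `card_data`, `card_data_three` : the `p`-part of the order;
* `ker_chi`, `ker_chi_six` : the kernel of `chi`.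
-/

set_option autoImplicit false
set_option linter.unusedSectionVars false

namespace Cfsg.Agent.H629.ExcOrd

open Cfsg Cfsg.Lie Cfsg.Lie.ChevalleyDatum
open Cfsg.Agent.ChevalleyStructure Cfsg.Agent.ChevalleyStructure.CoxeterGeom
  Cfsg.Agent.ChevalleyStructure.CoxeterGeomTypes
open Cfsg.Agent.H629.ExcTor

universe u

/-! ### lifting the exponent -/

theorem lte {p : ℕ} (hp : p.Prime) (h2 : p ≠ 2) {Q : ℤ} {a : ℕ} (ha : 0 < a) {u : ℤ} (hQ : Q - 1 = (p : ℤ) ^ a * u)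
    (hu : ¬ (p : ℤ) ∣ u) {b c : ℕ} (hc : ¬ p ∣ c) :
    ∃ v : ℕ, (Q ^ (p ^ b * c) - 1).natAbs = p ^ a * p ^ b * v ∧ ¬ p ∣ v := by
  have hpZ : Prime (p : ℤ) := Nat.prime_iff_prime_int.1 hp
  have hdvd : (p : ℤ) ∣ Q - 1 := by
    rw [hQ]
    exact Dvd.dvd.mul_right (dvd_pow_self _ ha.ne') u
  have hpQ : ¬ (p : ℤ) ∣ Q := fun h => by
    have h1 := dvd_sub h hdvd
    rw [sub_sub_cancel] at h1
    exact hpZ.not_dvd_one h1
  have h1 := Int.emultiplicity_pow_sub_pow hp (hp.odd_of_ne_two h2) (x := Q) (y := 1) hdvd hpQ (p ^ b * c)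
  rw [one_pow] at h1
  have h3 : emultiplicity (p : ℤ) (Q - 1) = a := by
    rw [emultiplicity_eq_coe, hQ]
    refine ⟨Dvd.intro _ rfl, fun h => hu ?_⟩
    rw [pow_succ] at h
    exact (mul_dvd_mul_iff_left (pow_ne_zero _ hpZ.ne_zero)).1 h
  have h4 : emultiplicity p (p ^ b * c) = b := by
    rw [emultiplicity_eq_coe]
    refine ⟨Dvd.intro _ rfl, fun h => hc ?_⟩
    rw [pow_succ] at h
    exact Nat.dvd_of_mul_dvd_mul_left (pow_pos hp.pos _) h
  rw [h3, h4, ← Nat.cast_add, emultiplicity_eq_coe] at h1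
  obtain ⟨⟨v, hv⟩, h5⟩ := h1
  refine ⟨v.natAbs, ?_, fun h => h5 ?_⟩
  · rw [hv, Int.natAbs_mul, ← pow_add, Int.natAbs_pow, Int.natAbs_natCast]
  · rw [hv, pow_succ]
    exact mul_dvd_mul_left _ (Int.natCast_dvd.2 h)

theorem lte_list {p : ℕ} (hp : p.Prime) (h2 : p ≠ 2) {Q : ℤ} {a : ℕ} (ha : 0 < a) {u : ℤ}
    (hQ : Q - 1 = (p : ℤ) ^ a * u) (hu : ¬ (p : ℤ) ∣ u) (ds : List (ℕ × ℕ)) (hd : ∀ x ∈ ds, ¬ p ∣ x.2) :
    ∃ m : ℕ, (ds.map fun x => (Q ^ (p ^ x.1 * x.2) - 1).natAbs).prod =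
      (p ^ a) ^ ds.length * p ^ (ds.map Prod.fst).sum * m ∧ ¬ p ∣ m := by
  induction ds with
  | nil => exact ⟨1, by simp, hp.not_dvd_one⟩
  | cons x ds ih =>
    obtain ⟨m, h3, h4⟩ := ih fun y hy => hd y (List.mem_cons_of_mem _ hy)
    obtain ⟨v, h5, h6⟩ := lte hp h2 ha hQ hu (b := x.1) (hd x List.mem_cons_self)
    refine ⟨v * m, ?_, fun h => (hp.dvd_mul.1 h).elim h6 h4⟩
    rw [List.map_cons, List.prod_cons, h3, h5, List.length_cons, List.map_cons, List.sum_cons, pow_succ, pow_add]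
    ring

/-- **The `p`-part of the order.** -/
theorem card_data {p : ℕ} (hp : p.Prime) (h2 : p ≠ 2) {Q : ℤ} {a : ℕ} (ha : 0 < a) {u : ℤ}
    (hQ : Q - 1 = (p : ℤ) ^ a * u) (hu : ¬ (p : ℤ) ∣ u) (ds : List (ℕ × ℕ)) (hd : ∀ x ∈ ds, ¬ p ∣ x.2)
    {g N q e : ℕ} (hg : ¬ p ∣ g) (hq : ¬ p ∣ q)
    (hN : g * N = q ^ e * (ds.map fun x => (Q ^ (p ^ x.1 * x.2) - 1).natAbs).prod) :
    ∃ m : ℕ, 1 * N = (p ^ a) ^ ds.length * p ^ (ds.map Prod.fst).sum * m ∧ ¬ p ∣ m := by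
  obtain ⟨m, h3, h4⟩ := lte_list hp h2 ha hQ hu ds hd
  rw [h3] at hN
  obtain ⟨P, hP⟩ : ∃ P, P = (p ^ a) ^ ds.length * p ^ (ds.map Prod.fst).sum := ⟨_, rfl⟩
  have hPp : P = p ^ (a * ds.length + (ds.map Prod.fst).sum) := by rw [hP, pow_add, pow_mul]
  rw [← hP] at hN ⊢
  have h5 : P ∣ N := by
    have h6 : P ∣ g * N := ⟨q ^ e * m, by rw [hN]; ring⟩
    refine Nat.Coprime.dvd_of_dvd_mul_left ?_ h6
    rw [hPp]
    exact Nat.Coprime.pow_left _ (hp.coprime_iff_not_dvd.2 hg)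
  obtain ⟨m', rfl⟩ := h5
  refine ⟨m', one_mul _, fun h => ?_⟩
  have hP0 : 0 < P := by rw [hPp]; exact pow_pos hp.pos _
  have h6 : g * m' = q ^ e * m := by
    apply Nat.eq_of_mul_eq_mul_left hP0
    calc P * (g * m') = g * (P * m') := by ring
      _ = _ := by rw [hN]; ring
  have h7 : p ∣ q ^ e * m := by rw [← h6]; exact Dvd.dvd.mul_left h g
  exact (hp.dvd_mul.1 h7).elim (fun h8 => hq (hp.dvd_of_dvd_pow h8)) h4

theorem card_data_three {p : ℕ} (hp : p.Prime) (h2 : p ≠ 2) {Q : ℤ} {a : ℕ} (ha : 0 < a) {u : ℤ}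
    (hQ : Q - 1 = (p : ℤ) ^ a * u) (hu : ¬ (p : ℤ) ∣ u) (ds : List (ℕ × ℕ)) (hd : ∀ x ∈ ds, ¬ p ∣ x.2)
    {g N q e : ℕ} (hq : ¬ p ∣ q)
    (hN : g * N = q ^ e * (ds.map fun x => (Q ^ (p ^ x.1 * x.2) - 1).natAbs).prod) :
    ∃ m : ℕ, g * N = (p ^ a) ^ ds.length * p ^ (ds.map Prod.fst).sum * m ∧ ¬ p ∣ m := by
  obtain ⟨m, h3, h4⟩ := lte_list hp h2 ha hQ hu ds hd
  refine ⟨q ^ e * m, by rw [hN, h3]; ring, fun h => ?_⟩
  exact (hp.dvd_mul.1 h).elim (fun h8 => hq (hp.dvd_of_dvd_pow h8)) h4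

/-- the exponent of `p` in `Q - 1` -/
theorem exists_exp {p : ℕ} (hp : p.Prime) {Q : ℤ} (hQ1 : Q ≠ 1) (h : (p : ℤ) ∣ Q - 1) :
    ∃ (a : ℕ) (u : ℤ), 0 < a ∧ Q - 1 = (p : ℤ) ^ a * u ∧ ¬ (p : ℤ) ∣ u := by
  have h0 : Q - 1 ≠ 0 := sub_ne_zero.2 hQ1
  have hfin : FiniteMultiplicity (p : ℤ) (Q - 1) :=
    Int.finiteMultiplicity_iff.2 ⟨by rw [Int.natAbs_natCast]; exact hp.one_lt.ne', h0⟩
  obtain ⟨u, hu, hnu⟩ := hfin.exists_eq_pow_mul_and_not_dvd
  refine ⟨_, u, ?_, hu, hnu⟩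
  rw [Nat.pos_iff_ne_zero]
  intro h1
  rw [h1, pow_zero, one_mul] at hu
  exact hnu (hu ▸ h)

/-! ### the kernel of `chi` -/

section Ker

variable {D : ChevalleyDatum} {l : ℕ} {k : Type u} [Field k]

theorem pow_of_chi {d : ℕ} {B : Fin l → Fin l → ℤ}
    (hB : ∀ i m, ∑ j, cartanOf D l i j * B j m = if i = m then (d : ℤ) else 0) {c : Fin l → kˣ}
    (hc : chi D l k c = 1) (m : Fin l) : c m ^ d = 1 := by
  have h1 : ∏ j, (∏ i, c i ^ cartanOf D l i j) ^ B j m = 1 := by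
    refine Finset.prod_eq_one fun j _ => ?_
    have := congrFun hc j
    rw [chi_apply, Pi.one_apply] at this
    rw [this, one_zpow]
  have h2 : ∏ j, (∏ i, c i ^ cartanOf D l i j) ^ B j m = ∏ i, c i ^ (∑ j, cartanOf D l i j * B j m) := by
    calc ∏ j, (∏ i, c i ^ cartanOf D l i j) ^ B j m = ∏ j, ∏ i, c i ^ (cartanOf D l i j * B j m) := by
          refine Finset.prod_congr rfl fun j _ => ?_
          rw [← Finset.prod_zpow]
          exact Finset.prod_congr rfl fun i _ => (zpow_mul _ _ _).symm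
      _ = ∏ i, ∏ j, c i ^ (cartanOf D l i j * B j m) := Finset.prod_comm
      _ = _ := by
          refine Finset.prod_congr rfl fun i _ => ?_
          have key : ∀ s : Finset (Fin l), ∏ j ∈ s, c i ^ (cartanOf D l i j * B j m) =
              c i ^ (∑ j ∈ s, cartanOf D l i j * B j m) := by
            classical
            intro s
            induction s using Finset.induction_on with
            | empty => simp
            | insert a s ha ih => rw [Finset.prod_insert ha, Finset.sum_insert ha, zpow_add, ih]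
          exact key _
  rw [h1] at h2
  rw [Finset.prod_eq_single m] at h2
  · rw [hB, if_pos rfl, zpow_natCast] at h2
    exact h2.symm
  · intro i _ hi
    rw [hB, if_neg hi, zpow_zero]
  · intro hi
    exact absurd (Finset.mem_univ m) hi

theorem ker_chi {d : ℕ} {B : Fin l → Fin l → ℤ}
    (hB : ∀ i m, ∑ j, cartanOf D l i j * B j m = if i = m then (d : ℤ) else 0) {P : ℕ} (hdP : Nat.Coprime d P) :
    Nat.card {c : Fin l → kˣ // (∀ i, c i ^ P = 1) ∧ chi D l k c = 1} ≤ 1 := by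
  have : Subsingleton {c : Fin l → kˣ // (∀ i, c i ^ P = 1) ∧ chi D l k c = 1} := by
    have key : ∀ c : {c : Fin l → kˣ // (∀ i, c i ^ P = 1) ∧ chi D l k c = 1}, c.1 = 1 := by
      rintro ⟨c, h1, h2⟩
      funext i
      have h3 := pow_of_chi hB h2 i
      have h4 := orderOf_dvd_of_pow_eq_one h3
      have h5 := orderOf_dvd_of_pow_eq_one (h1 i)
      exact orderOf_eq_one_iff.1 (Nat.eq_one_of_dvd_coprimes hdP h4 h5)
    exact ⟨fun a b => Subtype.ext ((key a).trans (key b).symm)⟩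
  exact Finite.card_le_one_iff_subsingleton.2 this

theorem cartE6 : ∀ i j, cartanOf chevE6 6 i j = (![![2, 0, -1, 0, 0, 0], ![0, 2, 0, -1, 0, 0], ![-1, 0, 2, -1, 0, 0],
    ![0, -1, -1, 2, -1, 0], ![0, 0, 0, -1, 2, -1], ![0, 0, 0, 0, -1, 2]] : Fin 6 → Fin 6 → ℤ) i j := by
  decide +kernel

theorem invR_E6 : ∀ i m, ∑ j, cartanOf chevE6 6 i j * (![![4, 3, 5, 6, 4, 2], ![3, 6, 6, 9, 6, 3], ![5, 6, 10, 12, 8, 4],
    ![6, 9, 12, 18, 12, 6], ![4, 6, 8, 12, 10, 5], ![2, 3, 4, 6, 5, 4]] : Fin 6 → Fin 6 → ℤ) j m =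
      if i = m then ((3 : ℕ) : ℤ) else 0 := by
  decide +kernel

theorem ker_chi_six {P : ℕ} :
    Nat.card {c : Fin 6 → kˣ // (∀ i, c i ^ P = 1) ∧ chi chevE6 6 k c = 1} ≤ 3 := by
  have h0 : ∀ c : Fin 6 → kˣ, chi chevE6 6 k c = 1 → c 0 = 1 → c = 1 := by
    intro c hc h0
    have h3 : ∀ i, c i ^ 3 = 1 := fun i => pow_of_chi invR_E6 hc i
    have e : ∀ j, ∏ i, c i ^ cartanOf chevE6 6 i j = 1 := fun j => congrFun hc j
    have e0 := e 0
    have e1 := e 1
    have e2 := e 2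
    have e3 := e 3
    have e4 := e 4
    simp only [cartE6, Fin.prod_univ_six] at e0 e1 e2 e3 e4
    simp [h0] at e0 e1 e2 e3 e4
    rw [e0] at e2 e3
    simp at e2 e3
    rw [e2] at e1 e3 e4
    simp at e1 e3 e4
    have h1 : c 1 = 1 := by
      have h4 := h3 1
      rw [pow_succ] at h4
      have h5 : c 1 ^ 2 = 1 := by exact_mod_cast e1
      rwa [h5, one_mul] at h4
    rw [h1] at e3
    simp at e3
    rw [e3] at e4
    simp at e4
    funext i
    fin_cases i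
    · exact h0
    · exact h1
    · exact e0
    · exact e2
    · exact e3
    · exact e4
  let f : {c : Fin 6 → kˣ // (∀ i, c i ^ P = 1) ∧ chi chevE6 6 k c = 1} → ↥(rootsOfUnity 3 k) :=
    fun c => ⟨c.1 0, (mem_rootsOfUnity 3 _).2 (pow_of_chi invR_E6 c.2.2 0)⟩
  have hf : Function.Injective f := by
    rintro ⟨c, h1, h2⟩ ⟨c', h1', h2'⟩ h
    have h3 : c 0 = c' 0 := congrArg Subtype.val h
    have h4 := h0 (c * c'⁻¹) (by rw [map_mul, map_inv, h2, h2', inv_one, mul_one])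
      (by rw [Pi.mul_apply, Pi.inv_apply, h3, mul_inv_cancel])
    exact Subtype.ext (mul_inv_eq_one.1 h4)
  have h1 := Nat.card_le_card_of_injective f hf
  exact h1.trans (card_rootsOfUnity k 3)

end Ker

end Cfsg.Agent.H629.ExcOrd
end

-- part: H629/ExcRow
section
/-!
# Strongly closed subgroups of the exceptional groups: the rows (helper629)

* `hrefl_odd`, `hrefl_neg` : the fundamental reflections;
* `row` : the theorem in terms of checks.
-/

set_option autoImplicit false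
set_option linter.unusedSectionVars false

namespace Cfsg.Agent.H629.ExcRow

open CoxeterSystem Cfsg Cfsg.Lie Cfsg.Lie.ChevalleyDatum
open Cfsg.Agent.ChevalleyStructure Cfsg.Agent.ChevalleyStructure.Elts Cfsg.Agent.ChevalleyStructure.CoxeterGeom
  Cfsg.Agent.ChevalleyStructure.CoxeterGeomTypes Cfsg.Agent.ChevalleyStructure.NPerm
open Cfsg.Agent.Tits.Roots Cfsg.Agent.Tits.Core Cfsg.Agent.Nodes Cfsg.Agent.Nodes.Reps Cfsg.Agent.Nodes.BNOf
  Cfsg.Agent.Nodes.RGDChev Cfsg.Agent.Nodes.Bruhat Cfsg.Agent.Nodes.SubComb Cfsg.Agent.Nodes.Coroot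
open Cfsg.Agent.KFacts.RgdField Cfsg.Agent.KFacts.RgdChevCoord Cfsg.Agent.BpExc.TorCent Cfsg.Agent.BpExc.TorChev
open Cfsg.Agent.GpExc.Field Cfsg.Agent.BpExc.Tow Cfsg.Agent.BpExc.TowChev Cfsg.Agent.BpExc.Fr
  Cfsg.Agent.BpExc.LangFr Cfsg.Agent.LangThm Cfsg.Agent.BpExc Cfsg.Agent.H129.TorusChar
open Cfsg.Agent.H629.ExcTor Cfsg.Agent.H629.ExcLevi Cfsg.Agent.H629.ExcMain Cfsg.Agent.H629.ExcWeyl
  Cfsg.Agent.H629.ExcTab Cfsg.Agent.H629.ExcGood Cfsg.Agent.H629.ExcCtx Cfsg.Agent.H629.ExcOrd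
open Cfsg.Agent.ChevalleyStructure.CoxeterElement (dot unitL length_unitL vec_unitL)

universe u v

/-! ### the fundamental reflections -/

section Refl

variable {D : ChevalleyDatum} {l : ℕ} {M : CoxeterMatrix (Fin l)} {hp : IsType D l M} {k : Type u} [Field k]
  [IsAlgClosed k] {W : Type*} [Group W] {cs : CoxeterSystem M W} {hN : NSys M (TT D k) (nc hp k)}
  {τ : MulAut ↥(D.group k)} {e Q : ℤ} {Γ : Subgroup ↥(D.group k)} {p d : ℕ} (H : GCtx cs hN τ e Q Γ p d)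
  {d' : ℕ} {B : Fin l → Fin l → ℤ} (hB : InvC D l d' B) (hd' : d' ≠ 0)

include H hB hd'

theorem hrefl_odd (hd : Odd d) (i : Fin l) : ∃ x ∈ Γ, ∃ w, Rp cs hN w x ∧
    ((∀ z, rep cs hp.isCartan w z = rep cs hp.isCartan (cs.simple i) z) ∨
    (∀ z, rep cs hp.isCartan w z = -rep cs hp.isCartan (cs.simple i) z)) := by
  obtain ⟨y, hy, hτ⟩ := exists_rp_fixed H.ctx H.one hB hd' (cs.simple i)
  have hpow : ∀ n : ℕ, Rp cs hN (cs.simple i ^ n) (y ^ n) := by
    intro n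
    induction n with
    | zero => rw [pow_zero, pow_zero]; exact rp_one
    | succ n ih => rw [pow_succ, pow_succ]; exact ih.mul hy
  have h1 := hpow d
  obtain ⟨m, hm⟩ := hd
  have h2 : cs.simple i ^ d = cs.simple i := by
    rw [hm, pow_succ, pow_mul, pow_two, cs.simple_mul_simple_self, one_pow, one_mul]
  rw [h2] at h1
  exact ⟨y ^ d, H.pow y hτ, _, h1, Or.inl fun z => rfl⟩

theorem lift_pair {rows : List (List ℤ)} (hr : Rows D l rows) (hcon : Conn D l)
    (hadj : ∀ i j : Fin l, cartanOf D l i j = 0 ∨ i = j ∨ img rows [i, j] = img rows [j, i, j, i]) (i j : Fin l) :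
    ∃ x ∈ Γ, Rp cs hN (cs.simple i * cs.simple j) x := by
  classical
  have h1 := hcon (Finset.univ.filter fun j => ∃ x ∈ Γ, Rp cs hN (cs.simple i * cs.simple j) x) ⟨i, ?_⟩ ?_
  · have h2 : j ∈ Finset.univ.filter fun j => ∃ x ∈ Γ, Rp cs hN (cs.simple i * cs.simple j) x := by
      rw [h1]; exact Finset.mem_univ j
    exact (Finset.mem_filter.1 h2).2
  · rw [Finset.mem_filter]
    exact ⟨Finset.mem_univ i, 1, one_mem _, by rw [cs.simple_mul_simple_self]; exact rp_one⟩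
  · intro a ha b hab
    rw [Finset.mem_filter] at ha ⊢
    obtain ⟨-, x, hx, hxw⟩ := ha
    refine ⟨Finset.mem_univ b, ?_⟩
    rcases hadj a b with h2 | rfl | h2
    · exact absurd h2 hab
    · exact ⟨x, hx, hxw⟩
    · have h3 := word_eq hp cs hr h2
      simp only [wordProd_cons, wordProd_nil, mul_one] at h3
      obtain ⟨y, hy, hτy⟩ := exists_rp_fixed H.ctx H.one hB hd' (cs.simple a)
      obtain ⟨z, hz, hτz⟩ := exists_rp_fixed H.ctx H.one hB hd' (cs.simple b)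
      have h4 := H.fixg.comm z y hτz hτy
      have h5 := ((hz.mul hy).mul hz.inv).mul hy.inv
      rw [cs.inv_simple, cs.inv_simple] at h5
      have e1 : cs.simple b * cs.simple a * cs.simple b * cs.simple a = cs.simple a * cs.simple b := by
        rw [h3, mul_assoc, mul_assoc]
      rw [e1] at h5
      refine ⟨x * (z * y * z⁻¹ * y⁻¹), mul_mem hx h4, ?_⟩
      have h6 := hxw.mul h5
      have e2 : cs.simple i * cs.simple a * (cs.simple a * cs.simple b) = cs.simple i * cs.simple b := by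
        rw [mul_assoc, cs.simple_mul_simple_cancel_left]
      rwa [e2] at h6

theorem lift_even {rows : List (List ℤ)} (hr : Rows D l rows) (hcon : Conn D l)
    (hadj : ∀ i j : Fin l, cartanOf D l i j = 0 ∨ i = j ∨ img rows [i, j] = img rows [j, i, j, i]) :
    ∀ (n : ℕ) (w : List (Fin l)), w.length = 2 * n → ∃ x ∈ Γ, Rp cs hN (cs.wordProd w) x := by
  intro n
  induction n with
  | zero =>
    intro w hw
    have : w = [] := List.length_eq_zero_iff.1 (by rw [hw])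
    subst this
    exact ⟨1, one_mem _, by rw [wordProd_nil]; exact rp_one⟩
  | succ n ih =>
    intro w hw
    match w, hw with
    | i :: j :: w, hw =>
      obtain ⟨x, hx, hxw⟩ := ih w (by simp only [List.length_cons] at hw; omega)
      obtain ⟨y, hy, hyw⟩ := lift_pair H hB hd' hr hcon hadj i j
      refine ⟨y * x, mul_mem hy hx, ?_⟩
      rw [wordProd_cons, wordProd_cons, ← mul_assoc]
      exact hyw.mul hxw

theorem hrefl_neg {rows : List (List ℤ)} (hr : Rows D l rows) (hcon : Conn D l)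
    (hadj : ∀ i j : Fin l, cartanOf D l i j = 0 ∨ i = j ∨ img rows [i, j] = img rows [j, i, j, i])
    {w0 : List (Fin l)} (hodd : Odd w0.length) (hw0 : ∀ x, rep cs hp.isCartan (cs.wordProd w0) x = -x) (i : Fin l) :
    ∃ x ∈ Γ, ∃ w, Rp cs hN w x ∧
    ((∀ z, rep cs hp.isCartan w z = rep cs hp.isCartan (cs.simple i) z) ∨
    (∀ z, rep cs hp.isCartan w z = -rep cs hp.isCartan (cs.simple i) z)) := by
  obtain ⟨m, hm⟩ := hodd
  obtain ⟨x, hx, hxw⟩ := lift_even H hB hd' hr hcon hadj (m + 1) (w0 ++ [i]) (by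
    rw [List.length_append, hm, List.length_singleton]; ring)
  refine ⟨x, hx, _, hxw, Or.inr fun z => ?_⟩
  rw [wordProd_append, wordProd_singleton, rep_mul_apply, hw0]

end Refl

/-! ### the rows -/

section Row

variable {D : ChevalleyDatum} {l : ℕ} {M : CoxeterMatrix (Fin l)} {hp : IsType D l M}

/-- The conclusion: `Full` and a nonabelian `p`-subgroup. -/
def Concl (p : ℕ) (G : Type v) [Group G] : Prop :=
  Exc.Full p G ∧ ∃ T : Subgroup G, IsPGroup p T ∧ ∃ x : G, (∃ m : ℕ, x ^ p ^ m = 1) ∧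
      (∀ t ∈ T, x * t * x⁻¹ ∈ T) ∧ ∃ t ∈ T, x * t ≠ t * x

theorem concl_congr {p : ℕ} {G : Type u} {G' : Type v} [Group G] [Group G'] (e : G ≃* G') (h : Concl p G) :
    Concl p G' := by
  refine ⟨Exc.full_congr e h.1, ?_⟩
  obtain ⟨T, hT, x, ⟨m, hm⟩, h1, t, ht, h2⟩ := h.2
  refine ⟨T.map e.toMonoidHom, hT.map _, e x, ⟨m, by rw [← map_pow, hm, map_one]⟩, ?_, e t, ⟨t, ht, rfl⟩, ?_⟩
  · rintro _ ⟨s, hs, rfl⟩
    refine ⟨x * s * x⁻¹, h1 s hs, ?_⟩
    show e (x * s * x⁻¹) = e x * e s * (e x)⁻¹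
    rw [map_mul, map_mul, map_inv]
  · intro h3
    rw [← map_mul, ← map_mul] at h3
    exact h2 (e.injective h3)

/-- The checks. -/
structure Chk (hp : IsType D l M) (rw' : List (List ℤ)) (p ν : ℕ) (gs : List (List (Fin l))) : Prop where
  rows : Rows D l rw'
  cop : Cop D l p
  con : Conn D l
  faith : ∀ w : M.Group, (∀ i j, (p : ℤ) ∣ pairing (cartanOf D l) i (rep M.toCoxeterSystem hp.isCartan w (sr j)) -
    cartanOf D l i j) → w = 1
  rel : ∃ π, PRel l rw' p π gs = true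
  orb : ∃ v : List ℤ, v.length = l ∧ (ExcWeyl.orb rw' p gs [v]).Nodup ∧ (ExcWeyl.orb rw' p gs [v]).length = p ^ ν
  gen : ∃ w ∈ gs, ∃ i j m : Fin l, cartanOf D l i m = 0 ∧ cartanOf D l j m ≠ 0 ∧
    ∀ t : Fin l, dot (rw'.getD i []) (ExcWeyl.act rw' w.reverse (unitL l t)) = (rw'.getD j []).getD t 0

/-- **The rows.** -/
theorem row {k : Type u} [Field k] [IsAlgClosed k] {G : Type v} [Group G] [Finite G] {r n d : ℕ} [Fact r.Prime]
    [CharP k r] {f : G →* ↥(D.group k)} {σ : MulAut ↥(D.group k)} {g : (Fin l → ℤ) ≃+ (Fin l → ℤ)}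
    (S : Src hp r n f σ g d) (hk : LocFin k) {d' : ℕ} {B : Fin l → Fin l → ℤ} (hB : InvC D l d' B) (hd' : d' ≠ 0)
    {rows : List (List ℤ)} {e : ℤ} (he : e = 1 ∨ e = -1) {w0 : List (Fin l)}
    (hw0 : ∀ x, rep M.toCoxeterSystem hp.isCartan (M.toCoxeterSystem.wordProd w0) (g x) = e • x)
    {p ν : ℕ} [hpp : Fact p.Prime] (hp2 : p ≠ 2) (hpr : p ≠ r) (hdvd : (p : ℤ) ∣ e * (r ^ n : ℕ) - 1)
    (hcopd : ¬ p ∣ d ∨ (p = 3 ∧ d = 3)) {gs : List (List (Fin l))} (C : Chk hp rows p ν gs)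
    (hord : ∀ (a : ℕ) (u : ℤ), 0 < a → e * (r ^ n : ℕ) - 1 = (p : ℤ) ^ a * u → ¬ (p : ℤ) ∣ u →
      ∃ K m : ℕ, (∃ δ, K = p ^ δ) ∧ Nat.card {c : Fin l → kˣ // (∀ i, c i ^ (p ^ a) = 1) ∧ chi D l k c = 1} ≤ K ∧
        K * Nat.card G = (p ^ a) ^ l * p ^ ν * m ∧ ¬ p ∣ m)
    (hgood : ∀ (hN : NSys M (TT D k) (nc hp k)) (τ : MulAut ↥(D.group k)) (Q : ℤ) (Γ : Subgroup ↥(D.group k)),
      GCtx M.toCoxeterSystem hN τ e Q Γ p d → ∀ g ∈ gs, Good M.toCoxeterSystem hN τ Γ p (M.toCoxeterSystem.wordProd g))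
    (hrefl : ∀ (hN : NSys M (TT D k) (nc hp k)) (τ : MulAut ↥(D.group k)) (Q : ℤ) (Γ : Subgroup ↥(D.group k)),
      GCtx M.toCoxeterSystem hN τ e Q Γ p d → ∀ i, ∃ x ∈ Γ, ∃ w, Rp M.toCoxeterSystem hN w x ∧
        ((∀ z, rep M.toCoxeterSystem hp.isCartan w z = rep M.toCoxeterSystem hp.isCartan (M.toCoxeterSystem.simple i) z) ∨
        (∀ z, rep M.toCoxeterSystem hp.isCartan w z = -rep M.toCoxeterSystem hp.isCartan (M.toCoxeterSystem.simple i) z))) :
    Concl p G := by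
  have hN : NSys M (TT D k) (nc hp k) := H129.TorusUntw.nsys_of_locFin hp M.toCoxeterSystem hk r
  have hrp : r.Prime := Fact.out
  have hq1 : 1 < r ^ n := Nat.one_lt_pow S.e_pos.ne' hrp.one_lt
  have hQ1 : e * (r ^ n : ℕ) ≠ 1 := by
    have h1 : (1 : ℤ) < (r ^ n : ℕ) := by exact_mod_cast hq1
    rcases he with rfl | rfl
    · rw [one_mul]; omega
    · rw [neg_one_mul]; omega
  have hpk : (p : k) ≠ 0 := by
    rw [Ne, CharP.cast_eq_zero_iff k r]
    intro h1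
    exact hpr ((Nat.prime_dvd_prime_iff_eq hrp hpp.out).1 h1).symm
  obtain ⟨τ, Γ, hctx, hΓ, ⟨eG⟩, hpow⟩ := exists_ctx (cs := M.toCoxeterSystem) (hN := hN) S hk hB hd' he hw0
  have hG : GCtx M.toCoxeterSystem hN τ e (e * (r ^ n : ℕ)) Γ p d :=
    ⟨hctx, hΓ, hpp.out, hp2, hpk, hdvd, hQ1, hpow, hcopd⟩
  obtain ⟨a, u, ha, hu, hnu⟩ := exists_exp hpp.out hQ1 hdvd
  have hfin : Finite ↥Γ := Finite.of_equiv _ eG.toEquiv
  obtain ⟨K, m, hK1, hK2, hK3, hK4⟩ := hord a u ha hu hnu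
  have hgd := hgood hN τ _ Γ hG
  have hWfin : Finite M.Group := finite_W hp M.toCoxeterSystem
  have hdata : Data M.toCoxeterSystem hN τ (e * (r ^ n : ℕ)) Γ p a ν :=
    { ha := ha
      hpk := hpk
      hPQ := by rw [hu, Nat.cast_pow]; exact Dvd.intro _ rfl
      hcop := C.cop
      hcon := C.con
      hcard := ⟨K, m, hK1, hK2, by rw [← Nat.card_congr eG.toEquiv]; exact hK3, hK4⟩
      hfaith := C.faith
      hR := by
        obtain ⟨π, hπ⟩ := C.rel
        obtain ⟨v, hv, hnd, hlen⟩ := C.orb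
        refine ⟨Subgroup.closure {w | ∃ g ∈ gs, w = M.toCoxeterSystem.wordProd g},
          isPGroup_of_rel hp M.toCoxeterSystem C.rows hπ, ?_, ?_⟩
        · exact card_of_orb hp M.toCoxeterSystem C.rows hv hnd hlen fun g hg => Subgroup.subset_closure ⟨g, hg, rfl⟩
        · rw [Subgroup.closure_le]
          rintro _ ⟨g, hg, rfl⟩
          exact Subgroup.subset_closure ⟨Subgroup.subset_closure ⟨g, hg, rfl⟩, hgd g hg⟩
      hrefl := hrefl hN τ _ Γ hG
      hgen := by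
        obtain ⟨w, hw, i, j, m', h1, h2, h3⟩ := C.gen
        exact ⟨_, i, j, m', hgd w hw, h1, h2, hgen_of hp M.toCoxeterSystem C.rows h3⟩ }
  exact concl_congr eG.symm (full_exc hk r hctx hQ1 hΓ hB hd' hdata)

end Row

end Cfsg.Agent.H629.ExcRow
end

-- part: H629/ExcData
section
/-!
# The explicit data in the Weyl groups (helper629)
-/

set_option autoImplicit false
set_option linter.unusedSectionVars false

namespace Cfsg.Agent.H629.ExcData

open CoxeterSystem Cfsg Cfsg.Lie Cfsg.Lie.ChevalleyDatum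
open Cfsg.Agent.ChevalleyStructure Cfsg.Agent.ChevalleyStructure.CoxeterGeom
  Cfsg.Agent.ChevalleyStructure.CoxeterGeomTypes Cfsg.Agent.ChevalleyStructure.RootVec
open Cfsg.Agent.Tits.Roots Cfsg.Agent.Tits.Core Cfsg.Agent.Nodes Cfsg.Agent.Nodes.Reps
  Cfsg.Agent.Nodes.RGDChev Cfsg.Agent.H629.ExcWeyl Cfsg.Agent.H629.ExcTor Cfsg.Agent.H629.ExcChk Cfsg.Agent.H629.ExcRow
open Cfsg.Agent.ChevalleyStructure.CoxeterElement (dot unitL)

/-- a word with its conjugator -/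
def cjw {l : ℕ} (u w : List (Fin l)) : List (Fin l) := u ++ w ++ u.reverse

/-- the rows of the Cartan matrix of type F4 -/
def rwF4 : List (List ℤ) := [[2, -1, 0, 0], [-1, 2, -2, 0], [0, -1, 2, -1], [0, 0, -1, 2]]

theorem rowsF4 : Rows chevF4 4 rwF4 := ⟨by decide +kernel, by decide +kernel⟩

theorem entF4 : ∀ i j : Fin 4, cartanOf chevF4 4 i j = 0 ∨ cartanOf chevF4 4 i j = -1 ∨ cartanOf chevF4 4 i j = 2 ∨
    cartanOf chevF4 4 i j = -2 := by decide +kernel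

/-- the longest element -/
def w0F4 : List (Fin 4) := [0, 1, 2, 3, 0, 1, 2, 3, 0, 1, 2, 3, 0, 1, 2, 3, 0, 1, 2, 3, 0, 1, 2, 3]

theorem w0F4_img : ∀ i : Fin 4, act rwF4 w0F4 (unitL 4 i) = (unitL 4 i).map fun a => -1 * a := by
  decide +kernel

/-- a conjugator -/
def uF430 : List (Fin 4) := [1, 2, 0, 1, 2, 3, 2, 1, 2, 0, 1, 2, 3]

/-- the generators of the Sylow 3-subgroup -/
def gsF43 : List (List (Fin 4)) := [cjw uF430 [2, 3], [0, 1]]

private noncomputable def _root_.Cfsg.Agent.LsF.fa110d9_30 : {f // @Cfsg.Agent.ChevalleyStructure.CoxeterElement.subAt = f} := ⟨_, by first | (delta Cfsg.Agent.ChevalleyStructure.CoxeterElement.subAt Nat.brecOn.go Nat.brecOn Cfsg.Agent.ChevalleyStructure.CoxeterElement.subAt._f; rewrite [Cfsg.Agent.LsF.isub_pat]; (try delta Cfsg.Agent.ChevalleyStructure.CoxeterElement.subAt.match_1); (try delta List.casesOn Nat.casesOn); first | dsimp -zeta only | exact rfl) | exact rfl⟩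
private noncomputable def _root_.Cfsg.Agent.LsF.fa110d9_31 : {f // @Cfsg.Agent.ChevalleyStructure.CoxeterElement.dot = f} := ⟨_, by first | (delta Cfsg.Agent.ChevalleyStructure.CoxeterElement.dot List.brecOn List.brecOn.go Cfsg.Agent.ChevalleyStructure.CoxeterElement.dot._f; rewrite [Cfsg.Agent.LsF.iadd_pat, Cfsg.Agent.LsF.imul_pat]; (try delta Cfsg.Agent.ChevalleyStructure.CoxeterElement.dot.match_1); (try delta Cfsg.Agent.ChevalleyStructure.CoxeterElement.dot._sparseCasesOn_1); first | dsimp -zeta only | exact rfl) | exact rfl⟩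
private noncomputable def _root_.Cfsg.Agent.LsF.fa110d9_32 : {f // @Cfsg.Agent.ChevalleyStructure.CoxeterElement.step = f} := ⟨_, by first | (delta Cfsg.Agent.ChevalleyStructure.CoxeterElement.step; rewrite [Cfsg.Agent.LsF.fa110d9_30.2, Cfsg.Agent.LsF.fa110d9_31.2, Cfsg.Agent.LsF.getD_eq]; exact rfl) | exact rfl⟩
private noncomputable def _root_.Cfsg.Agent.LsF.fa110d9_33 : {f // @Cfsg.Agent.H629.ExcWeyl.act = f} := ⟨_, by first | (delta Cfsg.Agent.H629.ExcWeyl.act; rewrite [Cfsg.Agent.LsF.fa110d9_32.2, Cfsg.Agent.LsF.foldr_eq]; exact rfl) | exact rfl⟩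
private noncomputable def _root_.Cfsg.Agent.LsF.fa110d9_34 : {f // @Cfsg.Agent.ChevalleyStructure.CoxeterElement.unitL = f} := ⟨_, by first | (delta Cfsg.Agent.ChevalleyStructure.CoxeterElement.unitL; rewrite [Cfsg.Agent.LsF.instDecEq_eq, Cfsg.Agent.LsF.map_eq, Cfsg.Agent.LsF.range_eq, Cfsg.Agent.LsF.ite_eq]; exact rfl) | exact rfl⟩
private noncomputable def _root_.Cfsg.Agent.LsF.fa110d9_35 : {f // @Cfsg.Agent.H629.ExcWeyl.img = f} := ⟨_, by first | (delta Cfsg.Agent.H629.ExcWeyl.img; rewrite [Cfsg.Agent.LsF.fa110d9_33.2, Cfsg.Agent.LsF.fa110d9_34.2, Cfsg.Agent.LsF.map_eq, Cfsg.Agent.LsF.range_eq]; exact rfl) | exact rfl⟩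
private noncomputable def _root_.Cfsg.Agent.LsF.fa110d9_36 : {f // @Cfsg.Agent.H629.ExcWeyl.PRel = f} := ⟨_, by first | (delta Cfsg.Agent.H629.ExcWeyl.PRel List.brecOn List.brecOn.go Cfsg.Agent.H629.ExcWeyl.PRel._f; rewrite [Cfsg.Agent.LsF.fa110d9_35.2, Cfsg.Agent.LsF.instIBEq_pat, Cfsg.Agent.LsF.and_eq, Cfsg.Agent.LsF.decLt_eq, Cfsg.Agent.LsF.all_eq, Cfsg.Agent.LsF.instAppend_eq, Cfsg.Agent.LsF.flatten_eq, Cfsg.Agent.LsF.replicate_eq, Cfsg.Agent.LsF.range_eq, Cfsg.Agent.LsF.getD_eq, Cfsg.Agent.LsF.instBEq_eq, Cfsg.Agent.LsF.length_eq, Cfsg.Agent.LsF.decide_eq]; (try delta Cfsg.Agent.H629.ExcWeyl.PRel.match_1); (try delta List.casesOn); first | dsimp -zeta only | exact rfl) | exact rfl⟩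
private noncomputable def _root_.Cfsg.Agent.LsF.fa110d9_37 : {f // @Cfsg.Agent.H629.ExcData.cjw = f} := ⟨_, by first | (delta Cfsg.Agent.H629.ExcData.cjw; rewrite [Cfsg.Agent.LsF.instAppend_eq, Cfsg.Agent.LsF.reverse_eq]; exact rfl) | exact rfl⟩
private noncomputable def _root_.Cfsg.Agent.LsF.fa110d9_38 : {f // @Cfsg.Agent.H629.ExcData.gsF43 = f} := ⟨_, by first | (delta Cfsg.Agent.H629.ExcData.gsF43; rewrite [Cfsg.Agent.LsF.fa110d9_37.2]; exact rfl) | exact rfl⟩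
theorem relF43 : PRel 4 rwF4 3 (fun _ i => i) gsF43 = true := by ((try (rewrite [Cfsg.Agent.LsF.fa110d9_36.2, Cfsg.Agent.LsF.fa110d9_38.2])); decide +kernel)

theorem nodupF43 : (ExcWeyl.orb rwF4 3 gsF43 [[1, 4, 6, 6]]).Nodup := by decide +kernel

theorem lenF43 : (ExcWeyl.orb rwF4 3 gsF43 [[1, 4, 6, 6]]).length = 3 ^ 2 := by decide +kernel

theorem faithF43 : faithOK chevF4 4 rwF4 3 = true := by decide +kernel

theorem genF43 : ∀ t : Fin 4, dot (rwF4.getD (0 : Fin 4) []) (ExcWeyl.act rwF4 ([0, 1] : List (Fin 4)).reverse (unitL 4 t)) =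
    (rwF4.getD (1 : Fin 4) []).getD t 0 := by decide +kernel

theorem conF4 : Conn chevF4 4 := by decide +kernel

/-- the rows of the Cartan matrix of type E6 -/
def rwE6 : List (List ℤ) := [[2, 0, -1, 0, 0, 0], [0, 2, 0, -1, 0, 0], [-1, 0, 2, -1, 0, 0], [0, -1, -1, 2, -1, 0], [0, 0, 0, -1, 2, -1], [0, 0, 0, 0, -1, 2]]

theorem rowsE6 : Rows chevE6 6 rwE6 := ⟨by decide +kernel, by decide +kernel⟩

theorem entE6 : ∀ i j : Fin 6, cartanOf chevE6 6 i j = 0 ∨ cartanOf chevE6 6 i j = -1 ∨ cartanOf chevE6 6 i j = 2 ∨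
    cartanOf chevE6 6 i j = -2 := by decide +kernel

/-- the longest element -/
def w0E6 : List (Fin 6) := [0, 2, 3, 4, 5, 1, 3, 4, 2, 3, 0, 2, 1, 3, 4, 5, 1, 3, 4, 2, 3, 0, 2, 1, 3, 4, 2, 3, 0, 2, 1, 3, 0, 2, 1, 0]

theorem w0E6_img : ∀ i : Fin 6, act rwE6 w0E6 (unitL 6 ((![5, 1, 4, 3, 2, 0] : Fin 6 → Fin 6) i)) =
    (unitL 6 i).map fun a => -1 * a := by decide +kernel

/-- a conjugator -/
def uE630 : List (Fin 6) := [3, 4, 0, 2, 1, 3]

/-- a conjugator -/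
def uE631 : List (Fin 6) := [3, 2, 1, 3, 4, 5, 3, 2, 1, 3, 4, 3, 2, 1, 3, 0, 2]

/-- the generators of the Sylow 3-subgroup -/
def gsE63 : List (List (Fin 6)) := [cjw uE630 [0, 2, 4, 5], cjw uE631 [0, 2], [4, 5], [0, 2]]

private noncomputable def _root_.Cfsg.Agent.LsF.fa110d9_39 : {f // @Cfsg.Agent.H629.ExcData.gsE63 = f} := ⟨_, by first | (delta Cfsg.Agent.H629.ExcData.gsE63; rewrite [Cfsg.Agent.LsF.fa110d9_37.2]; exact rfl) | exact rfl⟩
theorem relE63 : PRel 6 rwE6 3 (fun n i => if n = 3 then [1, 2, 0].getD i 0 else i) gsE63 = true := by ((try (rewrite [Cfsg.Agent.LsF.fa110d9_36.2, Cfsg.Agent.LsF.fa110d9_39.2, Cfsg.Agent.LsF.instDecEq_eq, Cfsg.Agent.LsF.getD_eq, Cfsg.Agent.LsF.ite_eq])); decide +kernel)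

private noncomputable def _root_.Cfsg.Agent.LsF.fa110d9_40 : {f // @Cfsg.Agent.H629.ExcWeyl.its = f} := ⟨_, by first | (delta Cfsg.Agent.H629.ExcWeyl.its Nat.brecOn.go Nat.brecOn Cfsg.Agent.H629.ExcWeyl.its._f; rewrite [Cfsg.Agent.LsF.fa110d9_33.2]; (try delta Cfsg.Agent.H629.ExcWeyl.its.match_1); (try delta Nat.casesOn); first | dsimp -zeta only | exact rfl) | exact rfl⟩
private noncomputable def _root_.Cfsg.Agent.LsF.fa110d9_41 : {f // @Cfsg.Agent.H629.ExcWeyl.orb = f} := ⟨_, by first | (delta Cfsg.Agent.H629.ExcWeyl.orb List.brecOn List.brecOn.go Cfsg.Agent.H629.ExcWeyl.orb._f; rewrite [Cfsg.Agent.LsF.fa110d9_40.2, Cfsg.Agent.LsF.flatMap_eq]; (try delta Cfsg.Agent.H629.ExcWeyl.orb.match_1); (try delta List.casesOn); first | dsimp -zeta only | exact rfl) | exact rfl⟩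
theorem nodupE63 : (ExcWeyl.orb rwE6 3 gsE63 [[3, 3, 5, 3, 6, 1]]).Nodup :=
  List.Nodup.of_map (fun v : List ℤ => @List.rec ℤ (fun _ => ℕ) 0 (fun a _ s => Nat.add (Int.toNat (Int.add a 128)) (Nat.mul 256 s)) v)
    (Cfsg.Agent.NodupNat.of_go (by (try (rewrite [Cfsg.Agent.LsF.fa110d9_41.2, Cfsg.Agent.LsF.fa110d9_39.2])); decide +kernel))

theorem lenE63 : (ExcWeyl.orb rwE6 3 gsE63 [[3, 3, 5, 3, 6, 1]]).length = 3 ^ 4 := by decide +kernel

private noncomputable def _root_.Cfsg.Agent.LsF.fa110d9_42 : {f // @Cfsg.Agent.H629.ExcChk.chk1 = f} := ⟨_, by first | (delta Cfsg.Agent.H629.ExcChk.chk1; rewrite [Cfsg.Agent.LsF.fa110d9_34.2, Cfsg.Agent.LsF.fa110d9_31.2, Cfsg.Agent.LsF.isub_pat, Cfsg.Agent.LsF.imod_pat, Cfsg.Agent.LsF.icast_pat, Cfsg.Agent.LsF.ibeq_pat, Cfsg.Agent.LsF.instIBEq_pat, Cfsg.Agent.LsF.or_eq, Cfsg.Agent.LsF.not_eq, Cfsg.Agent.LsF.all_eq, Cfsg.Agent.LsF.range_eq, Cfsg.Agent.LsF.getD_eq, Cfsg.Agent.LsF.instBEq_eq];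 exact rfl) | exact rfl⟩
private noncomputable def _root_.Cfsg.Agent.LsF.fa110d9_43 : {f // @Cfsg.Agent.ChevalleyStructure.RootVecTab.dig = f} := ⟨_, by first | (delta Cfsg.Agent.ChevalleyStructure.RootVecTab.dig; rewrite [Cfsg.Agent.LsF.nmul_pat]; exact rfl) | exact rfl⟩
private noncomputable def _root_.Cfsg.Agent.LsF.fa110d9_44 : {f // @Cfsg.Agent.ChevalleyStructure.RootVecTab.packTab = f} := ⟨_, by first | (delta Cfsg.Agent.ChevalleyStructure.RootVecTab.packTab; rewrite [Cfsg.Agent.LsF.instDecEq_eq, Cfsg.Agent.LsF.ite_eq]; exact rfl) | exact rfl⟩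
private noncomputable def _root_.Cfsg.Agent.LsF.fa110d9_45 : {f // @Cfsg.Agent.ChevalleyStructure.RootVecTab.code = f} := ⟨_, by first | (delta Cfsg.Agent.ChevalleyStructure.RootVecTab.code; rewrite [Cfsg.Agent.LsF.fa110d9_44.2, Cfsg.Agent.LsF.nmul_pat, Cfsg.Agent.LsF.npow_pat]; exact rfl) | exact rfl⟩
private noncomputable def _root_.Cfsg.Agent.LsF.fa110d9_46 : {f // @Cfsg.Agent.ChevalleyStructure.RootVec.rt = f} := ⟨_, by first | (delta Cfsg.Agent.ChevalleyStructure.RootVec.rt; rewrite [Cfsg.Agent.LsF.fa110d9_43.2, Cfsg.Agent.LsF.fa110d9_45.2, Cfsg.Agent.LsF.nsub_pat, Cfsg.Agent.LsF.isub_pat, Cfsg.Agent.LsF.icast_pat, Cfsg.Agent.LsF.decLt_eq, Cfsg.Agent.LsF.dAnd_eq, Cfsg.Agent.LsF.ite_eq]; exact rfl) | exact rfl⟩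
private noncomputable def _root_.Cfsg.Agent.LsF.fa110d9_47 : {f // @Cfsg.Agent.H629.ExcChk.rv = f} := ⟨_, by first | (delta Cfsg.Agent.H629.ExcChk.rv; rewrite [Cfsg.Agent.LsF.fa110d9_46.2, Cfsg.Agent.LsF.map_eq, Cfsg.Agent.LsF.range_eq]; exact rfl) | exact rfl⟩
private noncomputable def _root_.Cfsg.Agent.LsF.fa110d9_48 : {f // @Cfsg.Agent.H629.ExcChk.faithOK = f} := ⟨_, by first | (delta Cfsg.Agent.H629.ExcChk.faithOK; rewrite [Cfsg.Agent.LsF.fa110d9_42.2, Cfsg.Agent.LsF.fa110d9_47.2, Cfsg.Agent.LsF.all_eq, Cfsg.Agent.LsF.range_eq]; exact rfl) | exact rfl⟩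
theorem faithE63 : faithOK chevE6 6 rwE6 3 = true := by ((try (rewrite [Cfsg.Agent.LsF.fa110d9_48.2])); decide +kernel)

theorem genE63 : ∀ t : Fin 6, dot (rwE6.getD (0 : Fin 6) []) (ExcWeyl.act rwE6 ([0, 2] : List (Fin 6)).reverse (unitL 6 t)) =
    (rwE6.getD (2 : Fin 6) []).getD t 0 := by decide +kernel

/-- the generators of the Sylow 5-subgroup -/
def gsE65 : List (List (Fin 6)) := [[0, 2, 3, 1]]

theorem relE65 : PRel 6 rwE6 5 (fun _ i => i) gsE65 = true := by decide +kernel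

theorem nodupE65 : (ExcWeyl.orb rwE6 5 gsE65 [[0, 3, 0, 6, 3, 3]]).Nodup := by decide +kernel

theorem lenE65 : (ExcWeyl.orb rwE6 5 gsE65 [[0, 3, 0, 6, 3, 3]]).length = 5 ^ 1 := by decide +kernel

theorem faithE65 : faithOK chevE6 6 rwE6 5 = true := by ((try (rewrite [Cfsg.Agent.LsF.fa110d9_48.2])); decide +kernel)

theorem genE65 : ∀ t : Fin 6, dot (rwE6.getD (0 : Fin 6) []) (ExcWeyl.act rwE6 ([0, 2, 3, 1] : List (Fin 6)).reverse (unitL 6 t)) =
    (rwE6.getD (2 : Fin 6) []).getD t 0 := by decide +kernel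

private noncomputable def _root_.Cfsg.Agent.LsF.fa110d9_49 : {f // @Cfsg.Lie.ChevalleyDatum.cartan = f} := ⟨_, by first | (delta Cfsg.Lie.ChevalleyDatum.cartan; rewrite [Cfsg.Agent.LsF.agetD_eq]; exact rfl) | exact rfl⟩
private noncomputable def _root_.Cfsg.Agent.LsF.fa110d9_50 : {f // @Cfsg.Lie.ChevalleyDatum.simple = f} := ⟨_, by first | (delta Cfsg.Lie.ChevalleyDatum.simple; rewrite [Cfsg.Agent.LsF.agetD_eq]; exact rfl) | exact rfl⟩
private noncomputable def _root_.Cfsg.Agent.LsF.fa110d9_51 : {f // @Cfsg.Agent.ChevalleyStructure.CoxeterGeomTypes.cartanOf = f} := ⟨_, by first | (delta Cfsg.Agent.ChevalleyStructure.CoxeterGeomTypes.cartanOf; rewrite [Cfsg.Agent.LsF.fa110d9_49.2, Cfsg.Agent.LsF.fa110d9_50.2]; exact rfl) | exact rfl⟩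
theorem conE6 : Conn chevE6 6 := by (refine of_decide_eq_true ?_; (try (delta Cfsg.Agent.H629.ExcTor.Conn Cfsg.Agent.H629.ExcTor.instDecidableConn629; rewrite [Cfsg.Agent.LsF.fa110d9_51.2, Cfsg.Agent.LsF.finFintype_eq, Cfsg.Agent.LsF.dForall_eq, Cfsg.Agent.LsF.dFMem_eq, Cfsg.Agent.LsF.instIDecEq_eq, Cfsg.Agent.LsF.dNot_eq, Cfsg.Agent.LsF.dFinEq_eq, Cfsg.Agent.LsF.dForallFin_eq, Cfsg.Agent.LsF.decide_eq])); decide +kernel)

/-- the rows of the Cartan matrix of type E7 -/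
def rwE7 : List (List ℤ) := [[2, 0, -1, 0, 0, 0, 0], [0, 2, 0, -1, 0, 0, 0], [-1, 0, 2, -1, 0, 0, 0], [0, -1, -1, 2, -1, 0, 0], [0, 0, 0, -1, 2, -1, 0], [0, 0, 0, 0, -1, 2, -1], [0, 0, 0, 0, 0, -1, 2]]

theorem rowsE7 : Rows chevE7 7 rwE7 := ⟨by decide +kernel, by (refine of_decide_eq_true ?_; (try (rewrite [Cfsg.Agent.LsF.fa110d9_51.2, Cfsg.Agent.LsF.getD_eq, Cfsg.Agent.LsF.instIDecEq_eq, Cfsg.Agent.LsF.dForallFin_eq, Cfsg.Agent.LsF.decide_eq])); decide +kernel)⟩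

theorem entE7 : ∀ i j : Fin 7, cartanOf chevE7 7 i j = 0 ∨ cartanOf chevE7 7 i j = -1 ∨ cartanOf chevE7 7 i j = 2 ∨
    cartanOf chevE7 7 i j = -2 := by (refine of_decide_eq_true ?_; (try (rewrite [Cfsg.Agent.LsF.fa110d9_51.2, Cfsg.Agent.LsF.ineg_pat, Cfsg.Agent.LsF.instIDecEq_eq, Cfsg.Agent.LsF.dOr_eq, Cfsg.Agent.LsF.dForallFin_eq, Cfsg.Agent.LsF.decide_eq])); decide +kernel)

/-- the longest element -/
def w0E7 : List (Fin 7) := [0, 1, 2, 3, 4, 5, 6, 0, 1, 2, 3, 4, 5, 6, 0, 1, 2, 3, 4, 5, 6, 0, 1, 2, 3, 4, 5, 6, 0, 1, 2, 3, 4, 5, 6, 0, 1, 2, 3, 4, 5, 6, 0, 1, 2, 3, 4, 5, 6, 0, 1, 2, 3, 4, 5, 6, 0, 1, 2, 3, 4, 5, 6]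

theorem w0E7_img : ∀ i : Fin 7, act rwE7 w0E7 (unitL 7 i) = (unitL 7 i).map fun a => -1 * a := by
  (refine of_decide_eq_true ?_; (try (rewrite [Cfsg.Agent.LsF.fa110d9_33.2, Cfsg.Agent.LsF.fa110d9_34.2, Cfsg.Agent.LsF.imul_pat, Cfsg.Agent.LsF.ineg_pat, Cfsg.Agent.LsF.map_eq, Cfsg.Agent.LsF.instIDecEq_eq, Cfsg.Agent.LsF.dListEq_eq, Cfsg.Agent.LsF.dForallFin_eq, Cfsg.Agent.LsF.decide_eq])); decide +kernel)

/-- a conjugator -/
def uE730 : List (Fin 7) := [3, 4, 0, 2, 1, 3]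

/-- a conjugator -/
def uE731 : List (Fin 7) := [3, 2, 1, 3, 4, 5, 3, 2, 1, 3, 4, 3, 2, 1, 3, 0, 2]

/-- the generators of the Sylow 3-subgroup -/
def gsE73 : List (List (Fin 7)) := [cjw uE730 [0, 2, 4, 5], cjw uE731 [0, 2], [4, 5], [0, 2]]

private noncomputable def _root_.Cfsg.Agent.LsF.fa110d9_52 : {f // @Cfsg.Agent.H629.ExcData.gsE73 = f} := ⟨_, by first | (delta Cfsg.Agent.H629.ExcData.gsE73; rewrite [Cfsg.Agent.LsF.fa110d9_37.2]; exact rfl) | exact rfl⟩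
theorem relE73 : PRel 7 rwE7 3 (fun n i => if n = 3 then [1, 2, 0].getD i 0 else i) gsE73 = true := by ((try (rewrite [Cfsg.Agent.LsF.fa110d9_36.2, Cfsg.Agent.LsF.fa110d9_52.2, Cfsg.Agent.LsF.instDecEq_eq, Cfsg.Agent.LsF.getD_eq, Cfsg.Agent.LsF.ite_eq])); decide +kernel)

theorem nodupE73 : (ExcWeyl.orb rwE7 3 gsE73 [[4, 6, 6, 0, 5, 3, 2]]).Nodup :=
  List.Nodup.of_map (fun v : List ℤ => @List.rec ℤ (fun _ => ℕ) 0 (fun a _ s => Nat.add (Int.toNat (Int.add a 128)) (Nat.mul 256 s)) v)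
    (Cfsg.Agent.NodupNat.of_go (by (try (rewrite [Cfsg.Agent.LsF.fa110d9_41.2, Cfsg.Agent.LsF.fa110d9_52.2])); decide +kernel))

theorem lenE73 : (ExcWeyl.orb rwE7 3 gsE73 [[4, 6, 6, 0, 5, 3, 2]]).length = 3 ^ 4 := by decide +kernel

theorem faithE73 : faithOK chevE7 7 rwE7 3 = true := by ((try (rewrite [Cfsg.Agent.LsF.fa110d9_48.2])); decide +kernel)

theorem genE73 : ∀ t : Fin 7, dot (rwE7.getD (0 : Fin 7) []) (ExcWeyl.act rwE7 ([0, 2] : List (Fin 7)).reverse (unitL 7 t)) =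
    (rwE7.getD (2 : Fin 7) []).getD t 0 := by decide +kernel

/-- the generators of the Sylow 5-subgroup -/
def gsE75 : List (List (Fin 7)) := [[0, 2, 3, 1]]

theorem relE75 : PRel 7 rwE7 5 (fun _ i => i) gsE75 = true := by decide +kernel

theorem nodupE75 : (ExcWeyl.orb rwE7 5 gsE75 [[5, 6, 1, 4, 0, 2, 0]]).Nodup := by decide +kernel

theorem lenE75 : (ExcWeyl.orb rwE7 5 gsE75 [[5, 6, 1, 4, 0, 2, 0]]).length = 5 ^ 1 := by decide +kernel

theorem faithE75 : faithOK chevE7 7 rwE7 5 = true := by ((try (rewrite [Cfsg.Agent.LsF.fa110d9_48.2])); decide +kernel)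

theorem genE75 : ∀ t : Fin 7, dot (rwE7.getD (0 : Fin 7) []) (ExcWeyl.act rwE7 ([0, 2, 3, 1] : List (Fin 7)).reverse (unitL 7 t)) =
    (rwE7.getD (2 : Fin 7) []).getD t 0 := by decide +kernel

/-- the generators of the Sylow 7-subgroup -/
def gsE77 : List (List (Fin 7)) := [[0, 2, 3, 4, 5, 6]]

theorem relE77 : PRel 7 rwE7 7 (fun _ i => i) gsE77 = true := by decide +kernel

theorem nodupE77 : (ExcWeyl.orb rwE7 7 gsE77 [[0, 0, 5, 4, 0, 3, 5]]).Nodup := by decide +kernel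

theorem lenE77 : (ExcWeyl.orb rwE7 7 gsE77 [[0, 0, 5, 4, 0, 3, 5]]).length = 7 ^ 1 := by decide +kernel

theorem faithE77 : faithOK chevE7 7 rwE7 7 = true := by ((try (rewrite [Cfsg.Agent.LsF.fa110d9_48.2])); decide +kernel)

theorem genE77 : ∀ t : Fin 7, dot (rwE7.getD (0 : Fin 7) []) (ExcWeyl.act rwE7 ([0, 2, 3, 4, 5, 6] : List (Fin 7)).reverse (unitL 7 t)) =
    (rwE7.getD (2 : Fin 7) []).getD t 0 := by decide +kernel

theorem conE7 : Conn chevE7 7 := by (refine of_decide_eq_true ?_; (try (delta Cfsg.Agent.H629.ExcTor.Conn Cfsg.Agent.H629.ExcTor.instDecidableConn629; rewrite [Cfsg.Agent.LsF.fa110d9_51.2, Cfsg.Agent.LsF.finFintype_eq, Cfsg.Agent.LsF.dForall_eq, Cfsg.Agent.LsF.dFMem_eq, Cfsg.Agent.LsF.instIDecEq_eq, Cfsg.Agent.LsF.dNot_eq, Cfsg.Agent.LsF.dFinEq_eq, Cfsg.Agent.LsF.dForallFin_eq, Cfsg.Agent.LsF.decide_eq])); decide +kernel)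

/-- the rows of the Cartan matrix of type E8 -/
def rwE8 : List (List ℤ) := [[2, 0, -1, 0, 0, 0, 0, 0], [0, 2, 0, -1, 0, 0, 0, 0], [-1, 0, 2, -1, 0, 0, 0, 0], [0, -1, -1, 2, -1, 0, 0, 0], [0, 0, 0, -1, 2, -1, 0, 0], [0, 0, 0, 0, -1, 2, -1, 0], [0, 0, 0, 0, 0, -1, 2, -1], [0, 0, 0, 0, 0, 0, -1, 2]]

theorem rowsE8 : Rows chevE8 8 rwE8 := ⟨by decide +kernel, by (delta Cfsg.Agent.ChevalleyStructure.CoxeterGeomTypes.cartanOf; rewrite [H90F.si_fun, H90F.ca_fun, H90F.ld_fun]; decide +kernel)⟩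

theorem entE8 : ∀ i j : Fin 8, cartanOf chevE8 8 i j = 0 ∨ cartanOf chevE8 8 i j = -1 ∨ cartanOf chevE8 8 i j = 2 ∨
    cartanOf chevE8 8 i j = -2 := by (delta Cfsg.Agent.ChevalleyStructure.CoxeterGeomTypes.cartanOf; rewrite [H90F.si_fun, H90F.ca_fun]; decide +kernel)

/-- the longest element -/
def w0E8 : List (Fin 8) := [0, 1, 2, 3, 4, 5, 6, 7, 0, 1, 2, 3, 4, 5, 6, 7, 0, 1, 2, 3, 4, 5, 6, 7, 0, 1, 2, 3, 4, 5, 6, 7, 0, 1, 2, 3, 4, 5, 6, 7, 0, 1, 2, 3, 4, 5, 6, 7, 0, 1, 2, 3, 4, 5, 6, 7, 0, 1, 2, 3, 4, 5, 6, 7, 0, 1, 2, 3, 4, 5, 6, 7, 0, 1, 2, 3, 4, 5, 6, 7, 0, 1, 2, 3, 4, 5, 6, 7, 0, 1, 2, 3, 4, 5, 6, 7, 0, 1, 2, 3, 4, 5, 6, 7, 0, 1, 2, 3, 4, 5, 6, 7, 0, 1, 2, 3, 4, 5, 6, 7]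

theorem w0E8_img : ∀ i : Fin 8, act rwE8 w0E8 (unitL 8 i) = (unitL 8 i).map fun a => -1 * a := by
  (refine of_decide_eq_true ?_; (try (rewrite [Cfsg.Agent.LsF.fa110d9_33.2, Cfsg.Agent.LsF.fa110d9_34.2, Cfsg.Agent.LsF.imul_pat, Cfsg.Agent.LsF.ineg_pat, Cfsg.Agent.LsF.map_eq, Cfsg.Agent.LsF.instIDecEq_eq, Cfsg.Agent.LsF.dListEq_eq, Cfsg.Agent.LsF.dForallFin_eq, Cfsg.Agent.LsF.decide_eq])); decide +kernel)

/-- a conjugator -/
def uE830 : List (Fin 8) := [3, 4, 0, 2, 1, 3]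

/-- a conjugator -/
def uE831 : List (Fin 8) := [3, 2, 1, 3, 4, 5, 3, 2, 1, 3, 4, 3, 2, 1, 3, 0, 2]

/-- a conjugator -/
def uE834 : List (Fin 8) := [6, 7, 1, 3, 4, 5, 6, 2, 3, 4, 5, 1, 3, 4, 2, 3, 0, 2, 1, 3, 4, 5, 6, 7, 6, 5, 4, 2, 3, 0, 2, 1, 3, 4, 5, 6, 3, 0, 2, 1, 3, 4, 5, 3, 2, 1, 3, 4, 3, 2, 1, 3, 0, 2, 1]

/-- the generators of the Sylow 3-subgroup -/
def gsE83 : List (List (Fin 8)) := [cjw uE830 [0, 2, 4, 5], cjw uE831 [0, 2], [4, 5], [0, 2], cjw uE834 [0, 2]]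

private noncomputable def _root_.Cfsg.Agent.LsF.fa110d9_53 : {f // @Cfsg.Agent.H629.ExcData.gsE83 = f} := ⟨_, by first | (delta Cfsg.Agent.H629.ExcData.gsE83; rewrite [Cfsg.Agent.LsF.fa110d9_37.2]; exact rfl) | exact rfl⟩
theorem relE83 : PRel 8 rwE8 3 (fun n i => if n = 4 then [1, 2, 0, 3].getD i 0 else i) gsE83 = true := by ((try (rewrite [Cfsg.Agent.LsF.fa110d9_36.2, Cfsg.Agent.LsF.fa110d9_53.2, Cfsg.Agent.LsF.instDecEq_eq, Cfsg.Agent.LsF.getD_eq, Cfsg.Agent.LsF.ite_eq])); decide +kernel)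

theorem nodupE83 : (ExcWeyl.orb rwE8 3 gsE83 [[1, 3, 5, 0, 4, 1, 6, 3]]).Nodup :=
  List.Nodup.of_map (fun v : List ℤ => @List.rec ℤ (fun _ => ℕ) 0 (fun a _ s => Nat.add (Int.toNat (Int.add a 128)) (Nat.mul 256 s)) v)
    (Cfsg.Agent.NodupNat.of_go (by (try (rewrite [Cfsg.Agent.LsF.fa110d9_41.2, Cfsg.Agent.LsF.fa110d9_53.2])); decide +kernel))

theorem lenE83 : (ExcWeyl.orb rwE8 3 gsE83 [[1, 3, 5, 0, 4, 1, 6, 3]]).length = 3 ^ 5 := by decide +kernel

theorem faithE83 : faithOK chevE8 8 rwE8 3 = true := by ((try (rewrite [Cfsg.Agent.LsF.fa110d9_48.2])); decide +kernel)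

theorem genE83 : ∀ t : Fin 8, dot (rwE8.getD (0 : Fin 8) []) (ExcWeyl.act rwE8 ([0, 2] : List (Fin 8)).reverse (unitL 8 t)) =
    (rwE8.getD (2 : Fin 8) []).getD t 0 := by decide +kernel

/-- a conjugator -/
def uE850 : List (Fin 8) := [4, 5, 6, 7, 3, 4, 5, 6, 2, 3, 4, 5, 1, 3, 4, 2, 3, 0, 2, 1, 3, 4, 5, 6, 7, 1, 3, 4, 2, 3, 0, 2, 1, 3, 4, 5, 6, 4, 3, 2, 1, 3, 4, 5, 4, 3, 2, 1, 3, 4, 0, 2, 3, 1]

/-- the generators of the Sylow 5-subgroup -/
def gsE85 : List (List (Fin 8)) := [cjw uE850 [0, 2, 3, 1], [0, 2, 3, 1]]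

private noncomputable def _root_.Cfsg.Agent.LsF.fa110d9_54 : {f // @Cfsg.Agent.H629.ExcData.gsE85 = f} := ⟨_, by first | (delta Cfsg.Agent.H629.ExcData.gsE85; rewrite [Cfsg.Agent.LsF.fa110d9_37.2]; exact rfl) | exact rfl⟩
theorem relE85 : PRel 8 rwE8 5 (fun _ i => i) gsE85 = true := by ((try (rewrite [Cfsg.Agent.LsF.fa110d9_36.2, Cfsg.Agent.LsF.fa110d9_54.2])); decide +kernel)

theorem nodupE85 : (ExcWeyl.orb rwE8 5 gsE85 [[3, 4, 1, 2, 1, 5, 1, 6]]).Nodup := by (refine of_decide_eq_true ?_; (try (rewrite [Cfsg.Agent.LsF.fa110d9_41.2, Cfsg.Agent.LsF.fa110d9_54.2, Cfsg.Agent.LsF.instIDecEq_eq, Cfsg.Agent.LsF.dNodup_eq, Cfsg.Agent.LsF.dListEq_eq, Cfsg.Agent.LsF.decide_eq])); decide +kernel)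

theorem lenE85 : (ExcWeyl.orb rwE8 5 gsE85 [[3, 4, 1, 2, 1, 5, 1, 6]]).length = 5 ^ 2 := by decide +kernel

theorem faithE85 : faithOK chevE8 8 rwE8 5 = true := by ((try (rewrite [Cfsg.Agent.LsF.fa110d9_48.2])); decide +kernel)

theorem genE85 : ∀ t : Fin 8, dot (rwE8.getD (0 : Fin 8) []) (ExcWeyl.act rwE8 ([0, 2, 3, 1] : List (Fin 8)).reverse (unitL 8 t)) =
    (rwE8.getD (2 : Fin 8) []).getD t 0 := by decide +kernel

/-- the generators of the Sylow 7-subgroup -/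
def gsE87 : List (List (Fin 8)) := [[0, 2, 3, 4, 5, 6]]

theorem relE87 : PRel 8 rwE8 7 (fun _ i => i) gsE87 = true := by ((try (rewrite [Cfsg.Agent.LsF.fa110d9_36.2])); decide +kernel)

theorem nodupE87 : (ExcWeyl.orb rwE8 7 gsE87 [[3, 2, 0, 3, 6, 4, 5, 0]]).Nodup := by decide +kernel

theorem lenE87 : (ExcWeyl.orb rwE8 7 gsE87 [[3, 2, 0, 3, 6, 4, 5, 0]]).length = 7 ^ 1 := by decide +kernel

theorem faithE87 : faithOK chevE8 8 rwE8 7 = true := by ((try (rewrite [Cfsg.Agent.LsF.fa110d9_48.2])); decide +kernel)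

theorem genE87 : ∀ t : Fin 8, dot (rwE8.getD (0 : Fin 8) []) (ExcWeyl.act rwE8 ([0, 2, 3, 4, 5, 6] : List (Fin 8)).reverse (unitL 8 t)) =
    (rwE8.getD (2 : Fin 8) []).getD t 0 := by decide +kernel

theorem conE8 : Conn chevE8 8 := by (delta Cfsg.Agent.ChevalleyStructure.CoxeterGeomTypes.cartanOf Cfsg.Agent.H629.ExcTor.Conn; rewrite [H90F.si_fun, H90F.ca_fun]; (refine of_decide_eq_true ?_; (try (rewrite [Cfsg.Agent.LsF.finFintype_eq, Cfsg.Agent.LsF.dForall_eq, Cfsg.Agent.LsF.dFMem_eq, Cfsg.Agent.LsF.instIDecEq_eq, Cfsg.Agent.LsF.dNot_eq, Cfsg.Agent.LsF.dFinEq_eq, Cfsg.Agent.LsF.dForallFin_eq, Cfsg.Agent.LsF.decide_eq])); decide +kernel))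

end Cfsg.Agent.H629.ExcData
end

-- part: H629/ExcRows
section
/-!
# Strongly closed subgroups of the exceptional groups in the torus case (helper629)

`Concl p G` : every strongly closed subgroup `≠ 1` of a Sylow `p`-subgroup is the whole Sylow subgroup (`Exc.Full`), and
the Sylow `p`-subgroups are nonabelian.
-/

set_option autoImplicit false
set_option linter.unusedSectionVars false

namespace Cfsg.Agent.H629.ExcRows

open CoxeterSystem Cfsg Cfsg.Lie Cfsg.Lie.ChevalleyDatum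
open Cfsg.Agent.ChevalleyStructure Cfsg.Agent.ChevalleyStructure.Elts Cfsg.Agent.ChevalleyStructure.CoxeterGeom
  Cfsg.Agent.ChevalleyStructure.CoxeterGeomTypes Cfsg.Agent.ChevalleyStructure.NPerm
open Cfsg.Agent.Tits.Roots Cfsg.Agent.Tits.Core Cfsg.Agent.Nodes Cfsg.Agent.Nodes.Reps Cfsg.Agent.Nodes.BNOf
  Cfsg.Agent.Nodes.RGDChev Cfsg.Agent.Nodes.Bruhat Cfsg.Agent.Nodes.SubComb Cfsg.Agent.Nodes.Coroot
open Cfsg.Agent.KFacts.RgdField Cfsg.Agent.KFacts.RgdChevCoord Cfsg.Agent.BpExc.TorCent Cfsg.Agent.BpExc.TorChev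
open Cfsg.Agent.GpExc.Field Cfsg.Agent.BpExc.Tow Cfsg.Agent.BpExc.TowChev Cfsg.Agent.BpExc.Fr
  Cfsg.Agent.BpExc.LangFr Cfsg.Agent.LangThm Cfsg.Agent.BpExc Cfsg.Agent.H129.TorusChar
open Cfsg.Agent.H629.ExcTor Cfsg.Agent.H629.ExcLevi Cfsg.Agent.H629.ExcMain Cfsg.Agent.H629.ExcWeyl
  Cfsg.Agent.H629.ExcTab Cfsg.Agent.H629.ExcGood Cfsg.Agent.H629.ExcCtx Cfsg.Agent.H629.ExcOrd
  Cfsg.Agent.H629.ExcChk Cfsg.Agent.H629.ExcRow Cfsg.Agent.H629.ExcData
open Cfsg.Agent.ChevalleyStructure.CoxeterElement (dot unitL length_unitL vec_unitL)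

universe u

/-! ### the untwisted groups -/

section Untw

variable {D : ChevalleyDatum} {l : ℕ} {M : CoxeterMatrix (Fin l)} (hp : IsType D l M)

/-- The checks of the good elements. -/
def HGood (hp : IsType D l M) (p d : ℕ) (e : ℤ) (gs : List (List (Fin l))) : Prop :=
  ∀ (k : Type u) [Field k] [IsAlgClosed k] (hN : NSys M (TT D k) (nc hp k)) (τ : MulAut ↥(D.group k)) (Q : ℤ)
    (Γ : Subgroup ↥(D.group k)), GCtx M.toCoxeterSystem hN τ e Q Γ p d →
      ∀ g ∈ gs, Good M.toCoxeterSystem hN τ Γ p (M.toCoxeterSystem.wordProd g)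

/-- The checks of the reflections. -/
def HRefl (hp : IsType D l M) (p d : ℕ) (e : ℤ) : Prop :=
  ∀ (k : Type u) [Field k] [IsAlgClosed k] (hN : NSys M (TT D k) (nc hp k)) (τ : MulAut ↥(D.group k)) (Q : ℤ)
    (Γ : Subgroup ↥(D.group k)), GCtx M.toCoxeterSystem hN τ e Q Γ p d → ∀ i, ∃ x ∈ Γ, ∃ w,
      Rp M.toCoxeterSystem hN w x ∧
        ((∀ z, rep M.toCoxeterSystem hp.isCartan w z = rep M.toCoxeterSystem hp.isCartan (M.toCoxeterSystem.simple i) z) ∨
        (∀ z, rep M.toCoxeterSystem hp.isCartan w z = -rep M.toCoxeterSystem hp.isCartan (M.toCoxeterSystem.simple i) z))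

theorem row_untw {F : Type u} [Field F] [Fintype F] {q : ℕ} (hq : Fintype.card F = q) {d : ℕ}
    {B : Fin l → Fin l → ℤ} (hB : InvC D l d B) (hd : d ≠ 0) {rows : List (List ℤ)} {e : ℤ} (he : e = 1 ∨ e = -1)
    {w0 : List (Fin l)}
    (hw0 : ∀ i : Fin l, act rows w0 (unitL l i) = (unitL l i).map fun a => -1 * a)
    {p ν : ℕ} [hpp : Fact p.Prime] (hp2 : p ≠ 2) (hpq : ¬ p ∣ q) (hdvd : (p : ℤ) ∣ e * q - 1)
    (hcopd : ¬ p ∣ d ∨ (p = 3 ∧ d = 3)) {gs : List (List (Fin l))} (C : Chk hp rows p ν gs)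
    {K δ : ℕ} (hK : K = p ^ δ)
    (hker : ∀ (k : Type u) [Field k] (a : ℕ),
      Nat.card {c : Fin l → kˣ // (∀ i, c i ^ (p ^ a) = 1) ∧ chi D l k c = 1} ≤ K)
    (hord : ∀ (a : ℕ) (u : ℤ), 0 < a → e * q - 1 = (p : ℤ) ^ a * u → ¬ (p : ℤ) ∣ u →
      ∃ m : ℕ, K * Nat.card ↥(D.group F) = (p ^ a) ^ l * p ^ ν * m ∧ ¬ p ∣ m)
    (hgood : HGood.{u} hp p d e gs) (hrefl : HRefl.{u} hp p d e) : Concl p ↥(D.group F) := by
  obtain ⟨r, n, hrp, hrF, hrk, hn0, hqn, hk⟩ := H129.TorusUntw.exists_closure hq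
  have hpr : p ≠ r := by
    rintro rfl
    exact hpq (by rw [hqn]; exact dvd_pow_self _ hn0.ne')
  have S : Src hp r n (emb hp.inList (algebraMap F (AlgebraicClosure F)))
      (H129.TorusUntw.phi D (AlgebraicClosure F) r n) (AddEquiv.refl (Fin l → ℤ)) d :=
    src_untw (algebraMap F (AlgebraicClosure F)) hn0 (by rw [hq, hqn]) hB hd
  have key : ∀ {w0' : List (Fin l)}, (∀ x, rep M.toCoxeterSystem hp.isCartan (M.toCoxeterSystem.wordProd w0')
      ((AddEquiv.refl (Fin l → ℤ)) x) = e • x) → Concl p ↥(D.group F) := fun hw0' => by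
    refine row S hk hB hd he hw0' hp2 hpr ?_ hcopd C ?_ (hgood (AlgebraicClosure F)) (hrefl (AlgebraicClosure F))
    · rw [← hqn]; exact hdvd
    · intro a u ha hu hnu
      obtain ⟨m, hm, hm'⟩ := hord a u ha (by rw [hqn]; exact hu) hnu
      exact ⟨K, m, ⟨δ, hK⟩, hker (AlgebraicClosure F) a, hm, hm'⟩
  rcases he with rfl | rfl
  · exact key (w0' := []) fun x => by rw [wordProd_nil, map_one, one_smul]; rfl
  · exact key (w0' := w0) fun x => rep_eq_smul hp M.toCoxeterSystem C.rows id (fun i => rfl) hw0 x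

/-- the case `e = 1` -/
theorem row_untw1 {F : Type u} [Field F] [Fintype F] {q : ℕ} (hq : Fintype.card F = q) {d : ℕ}
    {B : Fin l → Fin l → ℤ} (hB : InvC D l d B) (hd : d ≠ 0) {rows : List (List ℤ)}
    {p ν : ℕ} [hpp : Fact p.Prime] (hp2 : p ≠ 2) (hpq : ¬ p ∣ q) (hdvd : (p : ℤ) ∣ 1 * (q : ℤ) - 1)
    (hcopd : ¬ p ∣ d ∨ (p = 3 ∧ d = 3)) {gs : List (List (Fin l))} (C : Chk hp rows p ν gs)
    {K δ : ℕ} (hK : K = p ^ δ)
    (hker : ∀ (k : Type u) [Field k] (a : ℕ),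
      Nat.card {c : Fin l → kˣ // (∀ i, c i ^ (p ^ a) = 1) ∧ chi D l k c = 1} ≤ K)
    (hord : ∀ (a : ℕ) (u : ℤ), 0 < a → 1 * (q : ℤ) - 1 = (p : ℤ) ^ a * u → ¬ (p : ℤ) ∣ u →
      ∃ m : ℕ, K * Nat.card ↥(D.group F) = (p ^ a) ^ l * p ^ ν * m ∧ ¬ p ∣ m)
    (hgood : HGood.{u} hp p d 1 gs) (hrefl : HRefl.{u} hp p d 1) : Concl p ↥(D.group F) := by
  obtain ⟨r, n, hrp, hrF, hrk, hn0, hqn, hk⟩ := H129.TorusUntw.exists_closure hq
  have hpr : p ≠ r := by
    rintro rfl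
    exact hpq (by rw [hqn]; exact dvd_pow_self _ hn0.ne')
  have S : Src hp r n (emb hp.inList (algebraMap F (AlgebraicClosure F)))
      (H129.TorusUntw.phi D (AlgebraicClosure F) r n) (AddEquiv.refl (Fin l → ℤ)) d :=
    src_untw (algebraMap F (AlgebraicClosure F)) hn0 (by rw [hq, hqn]) hB hd
  refine row S hk hB hd (Or.inl rfl) (w0 := []) (fun x => by rw [wordProd_nil, map_one, one_smul]; rfl) hp2 hpr ?_
    hcopd C ?_ (hgood (AlgebraicClosure F)) (hrefl (AlgebraicClosure F))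
  · rw [← hqn]; exact hdvd
  · intro a u ha hu hnu
    obtain ⟨m, hm, hm'⟩ := hord a u ha (by rw [hqn]; exact hu) hnu
    exact ⟨K, m, ⟨δ, hK⟩, hker (AlgebraicClosure F) a, hm, hm'⟩

end Untw

theorem neg_of_img {D : ChevalleyDatum} {l : ℕ} {M : CoxeterMatrix (Fin l)} (hp : IsType D l M) {W : Type*} [Group W]
    (cs : CoxeterSystem M W) {rows : List (List ℤ)} (hr : Rows D l rows) {w : List (Fin l)}
    (h : ∀ i : Fin l, act rows w (unitL l i) = (unitL l i).map fun a => -1 * a) (x : Fin l → ℤ) :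
    rep cs hp.isCartan (cs.wordProd w) x = -x := by
  have h1 := rep_eq_smul hp cs hr (g := AddEquiv.refl _) id (fun i => rfl) h x
  rw [neg_one_smul] at h1
  exact h1

/-! ### numbers -/

theorem natAbs_even {e : ℤ} (he : e = 1 ∨ e = -1) {q d : ℕ} (hq : 0 < q) (hd : Even d) :
    ((e * q) ^ d - 1).natAbs = q ^ d - 1 := by
  have h1 : (e * q) ^ d = ((q ^ d : ℕ) : ℤ) := by
    rcases he with rfl | rfl
    · rw [one_mul, Nat.cast_pow]
    · rw [neg_one_mul, hd.neg_pow, Nat.cast_pow]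
  have h2 : 1 ≤ q ^ d := Nat.one_le_pow _ _ hq
  rw [h1]
  omega

theorem natAbs_one {q d : ℕ} (hq : 0 < q) : ((1 * (q : ℤ)) ^ d - 1).natAbs = q ^ d - 1 := by
  have h2 : 1 ≤ q ^ d := Nat.one_le_pow _ _ hq
  have h1 : (1 * (q : ℤ)) ^ d = ((q ^ d : ℕ) : ℤ) := by rw [one_mul, Nat.cast_pow]
  rw [h1]
  omega

theorem natAbs_odd {q d : ℕ} (hd : Odd d) : ((-1 * (q : ℤ)) ^ d - 1).natAbs = q ^ d + 1 := by
  have h1 : (-1 * (q : ℤ)) ^ d = -((q ^ d : ℕ) : ℤ) := by rw [neg_one_mul, hd.neg_pow, Nat.cast_pow]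
  rw [h1]
  omega

theorem natAbs_one' {q d : ℕ} (hq : 0 < q) : ((1 * (q : ℤ)) ^ d - 1).natAbs = q ^ d - 1 := natAbs_one hq

theorem sign_of_sq {p q : ℕ} (hp : p.Prime) (hq : 0 < q) (h : p ∣ q ^ 2 - 1) :
    ∃ e : ℤ, (e = 1 ∨ e = -1) ∧ (p : ℤ) ∣ e * q - 1 ∧ ¬ p ∣ q := by
  have h1 : q ^ 2 - 1 = (q + 1) * (q - 1) := by
    obtain ⟨m, rfl⟩ := Nat.exists_eq_succ_of_ne_zero hq.ne'
    simp only [Nat.succ_eq_add_one, Nat.add_sub_cancel]
    have : (m + 1) ^ 2 = (m + 1 + 1) * m + 1 := by ring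
    omega
  have h2 : ¬ p ∣ q := by
    intro h3
    have h4 : q ^ 2 = q ^ 2 - 1 + 1 := (Nat.sub_add_cancel (Nat.one_le_pow _ _ hq)).symm
    have h5 : p ∣ q ^ 2 - 1 + 1 := by rw [← h4]; exact Dvd.dvd.pow h3 (by decide)
    exact hp.one_lt.ne' (Nat.dvd_one.1 ((Nat.dvd_add_right h).1 h5))
  rw [h1] at h
  rcases hp.dvd_mul.1 h with h3 | h3
  · refine ⟨-1, Or.inr rfl, ?_, h2⟩
    have h4 : (p : ℤ) ∣ ((q + 1 : ℕ) : ℤ) := Int.natCast_dvd_natCast.2 h3
    have e : -1 * (q : ℤ) - 1 = -((q + 1 : ℕ) : ℤ) := by push_cast; ring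
    rw [e]
    exact (dvd_neg).2 h4
  · refine ⟨1, Or.inl rfl, ?_, h2⟩
    have h4 : (p : ℤ) ∣ ((q - 1 : ℕ) : ℤ) := Int.natCast_dvd_natCast.2 h3
    have e : 1 * (q : ℤ) - 1 = ((q - 1 : ℕ) : ℤ) := by
      rw [Nat.cast_sub hq]; push_cast; ring
    rw [e]
    exact h4

theorem not_dvd_gcd_two {p n : ℕ} (h : ¬ p ∣ 2) : ¬ p ∣ Nat.gcd 2 n := fun h1 => h (h1.trans (Nat.gcd_dvd_left _ _))
theorem not_dvd_gcd_three {p n : ℕ} (h : ¬ p ∣ 3) : ¬ p ∣ Nat.gcd 3 n := fun h1 => h (h1.trans (Nat.gcd_dvd_left _ _))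

theorem isCoprime_of {x : ℤ} {n : ℕ} (y : ℤ) (hx : x = y) (h : Int.gcd y n = 1) : IsCoprime x (n : ℤ) := by
  rw [hx]
  exact Int.isCoprime_iff_gcd_eq_one.2 h

theorem sign_three {q : ℕ} (h : ¬ 3 ∣ q) : ∃ e : ℤ, (e = 1 ∨ e = -1) ∧ ((3 : ℕ) : ℤ) ∣ e * q - 1 := by
  have : q % 3 = 1 ∨ q % 3 = 2 := by omega
  rcases this with h1 | h1
  · exact ⟨1, Or.inl rfl, by omega⟩
  · exact ⟨-1, Or.inr rfl, by omega⟩

theorem not_dvd_card {F : Type u} [Field F] [Fintype F] {p q : ℕ} (hp : p.Prime) (hq : Fintype.card F = q) (h : (p : F) ≠ 0) :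
    ¬ p ∣ q := by
  intro h1
  obtain ⟨r, hr⟩ := CharP.exists F
  have hrp : r.Prime := CharP.char_is_prime F r
  obtain ⟨n, -, h2⟩ := FiniteField.card F r
  rw [← hq, h2] at h1
  have h3 := hp.dvd_of_dvd_pow h1
  have h4 := (Nat.prime_dvd_prime_iff_eq hp hrp).1 h3
  subst h4
  exact h (CharP.cast_eq_zero F p)

/-! ### `F₄` -/

theorem hpF4 : IsType chevF4 4 CoxeterMatrix.F₄ := by simp [IsType, typeList]
theorem hpE6 : IsType chevE6 6 CoxeterMatrix.E₆ := by simp [IsType, typeList]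
theorem hpE7 : IsType chevE7 7 CoxeterMatrix.E₇ := by simp [IsType, typeList]
theorem hpE8 : IsType chevE8 8 CoxeterMatrix.E₈ := by simp [IsType, typeList]

theorem chkF43 : Chk hpF4 rwF4 3 2 gsF43 where
  rows := rowsF4
  cop := cop_of Nat.prime_three (by decide) entF4
  con := conF4
  faith := faith_of hpF4 _ rowsF4 faithF43
  rel := ⟨_, relF43⟩
  orb := ⟨_, rfl, nodupF43, lenF43⟩
  gen := ⟨[0, 1], by unfold gsF43; simp, 0, 1, 2, by decide +kernel, by decide +kernel, genF43⟩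

theorem invR_F4 : ∀ i m, ∑ j, cartanOf chevF4 4 i j * (![![2, 3, 4, 2], ![3, 6, 8, 4], ![2, 4, 6, 3], ![1, 2, 3, 2]] :
    Fin 4 → Fin 4 → ℤ) j m = if i = m then ((1 : ℕ) : ℤ) else 0 := by decide +kernel

theorem goodF43 (d : ℕ) (e : ℤ) : HGood.{u} hpF4 3 d e gsF43 := by
  intro k _ _ hN τ Q Γ H g hg
  have h01 : Good CoxeterMatrix.F₄.toCoxeterSystem hN τ Γ 3 (CoxeterMatrix.F₄.toCoxeterSystem.wordProd [0, 1]) := by
    rw [← cw_ch]
    exact good_one H tabF4c01 (m := 2) (isCoprime_of (-4) (by decide +kernel) (by decide))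
  have h23 : Good CoxeterMatrix.F₄.toCoxeterSystem hN τ Γ 3 (CoxeterMatrix.F₄.toCoxeterSystem.wordProd [2, 3]) := by
    rw [← cw_ch]
    exact good_one H tabF4c23 (m := 1) (isCoprime_of (-1) (by decide +kernel) (by decide))
  simp only [gsF43, List.mem_cons, List.not_mem_nil, or_false] at hg
  rcases hg with rfl | rfl
  · exact good_word H invC_F4 one_ne_zero h23 _
  · exact h01

theorem f4_three {F : Type u} [Field F] [Fintype F] (h3 : (3 : F) ≠ 0) : Concl 3 ↥(chevF4.group F) := by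
  obtain ⟨q, hq⟩ : ∃ q, Fintype.card F = q := ⟨_, rfl⟩
  have hpq : ¬ 3 ∣ q := not_dvd_card Nat.prime_three hq (by exact_mod_cast h3)
  have hq0 : 0 < q := by rw [← hq]; exact Fintype.card_pos
  obtain ⟨e, he, hdvd⟩ := sign_three hpq
  have : Fact (Nat.Prime 3) := ⟨Nat.prime_three⟩
  refine row_untw hpF4 hq invC_F4 one_ne_zero he w0F4_img (by decide) hpq hdvd (Or.inl (by decide)) chkF43 (K := 1)
    (δ := 0) rfl (fun k _ a => ker_chi invR_F4 (Nat.coprime_one_left _)) ?_ (goodF43 1 e) ?_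
  · intro a u ha hu hnu
    have hc := S1062.result hq
    refine card_data Nat.prime_three (by decide) ha hu hnu [(0, 2), (1, 2), (0, 8), (1, 4)] (by decide) (g := 1)
      (q := q) (e := 24) (by decide) hpq ?_
    rw [one_mul, hc]
    simp only [List.map_cons, List.map_nil, List.prod_cons, List.prod_nil]
    norm_num only
    rw [natAbs_even he hq0 (by decide), natAbs_even he hq0 (by decide), natAbs_even he hq0 (by decide),
      natAbs_even he hq0 (by decide)]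
    ring
  · intro k _ _ hN τ Q Γ H i
    exact hrefl_odd H invC_F4 one_ne_zero odd_one i

/-! ### type E6 -/

theorem chkE63 : Chk hpE6 rwE6 3 4 gsE63 where
  rows := rowsE6
  cop := cop_of Nat.prime_three (by decide) entE6
  con := conE6
  faith := faith_of hpE6 _ rowsE6 faithE63
  rel := ⟨_, relE63⟩
  orb := ⟨_, rfl, nodupE63, lenE63⟩
  gen := ⟨[0, 2], by unfold gsE63; simp, 0, 2, 3, by decide +kernel, by decide +kernel, genE63⟩

theorem goodE63 (d : ℕ) (e : ℤ) : HGood.{u} hpE6 3 d e gsE63 := by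
  intro k _ _ hN τ Q Γ H g hg
  have h02 : Good CoxeterMatrix.E₆.toCoxeterSystem hN τ Γ 3 (CoxeterMatrix.E₆.toCoxeterSystem.wordProd [0, 2]) := by
    rw [← cw_ch]
    exact good_one H tabE6c02 (m := 3) (isCoprime_of (-2) (by decide +kernel) (by decide))
  have h45 : Good CoxeterMatrix.E₆.toCoxeterSystem hN τ Γ 3 (CoxeterMatrix.E₆.toCoxeterSystem.wordProd [4, 5]) := by
    rw [← cw_ch]
    exact good_one H tabE6c45 (m := 3) (isCoprime_of (-1) (by decide +kernel) (by decide))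
  have h0245 : Good CoxeterMatrix.E₆.toCoxeterSystem hN τ Γ 3 (CoxeterMatrix.E₆.toCoxeterSystem.wordProd [0, 2, 4, 5]) := by
    have e1 : ([0, 2, 4, 5] : List (Fin 6)) = [0, 2] ++ [4, 5] := rfl
    rw [e1, wordProd_append, ← cw_ch _ [0, 2], ← cw_ch _ [4, 5]]
    exact good_two H tabE6c02 (m := 3) (isCoprime_of (-2) (by decide +kernel) (by decide)) tabE6c45 (m' := 3)
      (isCoprime_of (-1) (by decide +kernel) (by decide)) (by decide +kernel)
  simp only [gsE63, List.mem_cons, List.not_mem_nil, or_false] at hg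
  rcases hg with rfl | rfl | rfl | rfl
  · exact good_word H invC_E6 (by decide) h0245 _
  · exact good_word H invC_E6 (by decide) h02 _
  · exact h45
  · exact h02

theorem e6_three {F : Type u} [Field F] [Fintype F] {q : ℕ} (hq : Fintype.card F = q) (h : 3 ∣ q - 1) : Concl 3 ↥(chevE6.group F) := by
  have hq0 : 0 < q := by rw [← hq]; exact Fintype.card_pos
  have hpq : ¬ 3 ∣ q := by omega
  have hdvd : ((3 : ℕ) : ℤ) ∣ 1 * (q : ℤ) - 1 := by omega
  have : Fact (Nat.Prime 3) := ⟨Nat.prime_three⟩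
  refine row_untw1 hpE6 hq invC_E6 (by decide) (by decide) hpq hdvd (Or.inr ⟨rfl, rfl⟩) chkE63 (K := 3)
    (δ := 1) rfl
    (fun k _ a => ker_chi_six) ?_ (goodE63 3 1) ?_
  · intro a u ha hu hnu
    have hc := S1063.result hq
    have hg : Nat.gcd 3 (q - 1) = 3 := Nat.gcd_eq_left h
    rw [hg] at hc
    refine card_data_three Nat.prime_three (by decide) ha hu hnu [(0, 2), (0, 5), (1, 2), (0, 8), (2, 1), (1, 4)] (by decide)
      (q := q) (e := 36) hpq ?_
    rw [hc]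
    simp only [List.map_cons, List.map_nil, List.prod_cons, List.prod_nil]
    norm_num only
    simp only [natAbs_one' hq0]
    ring
  · intro k _ _ hN τ Q Γ H i
    exact hrefl_odd H invC_E6 three_ne_zero (by decide) i

theorem chkE65 : Chk hpE6 rwE6 5 1 gsE65 where
  rows := rowsE6
  cop := cop_of Nat.prime_five (by decide) entE6
  con := conE6
  faith := faith_of hpE6 _ rowsE6 faithE65
  rel := ⟨_, relE65⟩
  orb := ⟨_, rfl, nodupE65, lenE65⟩
  gen := ⟨[0, 2, 3, 1], by unfold gsE65; simp, 0, 2, 3, by decide +kernel, by decide +kernel, genE65⟩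

theorem goodE65 (d : ℕ) (e : ℤ) : HGood.{u} hpE6 5 d e gsE65 := by
  intro k _ _ hN τ Q Γ H g hg
  have h4 : Good CoxeterMatrix.E₆.toCoxeterSystem hN τ Γ 5 (CoxeterMatrix.E₆.toCoxeterSystem.wordProd [0, 2, 3, 1]) := by
    rw [← cw_ch]
    exact good_one H tabE6c0231 (m := 4) (isCoprime_of (-3) (by decide +kernel) (by decide))
  simp only [gsE65, List.mem_cons, List.not_mem_nil, or_false] at hg
  subst hg
  exact h4

theorem e6_five {F : Type u} [Field F] [Fintype F] {q : ℕ} (hq : Fintype.card F = q) (h : 5 ∣ q - 1) : Concl 5 ↥(chevE6.group F) := by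
  have hq0 : 0 < q := by rw [← hq]; exact Fintype.card_pos
  have hpq : ¬ 5 ∣ q := by omega
  have hdvd : ((5 : ℕ) : ℤ) ∣ 1 * (q : ℤ) - 1 := by omega
  have : Fact (Nat.Prime 5) := ⟨Nat.prime_five⟩
  refine row_untw1 hpE6 hq invC_E6 (by decide) (by decide) hpq hdvd (Or.inl (by decide)) chkE65 (K := 1)
    (δ := 0) rfl
    (fun k _ a => ker_chi invR_E6 (Nat.Coprime.pow_right a (by decide))) ?_ (goodE65 3 1) ?_
  · intro a u ha hu hnu
    have hc := S1063.result hq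
    refine card_data Nat.prime_five (by decide) ha hu hnu [(0, 2), (1, 1), (0, 6), (0, 8), (0, 9), (0, 12)] (by decide)
      (g := (Nat.gcd 3 (q - 1))) (q := q) (e := 36) (not_dvd_gcd_three (by decide)) hpq ?_
    rw [hc]
    simp only [List.map_cons, List.map_nil, List.prod_cons, List.prod_nil]
    norm_num only
    simp only [natAbs_one' hq0]
    ring
  · intro k _ _ hN τ Q Γ H i
    exact hrefl_odd H invC_E6 three_ne_zero (by decide) i

/-! ### type E7 -/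

theorem invR_E7 : ∀ i m, ∑ j, cartanOf chevE7 7 i j * (![![4, 4, 6, 8, 6, 4, 2], ![4, 7, 8, 12, 9, 6, 3], ![6, 8, 12, 16, 12, 8, 4],
    ![8, 12, 16, 24, 18, 12, 6], ![6, 9, 12, 18, 15, 10, 5], ![4, 6, 8, 12, 10, 8, 4],
    ![2, 3, 4, 6, 5, 4, 3]] :
    Fin 7 → Fin 7 → ℤ) j m = if i = m then ((2 : ℕ) : ℤ) else 0 := by (delta Cfsg.Agent.ChevalleyStructure.CoxeterGeomTypes.cartanOf; rewrite [H90F.si_fun, H90F.ca_fun]; decide +kernel)

theorem oddE7 : Odd w0E7.length := by decide +kernel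

theorem adjE7 : ∀ i j : Fin 7, cartanOf chevE7 7 i j = 0 ∨ i = j ∨ img rwE7 [i, j] = img rwE7 [j, i, j, i] := by
  (refine of_decide_eq_true ?_; (try (rewrite [Cfsg.Agent.LsF.fa110d9_51.2, Cfsg.Agent.LsF.fa110d9_35.2, Cfsg.Agent.LsF.instIDecEq_eq, Cfsg.Agent.LsF.dOr_eq, Cfsg.Agent.LsF.dFinEq_eq, Cfsg.Agent.LsF.dListEq_eq, Cfsg.Agent.LsF.dForallFin_eq, Cfsg.Agent.LsF.decide_eq])); decide +kernel)

theorem chkE73 : Chk hpE7 rwE7 3 4 gsE73 where
  rows := rowsE7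
  cop := cop_of Nat.prime_three (by decide) entE7
  con := conE7
  faith := faith_of hpE7 _ rowsE7 faithE73
  rel := ⟨_, relE73⟩
  orb := ⟨_, rfl, nodupE73, lenE73⟩
  gen := ⟨[0, 2], by unfold gsE73; simp, 0, 2, 3, by decide +kernel, by decide +kernel, genE73⟩

private noncomputable def _root_.Cfsg.Agent.LsF.fa110d9_55 : {f // @Cfsg.Agent.H629.ExcTab.rE7c45 = f} := ⟨_, by first | (delta Cfsg.Agent.H629.ExcTab.rE7c45; rewrite [Cfsg.Agent.LsF.vecCons_eq]; exact rfl) | exact rfl⟩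
private noncomputable def _root_.Cfsg.Agent.LsF.fa110d9_56 : {f // @Cfsg.Agent.H629.ExcTab.rE7c02 = f} := ⟨_, by first | (delta Cfsg.Agent.H629.ExcTab.rE7c02; rewrite [Cfsg.Agent.LsF.vecCons_eq]; exact rfl) | exact rfl⟩
theorem goodE73 (d : ℕ) (e : ℤ) : HGood.{u} hpE7 3 d e gsE73 := by
  intro k _ _ hN τ Q Γ H g hg
  have h02 : Good CoxeterMatrix.E₇.toCoxeterSystem hN τ Γ 3 (CoxeterMatrix.E₇.toCoxeterSystem.wordProd [0, 2]) := by
    rw [← cw_ch]
    exact good_one H tabE7c02 (m := 3) (isCoprime_of (-2) (by decide +kernel) (by decide))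
  have h45 : Good CoxeterMatrix.E₇.toCoxeterSystem hN τ Γ 3 (CoxeterMatrix.E₇.toCoxeterSystem.wordProd [4, 5]) := by
    rw [← cw_ch]
    exact good_one H tabE7c45 (m := 3) (isCoprime_of (-1) (by decide +kernel) (by decide))
  have h0245 : Good CoxeterMatrix.E₇.toCoxeterSystem hN τ Γ 3 (CoxeterMatrix.E₇.toCoxeterSystem.wordProd [0, 2, 4, 5]) := by
    have e1 : ([0, 2, 4, 5] : List (Fin 7)) = [0, 2] ++ [4, 5] := rfl
    rw [e1, wordProd_append, ← cw_ch _ [0, 2], ← cw_ch _ [4, 5]]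
    exact good_two H tabE7c02 (m := 3) (isCoprime_of (-2) (by decide +kernel) (by decide)) tabE7c45 (m' := 3)
      (isCoprime_of (-1) (by decide +kernel) (by decide)) (by (refine of_decide_eq_true ?_; (try (delta Cfsg.Agent.H629.ExcGood.CommTab Cfsg.Agent.H629.ExcGood.decCommTab; rewrite [Cfsg.Agent.LsF.fa110d9_55.2, Cfsg.Agent.LsF.fa110d9_56.2, Cfsg.Agent.LsF.fa110d9_14.2, Cfsg.Agent.LsF.fa110d9_18.2, Cfsg.Agent.LsF.instDecEq_eq, Cfsg.Agent.LsF.dAnd_eq, Cfsg.Agent.LsF.dNot_eq, Cfsg.Agent.LsF.dFinEq_eq, Cfsg.Agent.LsF.dForallFin_eq, Cfsg.Agent.LsF.decide_eq])); decide +kernel))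
  simp only [gsE73, List.mem_cons, List.not_mem_nil, or_false] at hg
  rcases hg with rfl | rfl | rfl | rfl
  · exact good_word H invC_E7 (by decide) h0245 _
  · exact good_word H invC_E7 (by decide) h02 _
  · exact h45
  · exact h02

theorem e7_three {F : Type u} [Field F] [Fintype F] (h3 : (3 : F) ≠ 0) : Concl 3 ↥(chevE7.group F) := by
  obtain ⟨q, hq⟩ : ∃ q, Fintype.card F = q := ⟨_, rfl⟩
  have hpq : ¬ 3 ∣ q := not_dvd_card Nat.prime_three hq (by exact_mod_cast h3)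
  have hq0 : 0 < q := by rw [← hq]; exact Fintype.card_pos
  obtain ⟨e, he, hdvd⟩ := sign_three hpq
  have : Fact (Nat.Prime 3) := ⟨Nat.prime_three⟩
  refine row_untw hpE7 hq invC_E7 (by decide) he w0E7_img (by decide) hpq hdvd (Or.inl (by decide)) chkE73 (K := 1)
    (δ := 0) rfl
    (fun k _ a => ker_chi invR_E7 (Nat.Coprime.pow_right a (by decide))) ?_ (goodE73 2 e) ?_
  · intro a u ha hu hnu
    have hc := S1064.result hq
    refine card_data Nat.prime_three (by decide) ha hu hnu [(0, 2), (1, 2), (0, 8), (0, 10), (1, 4), (0, 14), (2, 2)] (by decide)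
      (g := (Nat.gcd 2 (q - 1))) (q := q) (e := 63) (not_dvd_gcd_two (by decide)) hpq ?_
    rw [hc]
    simp only [List.map_cons, List.map_nil, List.prod_cons, List.prod_nil]
    norm_num only
    rw [natAbs_even he hq0 (by decide), natAbs_even he hq0 (by decide), natAbs_even he hq0 (by decide), natAbs_even he hq0 (by decide), natAbs_even he hq0 (by decide), natAbs_even he hq0 (by decide), natAbs_even he hq0 (by decide)]
    ring
  · intro k _ _ hN τ Q Γ H i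
    exact hrefl_neg H invC_E7 two_ne_zero rowsE7 conE7 adjE7 oddE7 (neg_of_img hpE7 _ rowsE7 w0E7_img) i

theorem chkE75 : Chk hpE7 rwE7 5 1 gsE75 where
  rows := rowsE7
  cop := cop_of Nat.prime_five (by decide) entE7
  con := conE7
  faith := faith_of hpE7 _ rowsE7 faithE75
  rel := ⟨_, relE75⟩
  orb := ⟨_, rfl, nodupE75, lenE75⟩
  gen := ⟨[0, 2, 3, 1], by unfold gsE75; simp, 0, 2, 3, by decide +kernel, by decide +kernel, genE75⟩

theorem goodE75 (d : ℕ) (e : ℤ) : HGood.{u} hpE7 5 d e gsE75 := by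
  intro k _ _ hN τ Q Γ H g hg
  have h4 : Good CoxeterMatrix.E₇.toCoxeterSystem hN τ Γ 5 (CoxeterMatrix.E₇.toCoxeterSystem.wordProd [0, 2, 3, 1]) := by
    rw [← cw_ch]
    exact good_one H tabE7c0231 (m := 4) (isCoprime_of (-3) (by decide +kernel) (by decide))
  simp only [gsE75, List.mem_cons, List.not_mem_nil, or_false] at hg
  subst hg
  exact h4

theorem e7_five {F : Type u} [Field F] [Fintype F] {q : ℕ} (hq : Fintype.card F = q) (h : 5 ∣ q ^ 2 - 1) : Concl 5 ↥(chevE7.group F) := by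
  have hq0 : 0 < q := by rw [← hq]; exact Fintype.card_pos
  obtain ⟨e, he, hdvd, hpq⟩ := sign_of_sq Nat.prime_five hq0 h
  have : Fact (Nat.Prime 5) := ⟨Nat.prime_five⟩
  refine row_untw hpE7 hq invC_E7 (by decide) he w0E7_img (by decide) hpq hdvd (Or.inl (by decide)) chkE75 (K := 1)
    (δ := 0) rfl
    (fun k _ a => ker_chi invR_E7 (Nat.Coprime.pow_right a (by decide))) ?_ (goodE75 2 e) ?_
  · intro a u ha hu hnu
    have hc := S1064.result hq
    refine card_data Nat.prime_five (by decide) ha hu hnu [(0, 2), (0, 6), (0, 8), (1, 2), (0, 12), (0, 14), (0, 18)] (by decide)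
      (g := (Nat.gcd 2 (q - 1))) (q := q) (e := 63) (not_dvd_gcd_two (by decide)) hpq ?_
    rw [hc]
    simp only [List.map_cons, List.map_nil, List.prod_cons, List.prod_nil]
    norm_num only
    rw [natAbs_even he hq0 (by decide), natAbs_even he hq0 (by decide), natAbs_even he hq0 (by decide), natAbs_even he hq0 (by decide), natAbs_even he hq0 (by decide), natAbs_even he hq0 (by decide), natAbs_even he hq0 (by decide)]
    ring
  · intro k _ _ hN τ Q Γ H i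
    exact hrefl_neg H invC_E7 two_ne_zero rowsE7 conE7 adjE7 oddE7 (neg_of_img hpE7 _ rowsE7 w0E7_img) i

theorem chkE77 : Chk hpE7 rwE7 7 1 gsE77 where
  rows := rowsE7
  cop := cop_of (by norm_num : Nat.Prime 7) (by decide) entE7
  con := conE7
  faith := faith_of hpE7 _ rowsE7 faithE77
  rel := ⟨_, relE77⟩
  orb := ⟨_, rfl, nodupE77, lenE77⟩
  gen := ⟨[0, 2, 3, 4, 5, 6], by unfold gsE77; simp, 0, 2, 3, by decide +kernel, by decide +kernel, genE77⟩

theorem goodE77 (d : ℕ) (e : ℤ) : HGood.{u} hpE7 7 d e gsE77 := by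
  intro k _ _ hN τ Q Γ H g hg
  have h6 : Good CoxeterMatrix.E₇.toCoxeterSystem hN τ Γ 7 (CoxeterMatrix.E₇.toCoxeterSystem.wordProd [0, 2, 3, 4, 5, 6]) := by
    rw [← cw_ch]
    exact good_one H tabE7c023456 (m := 1) (isCoprime_of (-3) (by decide +kernel) (by decide))
  simp only [gsE77, List.mem_cons, List.not_mem_nil, or_false] at hg
  subst hg
  exact h6

theorem e7_seven {F : Type u} [Field F] [Fintype F] {q : ℕ} (hq : Fintype.card F = q) (h : 7 ∣ q ^ 2 - 1) : Concl 7 ↥(chevE7.group F) := by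
  have hq0 : 0 < q := by rw [← hq]; exact Fintype.card_pos
  obtain ⟨e, he, hdvd, hpq⟩ := sign_of_sq (by norm_num : Nat.Prime 7) hq0 h
  have : Fact (Nat.Prime 7) := ⟨(by norm_num : Nat.Prime 7)⟩
  refine row_untw hpE7 hq invC_E7 (by decide) he w0E7_img (by decide) hpq hdvd (Or.inl (by decide)) chkE77 (K := 1)
    (δ := 0) rfl
    (fun k _ a => ker_chi invR_E7 (Nat.Coprime.pow_right a (by decide))) ?_ (goodE77 2 e) ?_
  · intro a u ha hu hnu
    have hc := S1064.result hq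
    refine card_data (by norm_num : Nat.Prime 7) (by decide) ha hu hnu [(0, 2), (0, 6), (0, 8), (0, 10), (0, 12), (1, 2), (0, 18)] (by decide)
      (g := (Nat.gcd 2 (q - 1))) (q := q) (e := 63) (not_dvd_gcd_two (by decide)) hpq ?_
    rw [hc]
    simp only [List.map_cons, List.map_nil, List.prod_cons, List.prod_nil]
    norm_num only
    rw [natAbs_even he hq0 (by decide), natAbs_even he hq0 (by decide), natAbs_even he hq0 (by decide), natAbs_even he hq0 (by decide), natAbs_even he hq0 (by decide), natAbs_even he hq0 (by decide), natAbs_even he hq0 (by decide)]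
    ring
  · intro k _ _ hN τ Q Γ H i
    exact hrefl_neg H invC_E7 two_ne_zero rowsE7 conE7 adjE7 oddE7 (neg_of_img hpE7 _ rowsE7 w0E7_img) i

/-! ### type E8 -/

theorem invR_E8 : ∀ i m, ∑ j, cartanOf chevE8 8 i j * (![![4, 5, 7, 10, 8, 6, 4, 2], ![5, 8, 10, 15, 12, 9, 6, 3],
    ![7, 10, 14, 20, 16, 12, 8, 4], ![10, 15, 20, 30, 24, 18, 12, 6], ![8, 12, 16, 24, 20, 15, 10, 5],
    ![6, 9, 12, 18, 15, 12, 8, 4], ![4, 6, 8, 12, 10, 8, 6, 3], ![2, 3, 4, 6, 5, 4, 3, 2]] :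
    Fin 8 → Fin 8 → ℤ) j m = if i = m then ((1 : ℕ) : ℤ) else 0 := by (delta Cfsg.Agent.ChevalleyStructure.CoxeterGeomTypes.cartanOf; rewrite [H90F.si_fun, H90F.ca_fun]; decide +kernel)

theorem chkE83 : Chk hpE8 rwE8 3 5 gsE83 where
  rows := rowsE8
  cop := cop_of Nat.prime_three (by decide) entE8
  con := conE8
  faith := faith_of hpE8 _ rowsE8 faithE83
  rel := ⟨_, relE83⟩
  orb := ⟨_, rfl, nodupE83, lenE83⟩
  gen := ⟨[0, 2], by unfold gsE83; simp, 0, 2, 3, by decide +kernel, by decide +kernel, genE83⟩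

theorem goodE83 (d : ℕ) (e : ℤ) : HGood.{u} hpE8 3 d e gsE83 := by
  intro k _ _ hN τ Q Γ H g hg
  have h02 : Good CoxeterMatrix.E₈.toCoxeterSystem hN τ Γ 3 (CoxeterMatrix.E₈.toCoxeterSystem.wordProd [0, 2]) := by
    rw [← cw_ch]
    exact good_one H tabE8c02 (m := 3) (isCoprime_of (-2) (by decide +kernel) (by decide))
  have h45 : Good CoxeterMatrix.E₈.toCoxeterSystem hN τ Γ 3 (CoxeterMatrix.E₈.toCoxeterSystem.wordProd [4, 5]) := by
    rw [← cw_ch]
    exact good_one H tabE8c45 (m := 3) (isCoprime_of (-1) (by decide +kernel) (by decide))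
  have h0245 : Good CoxeterMatrix.E₈.toCoxeterSystem hN τ Γ 3 (CoxeterMatrix.E₈.toCoxeterSystem.wordProd [0, 2, 4, 5]) := by
    have e1 : ([0, 2, 4, 5] : List (Fin 8)) = [0, 2] ++ [4, 5] := rfl
    rw [e1, wordProd_append, ← cw_ch _ [0, 2], ← cw_ch _ [4, 5]]
    exact good_two H tabE8c02 (m := 3) (isCoprime_of (-2) (by decide +kernel) (by decide)) tabE8c45 (m' := 3)
      (isCoprime_of (-1) (by decide +kernel) (by decide)) (by (delta Cfsg.Agent.H629.ExcGood.CommTab; rewrite [H90F.ct_fun, H90F.ng_fun]; decide +kernel))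
  simp only [gsE83, List.mem_cons, List.not_mem_nil, or_false] at hg
  rcases hg with rfl | rfl | rfl | rfl | rfl
  · exact good_word H invC_E8 (by decide) h0245 _
  · exact good_word H invC_E8 (by decide) h02 _
  · exact h45
  · exact h02
  · exact good_word H invC_E8 (by decide) h02 _

theorem e8_three {F : Type u} [Field F] [Fintype F] (h3 : (3 : F) ≠ 0) : Concl 3 ↥(chevE8.group F) := by
  obtain ⟨q, hq⟩ : ∃ q, Fintype.card F = q := ⟨_, rfl⟩
  have hpq : ¬ 3 ∣ q := not_dvd_card Nat.prime_three hq (by exact_mod_cast h3)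
  have hq0 : 0 < q := by rw [← hq]; exact Fintype.card_pos
  obtain ⟨e, he, hdvd⟩ := sign_three hpq
  have : Fact (Nat.Prime 3) := ⟨Nat.prime_three⟩
  refine row_untw hpE8 hq invC_E8 (by decide) he w0E8_img (by decide) hpq hdvd (Or.inl (by decide)) chkE83 (K := 1)
    (δ := 0) rfl
    (fun k _ a => ker_chi invR_E8 (Nat.coprime_one_left _)) ?_ (goodE83 1 e) ?_
  · intro a u ha hu hnu
    have hc := S1065.result hq
    refine card_data Nat.prime_three (by decide) ha hu hnu [(0, 2), (0, 8), (1, 4), (0, 14), (2, 2), (0, 20), (1, 8), (1, 10)] (by decide)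
      (g := 1) (q := q) (e := 120) (by decide) hpq ?_
    rw [one_mul, hc]
    simp only [List.map_cons, List.map_nil, List.prod_cons, List.prod_nil]
    norm_num only
    rw [natAbs_even he hq0 (by decide), natAbs_even he hq0 (by decide), natAbs_even he hq0 (by decide), natAbs_even he hq0 (by decide), natAbs_even he hq0 (by decide), natAbs_even he hq0 (by decide), natAbs_even he hq0 (by decide), natAbs_even he hq0 (by decide)]
    ring
  · intro k _ _ hN τ Q Γ H i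
    exact hrefl_odd H invC_E8 one_ne_zero odd_one i

theorem chkE85 : Chk hpE8 rwE8 5 2 gsE85 where
  rows := rowsE8
  cop := cop_of Nat.prime_five (by decide) entE8
  con := conE8
  faith := faith_of hpE8 _ rowsE8 faithE85
  rel := ⟨_, relE85⟩
  orb := ⟨_, rfl, nodupE85, lenE85⟩
  gen := ⟨[0, 2, 3, 1], by unfold gsE85; simp, 0, 2, 3, by decide +kernel, by decide +kernel, genE85⟩

theorem goodE85 (d : ℕ) (e : ℤ) : HGood.{u} hpE8 5 d e gsE85 := by
  intro k _ _ hN τ Q Γ H g hg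
  have h4 : Good CoxeterMatrix.E₈.toCoxeterSystem hN τ Γ 5 (CoxeterMatrix.E₈.toCoxeterSystem.wordProd [0, 2, 3, 1]) := by
    rw [← cw_ch]
    exact good_one H tabE8c0231 (m := 4) (isCoprime_of (-3) (by decide +kernel) (by decide))
  simp only [gsE85, List.mem_cons, List.not_mem_nil, or_false] at hg
  rcases hg with rfl | rfl
  · exact good_word H invC_E8 (by decide) h4 _
  · exact h4

theorem e8_five {F : Type u} [Field F] [Fintype F] {q : ℕ} (hq : Fintype.card F = q) (h : 5 ∣ q ^ 2 - 1) : Concl 5 ↥(chevE8.group F) := by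
  have hq0 : 0 < q := by rw [← hq]; exact Fintype.card_pos
  obtain ⟨e, he, hdvd, hpq⟩ := sign_of_sq Nat.prime_five hq0 h
  have : Fact (Nat.Prime 5) := ⟨Nat.prime_five⟩
  refine row_untw hpE8 hq invC_E8 (by decide) he w0E8_img (by decide) hpq hdvd (Or.inl (by decide)) chkE85 (K := 1)
    (δ := 0) rfl
    (fun k _ a => ker_chi invR_E8 (Nat.coprime_one_left _)) ?_ (goodE85 1 e) ?_
  · intro a u ha hu hnu
    have hc := S1065.result hq
    refine card_data Nat.prime_five (by decide) ha hu hnu [(0, 2), (0, 8), (0, 12), (0, 14), (0, 18), (1, 4), (0, 24), (1, 6)] (by decide)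
      (g := 1) (q := q) (e := 120) (by decide) hpq ?_
    rw [one_mul, hc]
    simp only [List.map_cons, List.map_nil, List.prod_cons, List.prod_nil]
    norm_num only
    rw [natAbs_even he hq0 (by decide), natAbs_even he hq0 (by decide), natAbs_even he hq0 (by decide), natAbs_even he hq0 (by decide), natAbs_even he hq0 (by decide), natAbs_even he hq0 (by decide), natAbs_even he hq0 (by decide), natAbs_even he hq0 (by decide)]
    ring
  · intro k _ _ hN τ Q Γ H i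
    exact hrefl_odd H invC_E8 one_ne_zero odd_one i

theorem chkE87 : Chk hpE8 rwE8 7 1 gsE87 where
  rows := rowsE8
  cop := cop_of (by norm_num : Nat.Prime 7) (by decide) entE8
  con := conE8
  faith := faith_of hpE8 _ rowsE8 faithE87
  rel := ⟨_, relE87⟩
  orb := ⟨_, rfl, nodupE87, lenE87⟩
  gen := ⟨[0, 2, 3, 4, 5, 6], by unfold gsE87; simp, 0, 2, 3, by decide +kernel, by decide +kernel, genE87⟩

theorem goodE87 (d : ℕ) (e : ℤ) : HGood.{u} hpE8 7 d e gsE87 := by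
  intro k _ _ hN τ Q Γ H g hg
  have h6 : Good CoxeterMatrix.E₈.toCoxeterSystem hN τ Γ 7 (CoxeterMatrix.E₈.toCoxeterSystem.wordProd [0, 2, 3, 4, 5, 6]) := by
    rw [← cw_ch]
    exact good_one H tabE8c023456 (m := 1) (isCoprime_of (-3) (by decide +kernel) (by decide))
  simp only [gsE87, List.mem_cons, List.not_mem_nil, or_false] at hg
  subst hg
  exact h6

theorem e8_seven {F : Type u} [Field F] [Fintype F] {q : ℕ} (hq : Fintype.card F = q) (h : 7 ∣ q ^ 2 - 1) : Concl 7 ↥(chevE8.group F) := by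
  have hq0 : 0 < q := by rw [← hq]; exact Fintype.card_pos
  obtain ⟨e, he, hdvd, hpq⟩ := sign_of_sq (by norm_num : Nat.Prime 7) hq0 h
  have : Fact (Nat.Prime 7) := ⟨(by norm_num : Nat.Prime 7)⟩
  refine row_untw hpE8 hq invC_E8 (by decide) he w0E8_img (by decide) hpq hdvd (Or.inl (by decide)) chkE87 (K := 1)
    (δ := 0) rfl
    (fun k _ a => ker_chi invR_E8 (Nat.coprime_one_left _)) ?_ (goodE87 1 e) ?_
  · intro a u ha hu hnu
    have hc := S1065.result hq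
    refine card_data (by norm_num : Nat.Prime 7) (by decide) ha hu hnu [(0, 2), (0, 8), (0, 12), (1, 2), (0, 18), (0, 20), (0, 24), (0, 30)] (by decide)
      (g := 1) (q := q) (e := 120) (by decide) hpq ?_
    rw [one_mul, hc]
    simp only [List.map_cons, List.map_nil, List.prod_cons, List.prod_nil]
    norm_num only
    rw [natAbs_even he hq0 (by decide), natAbs_even he hq0 (by decide), natAbs_even he hq0 (by decide), natAbs_even he hq0 (by decide), natAbs_even he hq0 (by decide), natAbs_even he hq0 (by decide), natAbs_even he hq0 (by decide), natAbs_even he hq0 (by decide)]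
    ring
  · intro k _ _ hN τ Q Γ H i
    exact hrefl_odd H invC_E8 one_ne_zero odd_one i

end Cfsg.Agent.H629.ExcRows
end

-- part: H629/ExcTw
section
/-!
# Strongly closed subgroups of `²E₆(q)`, `q ≡ -1` modulo `p` (helper629)
-/

set_option autoImplicit false
set_option linter.unusedSectionVars false

namespace Cfsg.Agent.H629.ExcTw

open CoxeterSystem Cfsg Cfsg.Lie Cfsg.Lie.ChevalleyDatum
open Cfsg.Agent.ChevalleyStructure Cfsg.Agent.ChevalleyStructure.Elts Cfsg.Agent.ChevalleyStructure.CoxeterGeom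
  Cfsg.Agent.ChevalleyStructure.CoxeterGeomTypes Cfsg.Agent.ChevalleyStructure.NPerm
open Cfsg.Agent.Tits.Roots Cfsg.Agent.Tits.Core Cfsg.Agent.Nodes Cfsg.Agent.Nodes.Reps Cfsg.Agent.Nodes.BNOf
  Cfsg.Agent.Nodes.RGDChev Cfsg.Agent.Nodes.Bruhat Cfsg.Agent.Nodes.SubComb Cfsg.Agent.Nodes.Coroot
open Cfsg.Agent.KFacts.RgdField Cfsg.Agent.KFacts.RgdChevCoord Cfsg.Agent.BpExc.TorCent Cfsg.Agent.BpExc.TorChev
open Cfsg.Agent.GpExc.Field Cfsg.Agent.BpExc.Tow Cfsg.Agent.BpExc.TowChev Cfsg.Agent.BpExc.Fr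
  Cfsg.Agent.BpExc.LangFr Cfsg.Agent.LangThm Cfsg.Agent.BpExc Cfsg.Agent.H129.TorusChar
open Cfsg.Agent.H629.ExcTor Cfsg.Agent.H629.ExcLevi Cfsg.Agent.H629.ExcMain Cfsg.Agent.H629.ExcWeyl
  Cfsg.Agent.H629.ExcTab Cfsg.Agent.H629.ExcGood Cfsg.Agent.H629.ExcCtx Cfsg.Agent.H629.ExcOrd
  Cfsg.Agent.H629.ExcChk Cfsg.Agent.H629.ExcRow Cfsg.Agent.H629.ExcData Cfsg.Agent.H629.ExcRows
open Cfsg.Agent.ChevalleyStructure.CoxeterElement (dot unitL length_unitL vec_unitL)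
open Cfsg.Agent.H720.TwFr

universe u

theorem permE_sr (i : Fin 6) : permE rho6 (sr i) = sr ((![5, 1, 4, 3, 2, 0] : Fin 6 → Fin 6) i) := by
  funext j
  show (sr i : Fin 6 → ℤ) (rho6.symm j) = _
  revert i j
  unfold sr
  decide +kernel

/-- the data of the closure -/
theorem exists_closure_q {K : Type u} [Field K] [Fintype K] {q d : ℕ} (hq : IsPrimePow q) (hK : Fintype.card K = q ^ d) :
    ∃ (r n : ℕ) (_ : Fact r.Prime) (_ : CharP K r) (_ : CharP (AlgebraicClosure K) r), 0 < n ∧ q = r ^ n ∧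
      LocFin (AlgebraicClosure K) := by
  obtain ⟨r, e, hr, hrF, hrk, he, hq', hk⟩ := H129.TorusUntw.exists_closure (F := K) rfl
  obtain ⟨s, n, hs, hn, hsq⟩ := (isPrimePow_nat_iff _).1 hq
  have h1 : r ∣ s := by
    have h2 : r ∣ q ^ d := by
      rw [← hK, hq']
      exact dvd_pow_self r he.ne'
    rw [← hsq, ← pow_mul] at h2
    exact (Fact.out : r.Prime).dvd_of_dvd_pow h2
  have h2 : r = s := (Nat.prime_dvd_prime_iff_eq Fact.out hs).1 h1
  exact ⟨r, n, hr, hrF, hrk, hn, by rw [h2, hsq], hk⟩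

theorem odd_gcd (q : ℕ) : Odd (Nat.gcd 3 (q + 1)) := by
  rcases (Nat.dvd_prime Nat.prime_three).1 (Nat.gcd_dvd_left 3 (q + 1)) with h | h
  · rw [h]; exact odd_one
  · rw [h]; decide

theorem row_six {K : Type u} [Field K] [Fintype K] {q : ℕ} (hq : IsPrimePow q) (hK : Fintype.card K = q ^ 2)
    {p ν : ℕ} [hpp : Fact p.Prime] (hp2 : p ≠ 2) (hdvd : p ∣ q + 1)
    (hcopd : ¬ p ∣ Nat.gcd 3 (q + 1) ∨ (p = 3 ∧ Nat.gcd 3 (q + 1) = 3)) {gs : List (List (Fin 6))}
    (C : Chk hp6 rwE6 p ν gs) {K' δ : ℕ} (hK' : K' = p ^ δ)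
    (hker : ∀ (k : Type u) [Field k] (a : ℕ),
      Nat.card {c : Fin 6 → kˣ // (∀ i, c i ^ (p ^ a) = 1) ∧ chi chevE6 6 k c = 1} ≤ K')
    (hord : ∀ (a : ℕ) (u : ℤ), 0 < a → -1 * (q : ℤ) - 1 = (p : ℤ) ^ a * u → ¬ (p : ℤ) ∣ u →
      ∃ m : ℕ, K' * Nat.card ↥(twistedE6 K q) = (p ^ a) ^ 6 * p ^ ν * m ∧ ¬ p ∣ m)
    (hgood : HGood.{u} hp6 p (Nat.gcd 3 (q + 1)) (-1) gs) : Concl p ↥(twistedE6 K q) := by
  obtain ⟨r, n, hrp, hrF, hrk, hn0, hqn, hk⟩ := exists_closure_q hq hK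
  have hpr : p ≠ r := by
    rintro rfl
    have h1 : p ∣ q := by rw [hqn]; exact dvd_pow_self _ hn0.ne'
    exact hpp.out.one_lt.ne' (Nat.dvd_one.1 ((Nat.dvd_add_right h1).1 hdvd))
  have S := src_six (algebraMap K (AlgebraicClosure K)) hk hn0 hqn hK
  have hG : Finite ↥(twistedE6 K q) := inferInstance
  refine row S hk invC_E6 three_ne_zero (Or.inr rfl) (w0 := w0E6) (fun x => ?_) hp2 hpr ?_
    hcopd C ?_ (hgood (AlgebraicClosure K)) ?_
  · exact rep_eq_smul hp6 CoxeterMatrix.E₆.toCoxeterSystem C.rows _ permE_sr w0E6_img x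
  · have h4 : (p : ℤ) ∣ ((q + 1 : ℕ) : ℤ) := Int.natCast_dvd_natCast.2 hdvd
    have e : -1 * ((r ^ n : ℕ) : ℤ) - 1 = -((q + 1 : ℕ) : ℤ) := by rw [← hqn]; push_cast; ring
    rw [e]
    exact (dvd_neg).2 h4
  · intro a u ha hu hnu
    obtain ⟨m, hm, hm'⟩ := hord a u ha (by rw [hqn]; exact hu) hnu
    exact ⟨K', m, ⟨δ, hK'⟩, hker (AlgebraicClosure K) a, hm, hm'⟩
  · intro hN τ Q Γ H i
    exact hrefl_odd H invC_E6 three_ne_zero (odd_gcd q) i

theorem tw_three {K : Type u} [Field K] [Fintype K] {q : ℕ} (hq : IsPrimePow q) (hK : Fintype.card K = q ^ 2)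
    (h : 3 ∣ q + 1) : Concl 3 ↥(twistedE6 K q) := by
  have : Fact (Nat.Prime 3) := ⟨Nat.prime_three⟩
  have hg : Nat.gcd 3 (q + 1) = 3 := Nat.gcd_eq_left h
  have hq0 : 0 < q := hq.pos
  refine row_six hq hK (by decide) h (Or.inr ⟨rfl, hg⟩) chkE63 (K' := 3) (δ := 1) rfl (fun k _ a => ker_chi_six) ?_
    (goodE63 _ (-1))
  intro a u ha hu hnu
  have hc := S1066.result hq hK
  rw [hg] at hc
  refine card_data_three Nat.prime_three (by decide) ha hu hnu [(0, 2), (0, 5), (1, 2), (0, 8), (2, 1), (1, 4)]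
    (by decide) (q := q) (e := 36) (by omega) ?_
  rw [hc]
  simp only [List.map_cons, List.map_nil, List.prod_cons, List.prod_nil]
  norm_num only
  rw [natAbs_even (Or.inr rfl) hq0 (by decide), natAbs_odd (by decide), natAbs_even (Or.inr rfl) hq0 (by decide),
    natAbs_even (Or.inr rfl) hq0 (by decide), natAbs_odd (by decide), natAbs_even (Or.inr rfl) hq0 (by decide)]
  ring

theorem tw_five {K : Type u} [Field K] [Fintype K] {q : ℕ} (hq : IsPrimePow q) (hK : Fintype.card K = q ^ 2)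
    (h : 5 ∣ q + 1) : Concl 5 ↥(twistedE6 K q) := by
  have : Fact (Nat.Prime 5) := ⟨Nat.prime_five⟩
  have hq0 : 0 < q := hq.pos
  refine row_six hq hK (by decide) h (Or.inl (not_dvd_gcd_three (by decide))) chkE65 (K' := 1) (δ := 0) rfl
    (fun k _ a => ker_chi invR_E6 (Nat.Coprime.pow_right a (by decide))) ?_ (goodE65 _ (-1))
  intro a u ha hu hnu
  have hc := S1066.result hq hK
  refine card_data Nat.prime_five (by decide) ha hu hnu [(0, 2), (1, 1), (0, 6), (0, 8), (0, 9), (0, 12)] (by decide)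
    (g := Nat.gcd 3 (q + 1)) (q := q) (e := 36) (not_dvd_gcd_three (by decide)) (by omega) ?_
  rw [hc]
  simp only [List.map_cons, List.map_nil, List.prod_cons, List.prod_nil]
  norm_num only
  rw [natAbs_even (Or.inr rfl) hq0 (by decide), natAbs_odd (by decide), natAbs_even (Or.inr rfl) hq0 (by decide),
    natAbs_even (Or.inr rfl) hq0 (by decide), natAbs_odd (by decide), natAbs_even (Or.inr rfl) hq0 (by decide)]
  ring

end Cfsg.Agent.H629.ExcTw
end

-- part: H629/ExcFour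
section
/-!
# `p = 3`: `E₆(q)`, `q ≡ 2 mod 3` and `²E₆(q)`, `q ≡ 1 mod 3` through `F₄(q)` (helper629)
-/

set_option autoImplicit false

namespace Cfsg.Agent.H629.ExcFour

open Cfsg Cfsg.Lie Cfsg.Agent.ChevalleyStructure Cfsg.Agent.ChevalleyStructure.Elts
open Cfsg.Agent.GpExc.Field Cfsg.Agent.H629.ExcFourRel
open Cfsg.Agent.H91.E6F4Rel (hF4 hE6)
open Cfsg.Agent.H629.ExcRow Cfsg.Agent.H749

universe u v w

/-! ### Nonabelian `p`-subgroups -/

/-- some `p`-subgroup is nonabelian -/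
def NonAb (p : ℕ) (G : Type v) [Group G] : Prop :=
  ∃ T : Subgroup G, IsPGroup p T ∧ ∃ x : G, (∃ m : ℕ, x ^ p ^ m = 1) ∧
      (∀ t ∈ T, x * t * x⁻¹ ∈ T) ∧ ∃ t ∈ T, x * t ≠ t * x

theorem nonAb_of_pgroup {p : ℕ} {G : Type v} [Group G] (P : Subgroup G) (hP : IsPGroup p P) {a b : G} (ha : a ∈ P)
    (hb : b ∈ P) (h : a * b ≠ b * a) : NonAb p G := by
  obtain ⟨m, hm⟩ := hP ⟨a, ha⟩
  exact ⟨P, hP, a, ⟨m, congrArg Subtype.val hm⟩, fun t ht => P.mul_mem (P.mul_mem ha ht) (P.inv_mem ha), b, hb, h⟩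

/-- `p`-subgroups generated by a normalised subgroup and an element -/
theorem exists_pgroup {p : ℕ} [Fact p.Prime] {G : Type v} [Group G] [Finite G] (h : NonAb p G) :
    ∃ P : Subgroup G, IsPGroup p P ∧ ∃ a ∈ P, ∃ b ∈ P, a * b ≠ b * a := by
  obtain ⟨T, hT, x, hxp, hx, t, ht, hxt⟩ := h
  have hxp : IsPGroup p (Subgroup.zpowers x) := isPGroup_zpowers hxp
  have hn : Subgroup.zpowers x ≤ Subgroup.normalizer (T : Set G) := by
    rw [Subgroup.zpowers_le]
    exact Transfer.FusionBasic.mem_normalizer_of_conj_mem hx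
  refine ⟨Subgroup.zpowers x ⊔ T, hxp.to_sup_of_normal_right' hT hn, x,
    Subgroup.mem_sup_left (Subgroup.mem_zpowers x), t, Subgroup.mem_sup_right ht, hxt⟩

/-- nonabelian Sylow subgroups -/
theorem exists_sylow {p : ℕ} [Fact p.Prime] {G : Type v} [Group G] [Finite G] (h : NonAb p G) (S : Sylow p G) :
    ∃ a ∈ (S : Subgroup G), ∃ b ∈ (S : Subgroup G), a * b ≠ b * a := by
  obtain ⟨P, hP, a, ha, b, hb, hab⟩ := exists_pgroup h
  obtain ⟨g, hg⟩ := ClosedTwo.Elem.exists_conj_le S hP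
  refine ⟨_, hg a ha, _, hg b hb, fun h1 => hab ?_⟩
  have h2 : g * (a * b) * g⁻¹ = g * (b * a) * g⁻¹ := by
    have e1 : g * (a * b) * g⁻¹ = g * a * g⁻¹ * (g * b * g⁻¹) := by group
    have e2 : g * (b * a) * g⁻¹ = g * b * g⁻¹ * (g * a * g⁻¹) := by group
    rw [e1, e2, h1]
  exact mul_left_cancel (mul_right_cancel h2)

theorem nonAb_of_injective {p : ℕ} {G : Type v} [Group G] {H : Type w} [Group H] (f : H →* G)
    (hf : Function.Injective f) (h : NonAb p H) : NonAb p G := by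
  obtain ⟨T, hT, x, ⟨m, hm⟩, hx, t, ht, hxt⟩ := h
  refine ⟨T.map f, hT.map f, f x, ⟨m, by rw [← map_pow, hm, map_one]⟩, ?_, f t, ⟨t, ht, rfl⟩, fun h => hxt ?_⟩
  · rintro _ ⟨s, hs, rfl⟩
    exact ⟨_, hx s hs, by rw [map_mul, map_mul, map_inv]⟩
  · rw [← map_mul, ← map_mul] at h
    exact hf h

theorem nonAb_of_surjective {p : ℕ} [Fact p.Prime] {G : Type v} [Group G] [Finite G] {H : Type w} [Group H] [Finite H]
    (f : H →* G) (hf : Function.Surjective f) (h : NonAb p G) : NonAb p H := by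
  obtain ⟨S⟩ : Nonempty (Sylow p H) := inferInstance
  obtain ⟨a, ha, b, hb, hab⟩ := exists_sylow h (S.mapSurjective hf)
  rw [Sylow.coe_mapSurjective] at ha hb
  obtain ⟨a', ha', rfl⟩ := ha
  obtain ⟨b', hb', rfl⟩ := hb
  exact nonAb_of_pgroup (S : Subgroup H) S.2 ha' hb' fun h1 => hab (by rw [← map_mul, h1, map_mul])

/-! ### The graph of the isomorphism -/

section Graph

variable {F : Type u} [Field F] {K : Type v} [Field K] (ι : F →+* K)

/-- the generators -/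
def gset : Set (GL chevE6.Idx K × GL chevF4.Idx F) :=
  {x | ∃ g ∈ gens, ∃ t : F, x = (wordG hE6 (g.2.map fun r => (r, ι t)), xG hF4 g.1 t)}

/-- the graph -/
def R : Subgroup (GL chevE6.Idx K × GL chevF4.Idx F) := Subgroup.closure (gset ι)

theorem rel_R {x : GL chevE6.Idx K × GL chevF4.Idx F} (hx : x ∈ R ι) : Rel x.1 (glMap chevF4 ι x.2) := by
  have h1 : R ι ≤ (relG K).comap (MonoidHom.prodMap (MonoidHom.id _) (glMap chevF4 ι)) := by
    unfold R
    rw [Subgroup.closure_le]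
    rintro _ ⟨g, hg, t, rfl⟩
    show Rel (wordG hE6 (g.2.map fun r => (r, ι t))) (glMap chevF4 ι (xG hF4 g.1 t))
    rw [glMap_xG]
    exact rel_gen hg (ι t)
  exact h1 hx

theorem snd_mem {x : GL chevE6.Idx K × GL chevF4.Idx F} (hx : x ∈ R ι) : x.2 ∈ chevF4.group F := by
  have h1 : R ι ≤ (chevF4.group F).comap (MonoidHom.snd _ _) := by
    unfold R
    rw [Subgroup.closure_le]
    rintro _ ⟨g, hg, t, rfl⟩
    exact xG_mem_group hF4 _ _
  exact h1 hx

theorem simple_mem : ∀ i < 4, chevF4.simple i ∈ gens.map Prod.fst ∧ chevF4.neg (chevF4.simple i) ∈ gens.map Prod.fst := by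
  decide +kernel

theorem exists_snd {y : GL chevF4.Idx F} (hy : y ∈ chevF4.group F) : ∃ x ∈ R ι, x.2 = y := by
  have h1 : chevF4.group F ≤ (R ι).map (MonoidHom.snd _ _) := by
    rw [← H79.SimpleGen.closure_eq_group hF4, Subgroup.closure_le]
    have h2 : ∀ r ∈ gens.map Prod.fst, ∀ t : F, xG hF4 r t ∈ (R ι).map (MonoidHom.snd _ _) := by
      intro r hr t
      obtain ⟨g, hg, rfl⟩ := List.mem_map.1 hr
      exact ⟨_, Subgroup.subset_closure ⟨g, hg, t, rfl⟩, rfl⟩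
    rintro _ ⟨i, hi, t, rfl | rfl⟩
    · exact h2 _ (simple_mem i hi).1 t
    · exact h2 _ (simple_mem i hi).2 t
  obtain ⟨x, hx, e⟩ := h1 hy
  exact ⟨x, hx, e⟩

theorem fst_mem (X : Subgroup (GL chevE6.Idx K))
    (hX : ∀ g ∈ gens, ∀ t : F, wordG hE6 (g.2.map fun r => (r, ι t)) ∈ X)
    {x : GL chevE6.Idx K × GL chevF4.Idx F} (hx : x ∈ R ι) : x.1 ∈ X := by
  have h1 : R ι ≤ X.comap (MonoidHom.fst _ _) := by
    unfold R
    rw [Subgroup.closure_le]
    rintro _ ⟨g, hg, t, rfl⟩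
    exact hX g hg t
  exact h1 hx

theorem ext_fst {x y : GL chevE6.Idx K × GL chevF4.Idx F} (hx : x ∈ R ι) (hy : y ∈ R ι) (h : x.1 = y.1) : x = y := by
  refine Prod.ext h (glMap_injective chevF4 ι ?_)
  have h1 := rel_R ι hx
  rw [h] at h1
  exact h1.unique (rel_R ι hy)

/-- the projection to `F₄` -/
def toF : ↥(R ι) →* ↥(chevF4.group F) :=
  ((MonoidHom.snd _ _).comp (R ι).subtype).codRestrict _ fun x => snd_mem ι x.2

/-- the projection to a subgroup of `E₆` -/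
def toX (X : Subgroup (GL chevE6.Idx K))
    (hX : ∀ g ∈ gens, ∀ t : F, wordG hE6 (g.2.map fun r => (r, ι t)) ∈ X) : ↥(R ι) →* ↥X :=
  ((MonoidHom.fst _ _).comp (R ι).subtype).codRestrict _ fun x => fst_mem ι X hX x.2

theorem toF_surjective : Function.Surjective (toF ι) := by
  rintro ⟨y, hy⟩
  obtain ⟨x, hx, e⟩ := exists_snd ι hy
  exact ⟨⟨x, hx⟩, Subtype.ext e⟩

theorem toX_injective (X : Subgroup (GL chevE6.Idx K))
    (hX : ∀ g ∈ gens, ∀ t : F, wordG hE6 (g.2.map fun r => (r, ι t)) ∈ X) : Function.Injective (toX ι X hX) := by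
  intro x y h
  exact Subtype.ext (ext_fst ι x.2 y.2 (congrArg Subtype.val h))

variable [Finite F] [Finite K]

/-- **Transfer from `F₄` to overgroups of index prime to `p` in `E₆`.** -/
theorem transfer {p : ℕ} [Fact p.Prime] (X : Subgroup (GL chevE6.Idx K))
    (hX : ∀ g ∈ gens, ∀ t : F, wordG hE6 (g.2.map fun r => (r, ι t)) ∈ X) {m : ℕ}
    (hc : Nat.card ↥X = Nat.card ↥(chevF4.group F) * m) (hm : ¬ p ∣ m) (h : Concl p ↥(chevF4.group F)) :
    Concl p ↥X := by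
  have : Finite ↥(R ι) := Finite.of_injective _ (toX_injective ι X hX)
  have h1 : Nat.card ↥(R ι) ∣ Nat.card ↥X := Subgroup.card_dvd_of_injective _ (toX_injective ι X hX)
  have h2 : Nat.card ↥(R ι) = Nat.card ↥(chevF4.group F) * Nat.card (toF ι).ker := by
    rw [← Subgroup.card_mul_index (toF ι).ker, Subgroup.index_ker, MonoidHom.range_eq_top.2 (toF_surjective ι),
      mul_comm]
    congr 1
    exact Nat.card_congr Subgroup.topEquiv.toEquiv
  have hpos : 0 < Nat.card ↥(chevF4.group F) := Nat.card_pos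
  have h3 : Nat.card (toF ι).ker ∣ m := by
    rw [hc, h2] at h1
    exact Nat.dvd_of_mul_dvd_mul_left hpos h1
  have h4 : (toX ι X hX).range.index ∣ m := by
    have h5 := Subgroup.card_mul_index (toX ι X hX).range
    have h6 : Nat.card (toX ι X hX).range = Nat.card ↥(R ι) :=
      (Nat.card_congr (MonoidHom.ofInjective (toX_injective ι X hX)).toEquiv).symm
    rw [h6, h2, hc, mul_assoc] at h5
    exact ⟨Nat.card (toF ι).ker, by rw [← Nat.eq_of_mul_eq_mul_left hpos h5, mul_comm]⟩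
  have h7 : FullP p ↥(R ι) := H792.SpTool.fullP_of_surjective_pprime (toF ι) (toF_surjective ι)
    (fun h => hm (h.trans h3)) (Exc.fullP_of_full h.1)
  have h8 : FullP p ↥X := H792.SpTool.fullP_of_hom (toX ι X hX) (fun h => hm (h.trans h4)) h7
  exact ⟨Exc.full_of_fullP h8, nonAb_of_injective _ (toX_injective ι X hX)
    (nonAb_of_surjective _ (toF_surjective ι) h.2)⟩

end Graph

/-! ### The rows -/

theorem wordG_one {K : Type u} [Field K] (r : ℕ) (t : K) :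
    wordG hE6 ([r].map fun r => (r, t)) = xG hE6 r t := by
  rw [List.map_cons, List.map_nil, wordG_cons, wordG_nil, mul_one]

theorem wordG_two {K : Type u} [Field K] (r s : ℕ) (t : K) :
    wordG hE6 ([r, s].map fun r => (r, t)) = xG hE6 r t * xG hE6 s t := by
  rw [List.map_cons, List.map_cons, List.map_nil, wordG_cons, wordG_cons, wordG_nil, mul_one]

theorem not_dvd_of_mod {n : ℕ} (h : n % 3 ≠ 0) : ¬ 3 ∣ n := fun h1 => h (Nat.mod_eq_zero_of_dvd h1)

theorem gcd_three {n : ℕ} (h : n % 3 ≠ 0) : Nat.gcd 3 n = 1 :=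
  (Nat.Prime.coprime_iff_not_dvd Nat.prime_three).2 (not_dvd_of_mod h)

theorem pow_mod_two {q : ℕ} (h : q % 3 = 2) {k : ℕ} (hk : k % 2 = 1) : q ^ k % 3 = 2 := by
  obtain ⟨l, hl⟩ : ∃ l, k = 2 * l + 1 := ⟨k / 2, by omega⟩
  rw [hl, pow_succ, pow_mul, Nat.mul_mod, Nat.pow_mod, Nat.pow_mod q 2 3, h]
  norm_num

theorem pow_mod_one {q : ℕ} (h : q % 3 = 1) (k : ℕ) : q ^ k % 3 = 1 := by
  rw [Nat.pow_mod, h, one_pow]; rfl

theorem three_ne {F : Type u} [Field F] [Fintype F] {q : ℕ} (hq : Fintype.card F = q) (h : q % 3 ≠ 0) : (3 : F) ≠ 0 := by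
  intro h3
  obtain ⟨r, hr⟩ := CharP.exists F
  have hrp : r.Prime := CharP.char_is_prime F r
  obtain ⟨n, -, h2⟩ := FiniteField.card F r
  have h1 : r ∣ 3 := (CharP.cast_eq_zero_iff F r 3).1 (by exact_mod_cast h3)
  have h4 := (Nat.prime_dvd_prime_iff_eq hrp Nat.prime_three).1 h1
  subst h4
  refine h (Nat.mod_eq_zero_of_dvd ?_)
  rw [← hq, h2]
  exact dvd_pow_self _ n.ne_zero

theorem simp_list {P : ℕ × List ℕ → Prop} (h : P (24, [46]) ∧ P (25, [39]) ∧ P (27, [42, 37]) ∧ P (33, [56, 36]) ∧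
    P (23, [25]) ∧ P (22, [32]) ∧ P (20, [29, 34]) ∧ P (14, [15, 35])) : ∀ g ∈ gens, P g := by
  intro g hg
  simp only [gens, List.mem_cons, List.not_mem_nil, or_false] at hg
  rcases hg with rfl | rfl | rfl | rfl | rfl | rfl | rfl | rfl
  · exact h.1
  · exact h.2.1
  · exact h.2.2.1
  · exact h.2.2.2.1
  · exact h.2.2.2.2.1
  · exact h.2.2.2.2.2.1
  · exact h.2.2.2.2.2.2.1
  · exact h.2.2.2.2.2.2.2

/-- **`E₆(q)`, `q ≡ 2 mod 3`.** -/
theorem e6_three' {F : Type u} [Field F] [Fintype F] {q : ℕ} (hq : Fintype.card F = q) (h : q % 3 = 2) :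
    Concl 3 ↥(chevE6.group F) := by
  have : Fact (Nat.Prime 3) := ⟨Nat.prime_three⟩
  have hq0 : 0 < q := by rw [← hq]; exact Fintype.card_pos
  have hc := S1063.result hq
  have hc4 := S1062.result hq
  rw [gcd_three (by omega), one_mul] at hc
  refine transfer (RingHom.id F) (chevE6.group F) ?_ (m := q ^ 12 * ((q ^ 5 - 1) * (q ^ 9 - 1))) ?_ ?_
    (ExcRows.f4_three (three_ne hq (by omega)))
  · intro g _ t
    refine Subgroup.list_prod_mem _ fun x hx => ?_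
    obtain ⟨y, -, rfl⟩ := List.mem_map.1 hx
    exact xG_mem_group hE6 _ _
  · rw [hc, hc4]
    ring
  · intro h1
    have h5 := pow_mod_two h (k := 5) rfl
    have h9 := pow_mod_two h (k := 9) rfl
    rcases Nat.prime_three.dvd_mul.1 h1 with h2 | h2
    · have := Nat.prime_three.dvd_of_dvd_pow h2
      omega
    · rcases Nat.prime_three.dvd_mul.1 h2 with h3 | h3 <;> omega

/-- **`²E₆(q)`, `q ≡ 1 mod 3`.** -/
theorem tw_three' {K : Type u} [Field K] [Fintype K] {q : ℕ} (hq : IsPrimePow q) (hK : Fintype.card K = q ^ 2)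
    (h : q % 3 = 1) : Concl 3 ↥(twistedE6 K q) := by
  have : Fact (Nat.Prime 3) := ⟨Nat.prime_three⟩
  have hq0 : 0 < q := hq.pos
  have hc := S1066.result hq hK
  rw [gcd_three (by omega), one_mul] at hc
  obtain ⟨r, n, hr, hn, hrn⟩ := (isPrimePow_nat_iff _).1 hq
  have : Fact r.Prime := ⟨hr⟩
  let _ : Fintype (GaloisField r n) := Fintype.ofFinite _
  have hF : Fintype.card (GaloisField r n) = q := by
    rw [← Nat.card_eq_fintype_card, GaloisField.card r n hn.ne', hrn]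
  obtain ⟨ι⟩ := ClassicalGeometry.PSL2Basic.exists_ringHom_of_card_pow (K := GaloisField r n) (L := K) (m := 2)
    (by rw [hF, hK])
  have hc4 := S1062.result hF
  have ht : ∀ t : GaloisField r n, (ι t) ^ q = ι t := by
    intro t
    rw [← map_pow, ← hF, FiniteField.pow_card]
  refine transfer ι (twistedE6 K q) ?_ (m := q ^ 12 * ((q ^ 5 + 1) * (q ^ 9 + 1))) ?_ ?_
    (ExcRows.f4_three (three_ne hF (by omega)))
  · have h1 : ∀ a ∈ [46, 25, 39, 32], ∀ t : GaloisField r n,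
        wordG hE6 ([a].map fun b => (b, ι t)) ∈ twistedE6 K q := by
      intro a ha t
      rw [wordG_one]
      exact TwE6Basic.single_mem (ht t) ha
    have h2 : ∀ a ∈ [(56, 36), (15, 35), (42, 37), (29, 34)], ∀ t : GaloisField r n,
        wordG hE6 ([a.1, a.2].map fun b => (b, ι t)) ∈ twistedE6 K q := by
      intro a ha t
      have h3 := TwE6Basic.pair_mem (q := q) (ι t) ha
      rw [ht t] at h3
      rw [wordG_two]
      exact h3
    exact simp_list ⟨h1 46 (by decide), h1 39 (by decide), h2 (42, 37) (by decide), h2 (56, 36) (by decide),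
      h1 25 (by decide), h1 32 (by decide), h2 (29, 34) (by decide), h2 (15, 35) (by decide)⟩
  · rw [hc, hc4]
    ring
  · intro h1
    have h5 := pow_mod_one h 5
    have h9 := pow_mod_one h 9
    rcases Nat.prime_three.dvd_mul.1 h1 with h2 | h2
    · have := Nat.prime_three.dvd_of_dvd_pow h2
      omega
    · rcases Nat.prime_three.dvd_mul.1 h2 with h3 | h3 <;> omega

/-- **`E₆(q)`, `3 ∤ q`.** -/
theorem e6_all {F : Type u} [Field F] [Fintype F] (h3 : (3 : F) ≠ 0) : Concl 3 ↥(chevE6.group F) := by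
  have hpq : ¬ 3 ∣ Fintype.card F := ExcRows.not_dvd_card Nat.prime_three rfl (by exact_mod_cast h3)
  have hq0 : 0 < Fintype.card F := Fintype.card_pos
  rcases (by omega : Fintype.card F % 3 = 1 ∨ Fintype.card F % 3 = 2) with h | h
  · exact ExcRows.e6_three rfl (by omega)
  · exact e6_three' rfl h

/-- **`²E₆(q)`, `3 ∤ q`.** -/
theorem tw_all {K : Type u} [Field K] [Fintype K] {q : ℕ} (hq : IsPrimePow q) (hK : Fintype.card K = q ^ 2)
    (h3 : ¬ 3 ∣ q) : Concl 3 ↥(twistedE6 K q) := by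
  rcases (by omega : q % 3 = 1 ∨ q % 3 = 2) with h | h
  · exact tw_three' hq hK h
  · exact ExcTw.tw_three hq hK (by omega)

end Cfsg.Agent.H629.ExcFour
end

private theorem dce_ccef536f9499 : _root_.True := by
  try have : _root_.True := by simp only [_root_.Cfsg.Agent.H629.ExcTab.ch.congr_simp]
  try have : _root_.True := by simp only [_root_.Cfsg.Agent.H629.ExcData.gsE85.eq_1]
  try have : _root_.True := by simp only [_root_.Cfsg.Agent.H629.ExcData.gsE75.eq_1]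
  try have : _root_.True := by simp only [_root_.Cfsg.Agent.H629.ExcData.gsE65.eq_1]
  try have : _root_.True := by simp only [_root_.Cfsg.Agent.H629.ExcData.gsF43.eq_1]
  try have : _root_.True := by simp only [_root_.Cfsg.Agent.H629.ExcTab.ch.eq_1]
  try have : _root_.True := by simp only [_root_.Cfsg.Agent.H629.ExcData.gsE63.eq_1]
  try have : _root_.True := by simp only [_root_.Cfsg.Agent.H629.ExcChk.rv.eq_1]
  try have : _root_.True := by simp only [_root_.Cfsg.Agent.H629.ExcChk.chk1.eq_1]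
  try have : _root_.True := by simp only [_root_.Cfsg.Agent.H629.ExcData.gsE77.eq_1]
  try have : _root_.True := by simp only [_root_.Cfsg.Agent.H629.ExcData.gsE73.eq_1]
  try have : _root_.True := by simp only [_root_.Cfsg.Agent.H629.ExcChk.faithOK.eq_1]
  try have : _root_.True := by simp only [_root_.Cfsg.Agent.H629.ExcFourRel.gens.eq_1]
  try have : _root_.True := by simp only [_root_.Cfsg.Agent.H629.ExcData.gsE87.eq_1]
  try have : _root_.True := by simp only [_root_.Cfsg.Agent.H629.ExcData.gsE83.eq_1]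
  exact _root_.True.intro
end

-- part: H629/ExcFinal
section
set_option linter.all false
open scoped Cfsg.Agent.FastGrp

/-!
# The exceptional groups with nonabelian Sylow `p`-subgroups, `p` odd, cross characteristic: `FullP` (helper629)

* `fullP_of_nonab` : the groups of `H790.ExcAb.ExcNonab` (`p ≥ 5`), except `E₈(q)`, `p = 5`, `q² ≡ -1 mod 5`;
* `fullP_three` : `F₄`, `E₆`, `E₇`, `E₈`, `²E₆` for `p = 3`;
* `exc_three` : the exceptional groups for `p = 3`.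
-/

set_option autoImplicit false

namespace Cfsg.Agent.H629.ExcFinal

open Cfsg Cfsg.Lie
open Cfsg.Agent.H629.ExcRow Cfsg.Agent.H749
open Cfsg.Agent.H790.ExcAb (ExcNonab ExcChar charP_of_dvd)

theorem fullP_of_concl {p : ℕ} [Fact p.Prime] {G : Type*} [Group G] [Finite G] {X : Type*} [Group X] (h : Concl p X)
    (e : Nonempty (G ≃* X)) : FullP p G := by
  obtain ⟨e⟩ := e
  have : Finite X := Finite.of_equiv G e.toEquiv
  exact Exc.fullP_of_full (Exc.full_congr e.symm h.1)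

/-- the remaining row `E₈(q)`, `p = 5`, `q² ≡ -1 mod 5` -/
def RestFive (p : ℕ) (G : Type*) [Group G] : Prop :=
  p = 5 ∧ ∃ (F : Type) (_ : Field F) (_ : Fintype F), 5 ∣ Fintype.card F ^ 2 + 1 ∧ Nonempty (G ≃* chevE8.group F)

theorem sq_mod_five {q : ℕ} (h : ¬ 5 ∣ q) : 5 ∣ q ^ 2 - 1 ∨ 5 ∣ q ^ 2 + 1 := by
  have h1 : q % 5 = 1 ∨ q % 5 = 2 ∨ q % 5 = 3 ∨ q % 5 = 4 := by omega
  have h2 : q ^ 2 % 5 = (q % 5) ^ 2 % 5 := Nat.pow_mod q 2 5
  rcases h1 with h1 | h1 | h1 | h1 <;> rw [h1] at h2 <;> norm_num at h2 <;> omega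

/-- **`p ≥ 5`.** -/
theorem fullP_of_nonab {p : ℕ} [hp : Fact p.Prime] {G : Type*} [Group G] [Finite G] (h : ExcNonab p G) :
    FullP p G ∨ RestFive p G := by
  rcases h with ⟨F, h5, hq, e⟩ | ⟨K, q, h5, hq, hK, hq5, e⟩ | ⟨F, h57, h0, hq, e⟩ | ⟨F, h5, h0, e⟩ | ⟨F, h7, h0, hq, e⟩
  · subst h5
    have := Fintype.card_pos (α := F)
    exact Or.inl (fullP_of_concl (ExcRows.e6_five rfl (by omega)) e)
  · subst h5
    exact Or.inl (fullP_of_concl (ExcTw.tw_five hq hK (by omega)) e)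
  · rcases h57 with h5 | h7
    · subst h5
      exact Or.inl (fullP_of_concl (ExcRows.e7_five rfl hq) e)
    · subst h7
      exact Or.inl (fullP_of_concl (ExcRows.e7_seven rfl hq) e)
  · subst h5
    rcases sq_mod_five h0 with h1 | h1
    · exact Or.inl (fullP_of_concl (ExcRows.e8_five rfl h1) e)
    · exact Or.inr ⟨rfl, F, _, _, h1, e⟩
  · subst h7
    exact Or.inl (fullP_of_concl (ExcRows.e8_seven rfl hq) e)

/-- **`p ≥ 5`, all exceptional groups.** -/
theorem exc_five {G : Type*} [Group G] [Finite G] (hG : IsExceptionalLieType G) {p : ℕ} [hp : Fact p.Prime]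
    (h5 : 5 ≤ p) : H790.ExcAb.AbP p G ∨ ExcChar p G ∨ FullP p G ∨ RestFive p G := by
  rcases H790.ExcAb.exc_five hG h5 with h | h | h
  · exact Or.inl h
  · exact Or.inr (Or.inl h)
  · exact Or.inr (Or.inr (fullP_of_nonab h))

theorem ne_zero_of_not_dvd {F : Type*} [Field F] [Fintype F] (h : ¬ 3 ∣ Fintype.card F) : (3 : F) ≠ 0 :=
  ExcFour.three_ne rfl fun h1 => h (Nat.dvd_of_mod_eq_zero h1)

/-- the rows for `p = 3` treated elsewhere -/
inductive RestThree (G : Type*) [Group G] : Prop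
  | g2 (F : Type) [Field F] [Fintype F] (h3 : 3 ≤ Fintype.card F) (h : ¬ 3 ∣ Fintype.card F)
      (e : Nonempty (G ≃* chevG2.group F))
  | d4 (K : Type) [Field K] [Fintype K] (q : ℕ) (hq : IsPrimePow q) (hK : Fintype.card K = q ^ 3) (h : ¬ 3 ∣ q)
      (e : Nonempty (G ≃* twistedD4 K q))
  | ree (h : IsoRee G)
  | twF4 (h : Iso2F4 G)
  | tits (h : IsoTits G)

/-- **`p = 3`, all exceptional groups.** -/
theorem exc_three {G : Type*} [Group G] [Finite G] (hG : IsExceptionalLieType G) :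
    FullP 3 G ∨ ExcChar 3 G ∨ IsoSuzuki G ∨ RestThree G := by
  have h3p : Fact (Nat.Prime 3) := ⟨Nat.prime_three⟩
  rcases hG with ⟨F, _, _, h3, e⟩ | ⟨F, _, _, e⟩ | ⟨F, _, _, e⟩ | ⟨F, _, _, e⟩ | ⟨F, _, _, e⟩ |
    ⟨K, _, _, q, hq, hK, e⟩ | ⟨K, _, _, q, hq, hK, e⟩ | hS | hR | hF | hT
  · by_cases h : 3 ∣ Fintype.card F
    · have := charP_of_dvd Nat.prime_three h
      exact Or.inr (Or.inl (.untw F (Or.inl ⟨h3, e⟩)))
    · exact Or.inr (Or.inr (Or.inr (.g2 F h3 h e)))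
  · by_cases h : 3 ∣ Fintype.card F
    · have := charP_of_dvd Nat.prime_three h
      exact Or.inr (Or.inl (.untw F (Or.inr (Or.inl e))))
    · exact Or.inl (fullP_of_concl (ExcRows.f4_three (ne_zero_of_not_dvd h)) e)
  · by_cases h : 3 ∣ Fintype.card F
    · have := charP_of_dvd Nat.prime_three h
      exact Or.inr (Or.inl (.untw F (Or.inr (Or.inr (Or.inl e)))))
    · exact Or.inl (fullP_of_concl (ExcFour.e6_all (ne_zero_of_not_dvd h)) e)
  · by_cases h : 3 ∣ Fintype.card F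
    · have := charP_of_dvd Nat.prime_three h
      exact Or.inr (Or.inl (.untw F (Or.inr (Or.inr (Or.inr (Or.inl e))))))
    · exact Or.inl (fullP_of_concl (ExcRows.e7_three (ne_zero_of_not_dvd h)) e)
  · by_cases h : 3 ∣ Fintype.card F
    · have := charP_of_dvd Nat.prime_three h
      exact Or.inr (Or.inl (.untw F (Or.inr (Or.inr (Or.inr (Or.inr e))))))
    · exact Or.inl (fullP_of_concl (ExcRows.e8_three (ne_zero_of_not_dvd h)) e)
  · by_cases h : 3 ∣ q
    · have := charP_of_dvd (F := K) Nat.prime_three (by rw [hK]; exact h.trans (dvd_pow_self q two_ne_zero))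
      exact Or.inr (Or.inl (.tw K q hq (Or.inl ⟨hK, e⟩)))
    · exact Or.inl (fullP_of_concl (ExcFour.tw_all hq hK h) e)
  · by_cases h : 3 ∣ q
    · have := charP_of_dvd (F := K) Nat.prime_three (by rw [hK]; exact h.trans (dvd_pow_self q three_ne_zero))
      exact Or.inr (Or.inl (.tw K q hq (Or.inr ⟨hK, e⟩)))
    · exact Or.inr (Or.inr (Or.inr (.d4 K q hq hK h e)))
  · exact Or.inr (Or.inr (Or.inl hS))
  · exact Or.inr (Or.inr (Or.inr (.ree hR)))
  · exact Or.inr (Or.inr (Or.inr (.twF4 hF)))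
  · exact Or.inr (Or.inr (Or.inr (.tits hT)))

end Cfsg.Agent.H629.ExcFinal
end

-- part: H629/ExcFinal_mg
section

end

-- part: H790/RestFive
section
set_option linter.all false

/-!
# The row `E₈(q)`, `p = 5`, `q² ≡ -1 mod 5` (helper790)
-/

set_option autoImplicit false

namespace Cfsg.Agent.H790.RestFive

open Cfsg Cfsg.Lie

/-- **the remaining row of `H629.ExcFinal.exc_five`** -/
theorem rest_five {p : ℕ} {G : Type*} [Group G] (h : H629.ExcFinal.RestFive p G) : H749.FullP p G := by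
  obtain ⟨rfl, F, _, _, h5, ⟨e⟩⟩ := h
  exact (E8Main.fullP_e8 h5).of_mulEquiv e.symm

end Cfsg.Agent.H790.RestFive
end
end
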