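import Mathlib
import Cfsg.Agent.Transfer.CentralTransfer
import Cfsg.Agent.FastGrp
import Cfsg.Agent.Prune
set_option linter.all false
prune_inst 0x7f00000000000000000000000000000000000000000000000000000000000000000000000000000000000000000000000000000000000000000000000000000000000000000000000000000000000000003fffffffffffffffffffffffffffbeffbdffffffff
open scoped Cfsg.Agent.FastGrp

/-!
# Groups with a centre of index `p²`, and transfer at central elements

* `card_commutator`: a non-abelian group `P` with `[P : Z(P)] = p²` has `|P'| = p`.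
* `pow_mem_center`: the `p`-th powers of such a group are central.
* `mem_commutator_of_perfect`: in a perfect group the elements of a Sylow `p`-subgroup `P` which are central in the
  whole group lie in `P'`.
-/

set_option autoImplicit false

namespace Cfsg.Agent.H629.PIndex

open Subgroup
open scoped commutatorElement

section index

variable {P : Type*} [Group P] {p : ℕ}

theorem comm_of_cyclic_quot (h : IsCyclic (P ⧸ center P)) : IsMulCommutative P :=
  MonoidHom.isMulCommutative_of_isCyclic_of_ker_le_center (QuotientGroup.mk' (center P))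
    (by rw [QuotientGroup.ker_mk'])

variable [hp : Fact p.Prime]

/-- `p`-th powers are central. -/
theorem pow_mem_center (hna : ¬ IsMulCommutative P) (hZ : (center P).index = p ^ 2) (x : P) :
    x ^ p ∈ center P := by
  have hcard : Nat.card (P ⧸ center P) = p ^ 2 := hZ
  have : Finite (P ⧸ center P) := Nat.finite_of_card_ne_zero (by rw [hcard]; exact pow_ne_zero _ hp.out.ne_zero)
  have h1 : orderOf (x : P ⧸ center P) ∣ p ^ 2 := hcard ▸ orderOf_dvd_natCard _
  obtain ⟨k, hk, hk'⟩ := (Nat.dvd_prime_pow hp.out).1 h1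
  have hk2 : k ≠ 2 := by
    rintro rfl
    apply hna
    apply comm_of_cyclic_quot
    exact isCyclic_of_orderOf_eq_card (x : P ⧸ center P) (by rw [hk', hcard])
  have hk1 : k ≤ 1 := by omega
  have h2 : (x : P ⧸ center P) ^ p = 1 := by
    apply orderOf_dvd_iff_pow_eq_one.1
    rw [hk']
    calc p ^ k ∣ p ^ 1 := pow_dvd_pow p hk1
      _ = p := pow_one p
  rw [← QuotientGroup.mk_pow] at h2
  exact (QuotientGroup.eq_one_iff _).1 h2

theorem commutatorElement_mem_center (hZ : (center P).index = p ^ 2) (x y : P) : ⁅x, y⁆ ∈ center P := by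
  have hcard : Nat.card (P ⧸ center P) = p ^ 2 := hZ
  have hcm : ∀ a b : P ⧸ center P, a * b = b * a := by
    intro a b
    exact (IsPGroup.isMulCommutative_of_card_eq_prime_sq hcard).is_comm.comm a b
  have h1 : ((⁅x, y⁆ : P) : P ⧸ center P) = 1 := by
    rw [commutatorElement_def, QuotientGroup.mk_mul, QuotientGroup.mk_mul, QuotientGroup.mk_mul, QuotientGroup.mk_inv,
      QuotientGroup.mk_inv, hcm (x : P ⧸ center P) (y : P ⧸ center P)]
    group
  exact (QuotientGroup.eq_one_iff _).1 h1

/-- two non-commuting elements generate `P` modulo the centre -/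
theorem closure_sup_center (hZ : (center P).index = p ^ 2) {a b : P} (hab : a * b ≠ b * a) :
    closure {a, b} ⊔ center P = ⊤ := by
  have hfin : (center P).FiniteIndex := ⟨by rw [hZ]; exact pow_ne_zero _ hp.out.ne_zero⟩
  set A : Subgroup P := zpowers a ⊔ center P with hA
  set K : Subgroup P := closure {a, b} ⊔ center P with hK
  have hZA : center P ≤ A := le_sup_right
  have hAK : A ≤ K := by
    apply sup_le_sup_right
    rw [zpowers_le]
    exact subset_closure (by simp)
  have hac : A ≤ centralizer {a} := by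
    apply sup_le
    · rw [zpowers_le, mem_centralizer_singleton_iff]
    · exact center_le_centralizer _
  have haZ : a ∉ center P := by
    intro h
    exact hab (mem_center_iff.1 h b).symm
  have hbA : b ∉ A := by
    intro h
    have := mem_centralizer_singleton_iff.1 (hac h)
    exact hab this.symm
  have h1 : (center P).relIndex A * A.relIndex K * K.index = p ^ 2 := by
    rw [relIndex_mul_relIndex _ _ _ hZA hAK, relIndex_mul_index (hZA.trans hAK), hZ]
  have h2 : (center P).relIndex A ≠ 1 := by
    intro h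
    rw [relIndex_eq_one] at h
    exact haZ (h (le_sup_left (a := zpowers a) (mem_zpowers a)))
  have h3 : A.relIndex K ≠ 1 := by
    intro h
    rw [relIndex_eq_one] at h
    exact hbA (h (le_sup_left (a := closure {a, b}) (subset_closure (by simp))))
  have d2 : p ∣ (center P).relIndex A := by
    obtain ⟨k, -, hk⟩ := (Nat.dvd_prime_pow hp.out).1
      (Dvd.intro (A.relIndex K * K.index) (by rw [← mul_assoc]; exact h1) : (center P).relIndex A ∣ p ^ 2)
    rw [hk]
    apply dvd_pow_self
    rintro rfl
    exact h2 (by rw [hk, pow_zero])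
  have d3 : p ∣ A.relIndex K := by
    obtain ⟨k, -, hk⟩ := (Nat.dvd_prime_pow hp.out).1
      (Dvd.intro ((center P).relIndex A * K.index) (by rw [← h1]; ring) : A.relIndex K ∣ p ^ 2)
    rw [hk]
    apply dvd_pow_self
    rintro rfl
    exact h3 (by rw [hk, pow_zero])
  obtain ⟨u, hu⟩ := d2
  obtain ⟨v, hv⟩ := d3
  rw [hu, hv] at h1
  have h4 : u * v * K.index = 1 := by
    have h5 : p ^ 2 * (u * v * K.index) = p ^ 2 * 1 := by
      rw [mul_one]
      calc p ^ 2 * (u * v * K.index) = p * u * (p * v) * K.index := by ring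
        _ = p ^ 2 := h1
    exact Nat.eq_of_mul_eq_mul_left (pow_pos hp.out.pos 2) h5
  exact index_eq_one.1 (Nat.eq_one_of_mul_eq_one_left h4)

/-- the commutator subgroup is generated by one commutator -/
theorem commutator_eq_zpowers (hZ : (center P).index = p ^ 2) {a b : P} (hab : a * b ≠ b * a) :
    commutator P = zpowers ⁅a, b⁆ := by
  have hc : ⁅a, b⁆ ∈ center P := commutatorElement_mem_center hZ a b
  have hCn : (zpowers ⁅a, b⁆).Normal := by
    refine ⟨fun n hn g => ?_⟩
    have h1 : n ∈ center P := (zpowers_le.2 hc) hn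
    rw [mem_center_iff.1 h1 g, mul_inv_cancel_right]
    exact hn
  apply le_antisymm
  · have htop := closure_sup_center hZ hab
    have key : ∀ y : P, ⁅a, y⁆ ∈ zpowers ⁅a, b⁆ → ⁅b, y⁆ ∈ zpowers ⁅a, b⁆ → ∀ x : P, ⁅x, y⁆ ∈ zpowers ⁅a, b⁆ := by
      intro y h1 h2 x
      have hx : x ∈ closure {a, b} ⊔ center P := by rw [htop]; exact mem_top x
      have hle : closure {a, b} ⊔ center P ≤
          (centralizer {(y : P ⧸ zpowers ⁅a, b⁆)}).comap (QuotientGroup.mk' (zpowers ⁅a, b⁆)) := by
        have hmem : ∀ g : P, ⁅g, y⁆ ∈ zpowers ⁅a, b⁆ →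
            g ∈ (centralizer {(y : P ⧸ zpowers ⁅a, b⁆)}).comap (QuotientGroup.mk' (zpowers ⁅a, b⁆)) := by
          intro g hg
          rw [mem_comap, mem_centralizer_singleton_iff, QuotientGroup.mk'_apply]
          have h3 : ((⁅g, y⁆ : P) : P ⧸ zpowers ⁅a, b⁆) = 1 := (QuotientGroup.eq_one_iff _).2 hg
          have h4 : ⁅(g : P ⧸ zpowers ⁅a, b⁆), (y : P ⧸ zpowers ⁅a, b⁆)⁆ = 1 := h3
          exact commutatorElement_eq_one_iff_mul_comm.1 h4
        apply sup_le
        · rw [closure_le]
          rintro g (rfl | rfl)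
          · exact hmem _ h1
          · exact hmem _ h2
        · intro g hg
          apply hmem
          have h5 : ⁅g, y⁆ = 1 := commutatorElement_eq_one_iff_mul_comm.2 (mem_center_iff.1 hg y).symm
          rw [h5]
          exact one_mem _
      have h6 := hle hx
      rw [mem_comap, mem_centralizer_singleton_iff, QuotientGroup.mk'_apply] at h6
      have h7 : ⁅(x : P ⧸ zpowers ⁅a, b⁆), (y : P ⧸ zpowers ⁅a, b⁆)⁆ = 1 := commutatorElement_eq_one_iff_mul_comm.2 h6
      exact (QuotientGroup.eq_one_iff _).1 h7
    have hinv : ∀ x y : P, ⁅x, y⁆ ∈ zpowers ⁅a, b⁆ → ⁅y, x⁆ ∈ zpowers ⁅a, b⁆ := by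
      intro x y h
      have h' := inv_mem h
      rwa [commutatorElement_inv] at h'
    have ha : ∀ x : P, ⁅x, a⁆ ∈ zpowers ⁅a, b⁆ :=
      key a (by rw [commutatorElement_self]; exact one_mem _) (hinv _ _ (mem_zpowers _))
    have hb : ∀ x : P, ⁅x, b⁆ ∈ zpowers ⁅a, b⁆ :=
      key b (mem_zpowers _) (by rw [commutatorElement_self]; exact one_mem _)
    have hall : ∀ x y : P, ⁅x, y⁆ ∈ zpowers ⁅a, b⁆ := fun x y =>
      key y (hinv _ _ (ha y)) (hinv _ _ (hb y)) x
    rw [_root_.commutator_def, commutator_le]
    exact fun x _ y _ => hall x y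
  · rw [zpowers_le]
    exact commutator_mem_commutator (mem_top a) (mem_top b)

theorem pow_commutatorElement (hna : ¬ IsMulCommutative P) (hZ : (center P).index = p ^ 2) (a b : P) :
    ⁅a, b⁆ ^ p = 1 := by
  -- `⁅a ^ n, b⁆ = ⁅a, b⁆ ^ n`
  have h : ∀ n : ℕ, ⁅a ^ n, b⁆ = ⁅a, b⁆ ^ n := by
    intro n
    induction n with
    | zero => simp
    | succ n ih =>
      have hc : ⁅a, b⁆ ∈ center P := commutatorElement_mem_center hZ a b
      have h1 : ⁅a ^ (n + 1), b⁆ = a * ⁅a ^ n, b⁆ * a⁻¹ * ⁅a, b⁆ := by
        rw [pow_succ', commutatorElement_def, commutatorElement_def, commutatorElement_def]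
        group
      have h2 := mem_center_iff.1 ((center P).pow_mem hc n) a
      rw [h1, ih, h2, mul_inv_cancel_right, ← pow_succ]
  rw [← h p]
  exact commutatorElement_eq_one_iff_mul_comm.2 (mem_center_iff.1 (pow_mem_center hna hZ a) b).symm

/-- **`|P'| = p` if `P` is not abelian and `[P : Z(P)] = p²`.** -/
theorem card_commutator (hna : ¬ IsMulCommutative P) (hZ : (center P).index = p ^ 2) :
    Nat.card (commutator P) = p := by
  obtain ⟨a, b, hab⟩ : ∃ a b : P, a * b ≠ b * a := by
    by_contra hcon
    push Not at hcon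
    exact hna ⟨⟨hcon⟩⟩
  rw [commutator_eq_zpowers hZ hab, Nat.card_zpowers]
  apply orderOf_eq_prime (pow_commutatorElement hna hZ a b)
  intro h
  exact hab (commutatorElement_eq_one_iff_mul_comm.1 h)

theorem commutator_le_center (hZ : (center P).index = p ^ 2) : commutator P ≤ center P := by
  rw [_root_.commutator_def, commutator_le]
  exact fun x _ y _ => commutatorElement_mem_center hZ x y

end index

/-- **Transfer.** In a perfect group the elements of a Sylow `p`-subgroup `P` that are central in the group are in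
the commutator subgroup of `P`. -/
theorem mem_commutator_of_perfect {G : Type*} [Group G] [Finite G] {p : ℕ} [hp : Fact p.Prime]
    (hG : commutator G = ⊤) (P : Sylow p G) (z : (P : Subgroup G)) (hz : (z : G) ∈ center G) :
    z ∈ commutator (P : Subgroup G) := by
  have h1 := Cfsg.Agent.Transfer.CentralTransfer.map_pow_index_eq_one_of_perfect hG
    (Abelianization.of (G := (P : Subgroup G))) z hz
  rw [← map_pow] at h1
  have h2 : z ^ (P : Subgroup G).index ∈ commutator (P : Subgroup G) := by
    rw [← Abelianization.ker_of]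
    exact h1
  have hcop : (orderOf z).Coprime (P : Subgroup G).index := by
    obtain ⟨k, hk⟩ := (IsPGroup.iff_orderOf.1 P.2) z
    rw [hk]
    exact Nat.Coprime.pow_left k ((Nat.Prime.coprime_iff_not_dvd hp.out).2 P.not_dvd_index)
  obtain ⟨m, hm⟩ := exists_pow_eq_self_of_coprime hcop.symm
  rw [← hm]
  exact pow_mem h2 m

end Cfsg.Agent.H629.PIndex
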